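import Cfsg.Agent.Lib.CentrallyLarge.Basic
import Mathlib.GroupTheory.PGroup
import Mathlib.GroupTheory.Sylow

/-!
Small tools: central elements of exponent two, subgroups of exponent two, fixed points.
-/

set_option autoImplicit false
set_option linter.style.haveILetI false
set_option linter.unusedSectionVars false

namespace Cfsg.Agent.LenEight

universe u

variable {G : Type u} [Group G]

/-- The central elements of exponent two of `H`. -/
def omegaZ (H : Subgroup G) : Subgroup G where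
  carrier := {x | x ∈ H ∧ x * x = 1 ∧ ∀ d ∈ H, d * x = x * d}
  one_mem' := ⟨one_mem H, one_mul 1, fun d _ => by rw [mul_one, one_mul]⟩
  mul_mem' := fun {a b} ha hb => ⟨mul_mem ha.1 hb.1, by
      calc a * b * (a * b) = a * (b * a) * b := by group
        _ = a * (a * b) * b := by rw [ha.2.2 b hb.1]
        _ = (a * a) * (b * b) := by group
        _ = 1 := by rw [ha.2.1, hb.2.1, mul_one],
    fun d hd => (Commute.mul_right (ha.2.2 d hd) (hb.2.2 d hd)).eq⟩
  inv_mem' := fun {a} ha => ⟨inv_mem ha.1, by rw [← mul_inv_rev, ha.2.1, inv_one],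
    fun d hd => (Commute.inv_right (ha.2.2 d hd)).eq⟩

theorem mem_omegaZ {H : Subgroup G} {x : G} :
    x ∈ omegaZ H ↔ x ∈ H ∧ x * x = 1 ∧ ∀ d ∈ H, d * x = x * d := Iff.rfl

theorem omegaZ_le (H : Subgroup G) : omegaZ H ≤ H := fun _ hx => hx.1

theorem omegaZ_conj {H : Subgroup G} {g x : G} (hg : g ∈ Subgroup.normalizer (H : Set G))
    (hx : x ∈ omegaZ H) : g * x * g⁻¹ ∈ omegaZ H := by
  refine ⟨(Subgroup.mem_normalizer_iff.1 hg x).1 hx.1, ?_, fun d hd => ?_⟩
  · calc g * x * g⁻¹ * (g * x * g⁻¹) = g * (x * x) * g⁻¹ := by group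
      _ = 1 := by rw [hx.2.1]; group
  · have h := hx.2.2 _ ((Subgroup.mem_normalizer_iff''.1 hg d).1 hd)
    calc d * (g * x * g⁻¹) = g * (g⁻¹ * d * g * x) * g⁻¹ := by group
      _ = g * (x * (g⁻¹ * d * g)) * g⁻¹ := by rw [h]
      _ = g * x * g⁻¹ * d := by group

theorem omegaZ_normalizer (H : Subgroup G) :
    Subgroup.normalizer (H : Set G) ≤ Subgroup.normalizer (omegaZ H : Set G) := by
  intro g hg
  rw [Subgroup.mem_normalizer_iff]
  refine fun x => ⟨omegaZ_conj hg, fun hx => ?_⟩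
  have := omegaZ_conj (inv_mem hg) hx
  rwa [show g⁻¹ * (g * x * g⁻¹) * g⁻¹⁻¹ = x by group] at this

/-- Elements of exponent two commute. -/
theorem comm_of_exp_two {H : Subgroup G} (h : ∀ x ∈ H, x * x = 1) {a b : G} (ha : a ∈ H)
    (hb : b ∈ H) : a * b = b * a := by
  have h1 := inv_eq_of_mul_eq_one_right (h _ (mul_mem ha hb))
  rw [mul_inv_rev, inv_eq_of_mul_eq_one_right (h a ha), inv_eq_of_mul_eq_one_right (h b hb)] at h1
  exact h1.symm

variable [Finite G]

theorem card_sup_mul_inf {A B : Subgroup G} (h : A ≤ Subgroup.normalizer (B : Set G)) :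
    Nat.card ↥(A ⊔ B) * Nat.card ↥(A ⊓ B) = Nat.card A * Nat.card B :=
  CLarge.card_of_coe_sup_eq (Subgroup.coe_mul_of_left_le_normalizer_right _ _ h)

theorem sup_exp_two {A B : Subgroup G} (hA : ∀ x ∈ A, x * x = 1) (hB : ∀ x ∈ B, x * x = 1)
    (hc : ∀ a ∈ A, ∀ b ∈ B, a * b = b * a) : ∀ x ∈ A ⊔ B, x * x = 1 := by
  intro x hx
  have hn : A ≤ Subgroup.normalizer (B : Set G) := fun a ha =>
    Subgroup.centralizer_le_normalizer _ (Subgroup.mem_centralizer_iff.2 fun b hb => (hc a ha b hb).symm)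
  rw [← SetLike.mem_coe, Subgroup.coe_mul_of_left_le_normalizer_right A B hn] at hx
  obtain ⟨a, ha, b, hb, rfl⟩ := Set.mem_mul.1 hx
  calc a * b * (a * b) = a * (b * a) * b := by group
    _ = a * (a * b) * b := by rw [hc a ha b hb]
    _ = (a * a) * (b * b) := by group
    _ = 1 := by rw [hA a ha, hB b hb, mul_one]

theorem zpowers_exp_two {z : G} (hz : z * z = 1) : ∀ x ∈ Subgroup.zpowers z, x * x = 1 := by
  rintro _ ⟨n, rfl⟩
  show z ^ n * z ^ n = 1
  rw [← (Commute.refl z).mul_zpow, hz, one_zpow]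

/-- A nontrivial 2-subgroup normalised by a 2-group contains an involution centralised by it. -/
theorem exists_fixed_involution {U C : Subgroup G} (hU : IsPGroup 2 U) (hC : IsPGroup 2 C)
    (hC1 : C ≠ ⊥) (hn : U ≤ Subgroup.normalizer (C : Set G)) :
    ∃ e ∈ C, e ≠ 1 ∧ e * e = 1 ∧ ∀ u ∈ U, u * e = e * u := by
  classical
  haveI : Fact (Nat.Prime 2) := ⟨Nat.prime_two⟩
  letI : MulAction U C :=
    { smul := fun u x => ⟨(u : G) * x * (u : G)⁻¹, (Subgroup.mem_normalizer_iff.1 (hn u.2) x).1 x.2⟩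
      one_smul := fun x => Subtype.ext (by show ((1 : U) : G) * x * ((1 : U) : G)⁻¹ = x; simp)
      mul_smul := fun u v x => Subtype.ext (by
        show ((u * v : U) : G) * x * ((u * v : U) : G)⁻¹ = u * (v * x * (v : G)⁻¹) * (u : G)⁻¹
        rw [Subgroup.coe_mul]; group) }
  have h2 : 2 ∣ Nat.card C := by
    obtain ⟨j, hj⟩ := IsPGroup.iff_card.1 hC
    refine hj ▸ dvd_pow_self 2 (fun h => hC1 (Subgroup.card_eq_one.1 (by rw [hj, h, pow_zero])))
  obtain ⟨x, hx, hne⟩ := hU.exists_fixed_point_of_prime_dvd_card_of_fixed_point _ h2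
    (a := (1 : C)) (fun u => Subtype.ext (by show (u : G) * ((1 : C) : G) * (u : G)⁻¹ = ((1 : C) : G); simp))
  obtain ⟨n, hn'⟩ := hC x
  have hex : ∃ i, x ^ 2 ^ i = 1 := ⟨n, hn'⟩
  have h0 : Nat.find hex ≠ 0 := fun h => hne (by simpa [h] using (Nat.find_spec hex).symm)
  have hc : ∀ u ∈ U, u * (x : G) = x * u := fun u hu =>
    mul_inv_eq_iff_eq_mul.1 (congrArg Subtype.val (hx ⟨u, hu⟩))
  refine ⟨(x : G) ^ 2 ^ (Nat.find hex - 1), pow_mem x.2 _, ?_, ?_, fun u hu => Commute.pow_right (hc u hu) _⟩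
  · intro h
    exact Nat.find_min hex (show Nat.find hex - 1 < Nat.find hex by omega) (Subtype.ext h)
  · rw [← pow_add, ← two_mul, ← pow_succ', Nat.sub_add_cancel (Nat.one_le_iff_ne_zero.2 h0)]
    exact congrArg Subtype.val (Nat.find_spec hex)

end Cfsg.Agent.LenEight
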