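import Cfsg.Agent.Lib.Transfer.Basic
import Cfsg.Agent.Lib.Fusion.AlperinGroup
import Cfsg.Agent.Lib.Transfer.Fusion
import Mathlib.GroupTheory.Sylow
import Mathlib.GroupTheory.Nilpotent

/-!
Chains of subgroups in a simple group of length eight with Sylow 2-subgroups of order `2 ^ 7`,
and the existence of a 2-constrained local subgroup with a self-centralising 2-core.
-/

set_option autoImplicit false
set_option linter.style.haveILetI false
set_option linter.unusedSectionVars false

namespace Cfsg.Agent.LenEight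

open Cfsg.Agent

universe u

variable {G : Type u} [Group G]

/-- `M` is the top of a chain with `n` steps. -/
def HasLen (M : Subgroup G) (n : ℕ) : Prop :=
  ∃ c : Fin (n + 1) → Subgroup G, StrictAnti c ∧ c 0 = M

theorem HasLen.zero (M : Subgroup G) : HasLen M 0 :=
  ⟨fun _ => M, fun i j h => absurd h (by omega), rfl⟩

theorem HasLen.step {M N : Subgroup G} {n : ℕ} (h : HasLen M n) (hlt : M < N) :
    HasLen N (n + 1) := by
  obtain ⟨c, hc, h0⟩ := h
  refine ⟨Fin.cons N c, ?_, Fin.cons_zero _ _⟩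
  rw [Fin.strictAnti_iff_succ_lt]
  intro i
  refine Fin.cases ?_ (fun j => ?_) i
  · simpa [h0] using hlt
  · rw [Fin.castSucc_succ, Fin.cons_succ, Fin.cons_succ]
    exact hc (Fin.castSucc_lt_succ (i := j))

theorem hasLen_of_card [Finite G] {k : ℕ} :
    ∀ {P : Subgroup G}, Nat.card P = 2 ^ k → HasLen P k := by
  haveI : Fact (Nat.Prime 2) := ⟨Nat.prime_two⟩
  induction k with
  | zero => intro P _; exact HasLen.zero P
  | succ k ih =>
    intro P hP
    obtain ⟨Q, hQ⟩ := Sylow.exists_subgroup_card_pow_prime (G := ↥P) 2 (n := k)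
      (hP ▸ pow_dvd_pow 2 (Nat.le_succ k))
    have hQc : Nat.card (Q.map P.subtype) = 2 ^ k := by
      rw [Subgroup.card_map_of_injective P.subtype_injective, hQ]
    refine (ih hQc).step (lt_of_le_of_ne (Subgroup.map_subtype_le Q) fun he => ?_)
    rw [he, hP, pow_succ] at hQc
    have : 0 < 2 ^ k := by positivity
    omega

/-- The hypotheses of the statement. -/
structure Len8 (S : Sylow 2 G) : Prop where
  nonab : ¬ IsMulCommutative G
  len : ∀ c : Fin 10 → Subgroup G, ¬ StrictAnti c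
  card : Nat.card ↥(S : Subgroup G) = 2 ^ 7

variable [Finite G] [IsSimpleGroup G] {S : Sylow 2 G}

theorem Len8.other (h : Len8 S) (R : Sylow 2 G) : Len8 R :=
  ⟨h.nonab, h.len, by
    haveI : Fact (Nat.Prime 2) := ⟨Nat.prime_two⟩
    rw [R.card_eq_multiplicity, ← S.card_eq_multiplicity, h.card]⟩

theorem Len8.le (h : Len8 S) {M : Subgroup G} (hM : M ≠ ⊤) {n : ℕ} (hn : HasLen M n) : n ≤ 7 := by
  by_contra hc
  obtain ⟨c, hcs, -⟩ := hn.step (lt_top_iff_ne_top.2 hM)
  exact h.len (c ∘ Fin.castLE (show 10 ≤ n + 1 + 1 by omega))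
    (hcs.comp_strictMono (Fin.strictMono_castLE _))

theorem Len8.center_eq_bot (h : Len8 S) : Subgroup.center G = ⊥ := by
  rcases IsSimpleGroup.eq_bot_or_eq_top_of_normal (Subgroup.center G) inferInstance with h1 | h1
  · exact h1
  · exact absurd ⟨⟨fun a b => (Subgroup.mem_center_iff.1 (h1 ▸ Subgroup.mem_top a) b).symm⟩⟩ h.nonab

theorem Len8.not_isPGroup (h : Len8 S) : ¬ IsPGroup 2 G := by
  intro hp
  haveI : Fact (Nat.Prime 2) := ⟨Nat.prime_two⟩
  haveI : Nontrivial G := IsSimpleGroup.toNontrivial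
  haveI := hp.center_nontrivial
  exact (Subgroup.nontrivial_iff_ne_bot _).1 inferInstance h.center_eq_bot

theorem Len8.sylow_ne_top (h : Len8 S) : (S : Subgroup G) ≠ ⊤ := fun e =>
  h.not_isPGroup ((e ▸ S.isPGroup' : IsPGroup 2 (⊤ : Subgroup G)).of_equiv Subgroup.topEquiv)

theorem Len8.sylow_max (h : Len8 S) {M : Subgroup G} (hM : (S : Subgroup G) < M) : M = ⊤ := by
  by_contra hne
  have := h.le hne ((hasLen_of_card h.card).step hM)
  omega

theorem Len8.eq_sylow (h : Len8 S) {M : Subgroup G} (hM : (S : Subgroup G) ≤ M) (hne : M ≠ ⊤) :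
    M = (S : Subgroup G) :=
  (hM.eq_or_lt.resolve_right fun hlt => hne (h.sylow_max hlt)).symm

theorem normalizer_ne_top {X : Subgroup G} (h1 : X ≠ ⊥) (h2 : X ≠ ⊤) :
    Subgroup.normalizer (X : Set G) ≠ ⊤ := fun e => by
  have : X.Normal := Subgroup.normalizer_eq_top_iff.1 e
  rcases IsSimpleGroup.eq_bot_or_eq_top_of_normal X this with h | h
  · exact h1 h
  · exact h2 h

theorem Len8.centralizer_ne_top (h : Len8 S) {x : G} (hx : x ≠ 1) :
    Subgroup.centralizer ({x} : Set G) ≠ ⊤ := fun e => by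
  have : x ∈ Subgroup.center G := Subgroup.mem_center_iff.2 fun y =>
    Subgroup.mem_centralizer_singleton_iff.1 (e ▸ Subgroup.mem_top y)
  rw [h.center_eq_bot, Subgroup.mem_bot] at this
  exact hx this

/-- The centraliser of a central element of a Sylow subgroup is that Sylow subgroup. -/
theorem Len8.centralizer_eq (h : Len8 S) {z : G} (hz1 : z ≠ 1)
    (hz : ∀ s ∈ (S : Subgroup G), s * z = z * s) :
    Subgroup.centralizer ({z} : Set G) = (S : Subgroup G) :=
  h.eq_sylow (fun s hs => Subgroup.mem_centralizer_singleton_iff.2 (hz s hs))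
    (h.centralizer_ne_top hz1)

theorem Len8.mem_sylow_of_comm (h : Len8 S) {z : G} (hz1 : z ≠ 1)
    (hz : ∀ s ∈ (S : Subgroup G), s * z = z * s) {x : G} (hx : x * z = z * x) :
    x ∈ (S : Subgroup G) := by
  rw [← h.centralizer_eq hz1 hz]; exact Subgroup.mem_centralizer_singleton_iff.2 hx

theorem Len8.normalizer_eq (h : Len8 S) {X : Subgroup G} (hX : X ≠ ⊥) (hXS : X ≤ (S : Subgroup G))
    (hn : (S : Subgroup G) ≤ Subgroup.normalizer (X : Set G)) :
    Subgroup.normalizer (X : Set G) = (S : Subgroup G) :=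
  h.eq_sylow hn (normalizer_ne_top hX fun e => h.sylow_ne_top (top_le_iff.1 (e ▸ hXS)))

theorem Len8.exists_central (h : Len8 S) :
    ∃ z : G, orderOf z = 2 ∧ z ∈ (S : Subgroup G) ∧ ∀ s ∈ (S : Subgroup G), s * z = z * s := by
  haveI : Fact (Nat.Prime 2) := ⟨Nat.prime_two⟩
  haveI : Nontrivial (S : Subgroup G) := Finite.one_lt_card_iff_nontrivial.1 (by rw [h.card]; norm_num)
  haveI := S.isPGroup'.center_nontrivial
  obtain ⟨n, hn0, hn⟩ := (IsPGroup.nontrivial_iff_card
    (S.isPGroup'.to_subgroup (Subgroup.center (S : Subgroup G)))).1 inferInstance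
  obtain ⟨c, hc⟩ := exists_prime_orderOf_dvd_card' (G := ↥(Subgroup.center (S : Subgroup G))) 2
    (hn ▸ dvd_pow_self 2 hn0.ne')
  refine ⟨((c : (S : Subgroup G)) : G), by rw [Subgroup.orderOf_coe, Subgroup.orderOf_coe, hc],
    (c : (S : Subgroup G)).2, fun s hs => ?_⟩
  exact congrArg Subtype.val (Subgroup.mem_center_iff.1 c.2 ⟨s, hs⟩)

/-- Proper subgroups which are not 2-groups but have a normal 2-subgroup with 2-group centraliser. -/
def Fam (M : Subgroup G) : Prop :=
  M ≠ ⊤ ∧ ¬ IsPGroup 2 M ∧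
    ∃ D : Subgroup G, D ≤ M ∧ M ≤ Subgroup.normalizer (D : Set G) ∧ IsPGroup 2 D ∧
      IsPGroup 2 ↥(Subgroup.centralizer (D : Set G))

/-- A normaliser in the family. -/
theorem fam_normalizer {D : Subgroup G} (hD1 : D ≠ ⊥) (hDt : D ≠ ⊤) (hD : IsPGroup 2 D)
    (hC : IsPGroup 2 ↥(Subgroup.centralizer (D : Set G)))
    (hN : ¬ IsPGroup 2 ↥(Subgroup.normalizer (D : Set G))) :
    Fam (Subgroup.normalizer (D : Set G)) :=
  ⟨normalizer_ne_top hD1 hDt, hN, D, Subgroup.le_normalizer, le_rfl, hD, hC⟩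

/-- The family is not empty. -/
theorem Len8.exists_fam (h : Len8 S) : ∃ M : Subgroup G, Fam M := by
  haveI : Fact (Nat.Prime 2) := ⟨Nat.prime_two⟩
  obtain ⟨z, hzo, hzS, hz⟩ := h.exists_central
  have hz1 : z ≠ 1 := fun e => by rw [e, orderOf_one] at hzo; norm_num at hzo
  by_contra hno
  have hloc : ∀ D : Subgroup G, AlperinGroup.Local S D →
      Subgroup.normalizer (D : Set G) ≤ (S : Subgroup G) := by
    rintro D ⟨hDS, hC, ⟨-, hDle, hcomm, -, hsup⟩, hidx⟩
    set N := Subgroup.normalizer (D : Set G) with hN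
    have hzN : z ∈ N := Subgroup.centralizer_le_normalizer _
      (Subgroup.mem_centralizer_iff.2 fun d hd => hz d (hDS hd))
    have hzD : z ∈ D := by
      have h1 := hC (Subgroup.mem_centralizer_iff.2 fun d hd => hz d (hDS hd))
      rw [← hsup] at h1
      set O := (Cfsg.pPrimeCore 2 ↥N).map N.subtype with hO
      have hON : D ≤ Subgroup.normalizer (O : Set G) := fun d hd => by
        rw [Subgroup.mem_normalizer_iff]
        intro x
        constructor
        · intro hx
          rwa [← hcomm x hx d hd, mul_inv_cancel_right]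
        · intro hx
          have := hcomm _ hx d hd
          have e : d * x * d⁻¹ = x := by
            calc d * x * d⁻¹ = d⁻¹ * (d * (d * x * d⁻¹)) := by group
              _ = d⁻¹ * ((d * x * d⁻¹) * d) := by rw [this]
              _ = x := by group
          rwa [e] at hx
      rw [← SetLike.mem_coe, Subgroup.coe_mul_of_right_le_normalizer_left O D hON] at h1
      obtain ⟨o, ho, d, hd, hod⟩ := Set.mem_mul.1 h1
      have hoS : o ∈ (S : Subgroup G) := by
        rw [eq_mul_inv_of_mul_eq hod]; exact mul_mem hzS (inv_mem (hDS hd))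
      have hcop : (Nat.card O).Coprime 2 := by
        rw [hO, Subgroup.card_map_of_injective N.subtype_injective]
        exact PBasic.pPrimeCore_coprime 2 _
      have ho1 : o = 1 := by
        rw [← Subgroup.mem_bot, ← PBasic.inf_eq_bot_of_coprime hcop S.isPGroup']
        exact ⟨ho, hoS⟩
      rw [← hod, ho1, one_mul]; exact hd
    have hC2 : IsPGroup 2 ↥(Subgroup.centralizer (D : Set G)) :=
      S.isPGroup'.to_le fun c hc => h.mem_sylow_of_comm hz1 hz
        ((Subgroup.mem_centralizer_iff.1 hc z hzD).symm)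
    have hN2 : IsPGroup 2 N := by
      by_contra hN2
      exact hno ⟨N, fam_normalizer (fun e => hz1 (by rwa [e, Subgroup.mem_bot] at hzD))
        (fun e => h.sylow_ne_top (top_le_iff.1 (e ▸ hDS))) (S.isPGroup'.to_le hDS) hC2 hN2⟩
    obtain ⟨n, hn⟩ := IsPGroup.iff_card.1 hN2
    have h1 : ((S : Subgroup G) ⊓ N).relIndex N ∣ 2 ^ n := hn ▸ Subgroup.relIndex_dvd_card _ _
    obtain ⟨i, -, hi⟩ := (Nat.dvd_prime_pow Nat.prime_two).1 h1
    rcases i with _ | i
    · exact (Subgroup.relIndex_eq_one.1 (hi.trans (pow_zero 2))).trans inf_le_left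
    · exact absurd (hi ▸ dvd_pow_self 2 (Nat.succ_ne_zero i)) hidx
  have hchain : ∀ (A : Set G) (g : G), AlperinGroup.Chain S A g →
      ∃ s ∈ (S : Subgroup G), ∀ a ∈ A, g⁻¹ * a * g = s⁻¹ * a * s := by
    intro A g hc
    induction hc with
    | @nil A c hc =>
      refine ⟨1, one_mem _, fun a ha => ?_⟩
      rw [mul_assoc, Subgroup.mem_centralizer_iff.1 hc a ha]; group
    | @cons A x g D hD hx hA _ ih =>
      obtain ⟨s, hs, hss⟩ := ih
      refine ⟨x * s, mul_mem (hloc D hD hx) hs, fun a ha => ?_⟩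
      have := hss _ ⟨a, ha, rfl⟩
      calc (x * g)⁻¹ * a * (x * g) = g⁻¹ * (x⁻¹ * a * x) * g := by group
        _ = s⁻¹ * (x⁻¹ * a * x) * s := this
        _ = (x * s)⁻¹ * a * (x * s) := by group
  have hnc : Cfsg.HasNormalPComplement 2 G := by
    refine Fusion.hasNormalPComplement_of_controlsFusion S fun x hx g hgx => ?_
    obtain ⟨s, hs, hss⟩ := hchain {x} g⁻¹ (AlperinGroup.exists_chain S
      (Set.singleton_subset_iff.2 hx) (by simpa using hgx))
    refine ⟨s⁻¹, inv_mem hs, ?_⟩
    have := hss x rfl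
    simpa using this.symm
  rw [PBasic.hasNormalPComplement_iff_inf S] at hnc
  haveI := PBasic.pResidual_characteristic 2 G
  rcases IsSimpleGroup.eq_bot_or_eq_top_of_normal (Cfsg.pResidual 2 G) inferInstance with hb | ht
  · apply h.not_isPGroup
    intro x
    obtain ⟨k, hk⟩ := PBasic.quotient_pResidual_isPGroup 2 G (x : G ⧸ Cfsg.pResidual 2 G)
    refine ⟨k, ?_⟩
    rwa [← QuotientGroup.mk_pow, QuotientGroup.eq_one_iff, hb, Subgroup.mem_bot] at hk
  · rw [ht] at hnc
    have : (S : Subgroup G) = ⊥ := by simpa using hnc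
    have hc := h.card
    rw [this, Subgroup.card_bot] at hc
    norm_num at hc

end Cfsg.Agent.LenEight
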