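import Cfsg.Agent.Lib.TwoGroups.CentFour
import Cfsg.Agent.Lib.Transfer.EngelTransfer
import Mathlib.GroupTheory.GroupAction.Quotient

/-!
Involution classes in 2-groups of maximal class and a parity form of the transfer.
-/

set_option autoImplicit false
set_option linter.style.haveILetI false
set_option linter.unusedSectionVars false

namespace Cfsg.Agent.LenEight

open Cfsg.Agent

universe u

section Classes

variable {Q : Type u} [Group Q] [Finite Q]

/-- The classes outside a cyclic subgroup of index two. -/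
theorem maxClass_data (hQ : IsPGroup 2 Q) {x : Q} (hx : orderOf x = 2)
    (hC : Nat.card ↥(Subgroup.centralizer ({x} : Set Q)) = 4) (h8 : 8 ≤ Nat.card Q)
    (c : Q) (hc : (Subgroup.zpowers c).index = 2) :
    x ∉ Subgroup.zpowers c ∧
      ∀ q : Q, q ∈ Subgroup.zpowers (c * c) → ∃ t : Q, t * x * t⁻¹ = x * q := by
  classical
  haveI : Fact (Nat.Prime 2) := ⟨Nat.prime_two⟩
  set A := Subgroup.zpowers c with hA
  haveI hAn : A.Normal := Subgroup.normal_of_index_eq_two hc
  have hxx : x * x = 1 := by rw [← pow_two, ← hx, pow_orderOf_eq_one]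
  have hAc : Nat.card A * 2 = Nat.card Q := by rw [← A.card_mul_index, hc]
  have hxA : x ∉ A := by
    intro hxA
    have hle : A ≤ Subgroup.centralizer ({x} : Set Q) := fun v hv => by
      rw [Subgroup.mem_centralizer_singleton_iff]
      obtain ⟨i, rfl⟩ := Subgroup.mem_zpowers_iff.1 hv
      obtain ⟨j, hj⟩ := Subgroup.mem_zpowers_iff.1 hxA
      rw [← hj, ← zpow_add, ← zpow_add, add_comm]
    have h4 := Subgroup.card_le_of_le hle
    have heq : A = Subgroup.centralizer ({x} : Set Q) := Subgroup.eq_of_le_of_card_ge hle (by omega)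
    -- then `x` is the involution of a normal cyclic group of order four, so central
    refine CentFour.not_mem_center hC h8 (Subgroup.mem_center_iff.2 fun t => ?_)
    have hA4 : orderOf c = 4 := by rw [← Nat.card_zpowers, ← hA, heq, hC]
    have huniq : ∀ v ∈ A, v ≠ 1 → v * v = 1 → v = c * c := by
      intro v hv h1 h2
      rw [hA, mem_zpowers_iff_mem_range_orderOf, hA4, Finset.mem_image] at hv
      obtain ⟨i, hi, rfl⟩ := hv
      rw [Finset.mem_range] at hi
      interval_cases i
      · exact absurd (pow_zero c) h1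
      · exfalso
        rw [pow_one] at h2
        have := orderOf_dvd_of_pow_eq_one (x := c) (n := 2) (by rw [pow_two]; exact h2)
        rw [hA4] at this
        norm_num at this
      · exact pow_two c
      · exfalso
        have h3 : c ^ 6 = 1 := by rw [show (6 : ℕ) = 3 + 3 from rfl, pow_add]; exact h2
        have := orderOf_dvd_of_pow_eq_one h3
        rw [hA4] at this
        norm_num at this
    have hx1 : x ≠ 1 := fun e => by rw [e, orderOf_one] at hx; norm_num at hx
    have hconj : t * x * t⁻¹ = x :=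
      (huniq _ (hAn.conj_mem x hxA t) (fun e => hx1 (conj_eq_one_iff.1 e))
        (by rw [show t * x * t⁻¹ * (t * x * t⁻¹) = t * (x * x) * t⁻¹ by group, hxx]; group)).trans
        (huniq x hxA hx1 hxx).symm
    exact mul_inv_eq_iff_eq_mul.1 hconj
  set A2 := Subgroup.zpowers (c * c) with hA2
  obtain ⟨m, hm⟩ := Subgroup.mem_zpowers_iff.1
    (show x * c * x⁻¹ ∈ A from hAn.conj_mem c (Subgroup.mem_zpowers c) x)
  have hodd : ∃ l : ℤ, m = 2 * l + 1 := by
    rcases Int.even_or_odd' m with ⟨l, hl | hl⟩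
    · exfalso
      -- `c` would be a square, hence trivial
      obtain ⟨n, hn⟩ := hQ c
      obtain ⟨e, -, he⟩ := (Nat.dvd_prime_pow Nat.prime_two).1 (orderOf_dvd_of_pow_eq_one hn)
      have hord : orderOf (x * c * x⁻¹) = orderOf c := by
        rw [show x * c * x⁻¹ = MulAut.conj x c from rfl, MulEquiv.orderOf_eq]
      rw [← hm, hl] at hord
      have he0 : e ≠ 0 := fun h => by
        rw [h, pow_zero, ← Nat.card_zpowers, ← hA] at he
        omega
      have hdiv : (c ^ (2 * l)) ^ (2 ^ (e - 1)) = 1 := by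
        rw [← zpow_natCast (c ^ (2 * l)), ← zpow_mul,
          show (2 * l) * ((2 ^ (e - 1) : ℕ) : ℤ) = ((2 ^ e : ℕ) : ℤ) * l by
            push_cast
            rw [show e = (e - 1) + 1 by omega, pow_succ, show e - 1 + 1 - 1 = e - 1 by omega]
            ring,
          zpow_mul, zpow_natCast, ← he, pow_orderOf_eq_one, one_zpow]
      have := Nat.le_of_dvd (by positivity) (orderOf_dvd_of_pow_eq_one hdiv)
      rw [hord, he] at this
      have h2 : 2 ^ e = 2 * 2 ^ (e - 1) := by rw [← pow_succ']; congr 1; omega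
      have : 0 < 2 ^ (e - 1) := by positivity
      omega
    · exact ⟨l, hl⟩
  obtain ⟨l, hl⟩ := hodd
  have hclass : ∀ t : Q, x⁻¹ * (t * x * t⁻¹) ∈ A2 := by
    intro t
    have key : ∀ i : ℤ, x⁻¹ * (c ^ i * x * (c ^ i)⁻¹) ∈ A2 := by
      intro i
      refine ⟨l * i, ?_⟩
      show (c * c) ^ (l * i) = _
      have hxi : x⁻¹ = x := inv_eq_of_mul_eq_one_right hxx
      calc (c * c) ^ (l * i) = c ^ ((2 * l + 1) * i + -i) := by
            rw [← zpow_two, ← zpow_mul]; congr 1; ring
        _ = (c ^ m) ^ i * c ^ (-i) := by rw [zpow_add, zpow_mul, hl]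
        _ = (x * c * x⁻¹) ^ i * c ^ (-i) := by rw [hm]
        _ = x * c ^ i * x⁻¹ * c ^ (-i) := by rw [conj_zpow]
        _ = _ := by rw [hxi]; group
    by_cases ht : t ∈ A
    · obtain ⟨i, rfl⟩ := Subgroup.mem_zpowers_iff.1 ht
      exact key i
    · have htx : t * x ∈ A := (Subgroup.mul_mem_iff_of_index_two hc).2 (iff_of_false ht hxA)
      obtain ⟨i, hi⟩ := Subgroup.mem_zpowers_iff.1 htx
      have e : t = c ^ i * x⁻¹ := by rw [hi]; group
      rw [e, show c ^ i * x⁻¹ * x * (c ^ i * x⁻¹)⁻¹ = c ^ i * x * (c ^ i)⁻¹ by group]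
      exact key i
  refine ⟨hxA, fun q hq => ?_⟩
  -- counting: the class fills the coset
  have hA2c : Nat.card A2 * 4 ≤ Nat.card Q := by
    have h1 : Nat.card A2 * 2 ≤ Nat.card A := by
      rw [hA2, hA, Nat.card_zpowers, Nat.card_zpowers, ← pow_two]
      obtain ⟨n, hn⟩ := hQ c
      obtain ⟨e, -, he⟩ := (Nat.dvd_prime_pow Nat.prime_two).1 (orderOf_dvd_of_pow_eq_one hn)
      rcases e with _ | e
      · rw [pow_zero, ← Nat.card_zpowers, ← hA] at he; omega
      · rw [orderOf_pow, he, show Nat.gcd (2 ^ (e + 1)) 2 = 2 from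
          Nat.gcd_eq_right (dvd_pow_self 2 (Nat.succ_ne_zero e)),
          Nat.div_mul_cancel (dvd_pow_self 2 (Nat.succ_ne_zero e))]
    omega
  let f : Q ⧸ Subgroup.centralizer ({x} : Set Q) → A2 := fun p => ⟨_, hclass p.out⟩
  have hf : Function.Injective f := by
    intro p p' h
    have h1 : p.out * x * p.out⁻¹ = p'.out * x * p'.out⁻¹ := mul_left_cancel (congrArg Subtype.val h)
    rw [← QuotientGroup.out_eq' p, ← QuotientGroup.out_eq' p', QuotientGroup.eq,
      Subgroup.mem_centralizer_singleton_iff]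
    calc p.out⁻¹ * p'.out * x = p.out⁻¹ * (p'.out * x * p'.out⁻¹) * p'.out := by group
      _ = x * (p.out⁻¹ * p'.out) := by rw [← h1]; group
  have hge : Nat.card A2 ≤ Nat.card (Q ⧸ Subgroup.centralizer ({x} : Set Q)) := by
    have h2 := (Subgroup.centralizer ({x} : Set Q)).card_eq_card_quotient_mul_card_subgroup
    rw [hC] at h2
    omega
  obtain ⟨p, hp⟩ := (hf.bijective_of_nat_card_le hge).2 ⟨q, hq⟩
  refine ⟨p.out, ?_⟩
  have e : x⁻¹ * (p.out * x * p.out⁻¹) = q := congrArg Subtype.val hp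
  rw [← e]
  group

/-- Two classes of involutions generate and exhaust the non-central involutions. -/
theorem two_classes (hQ : IsPGroup 2 Q) {x x' : Q} (hx : orderOf x = 2) (hx' : orderOf x' = 2)
    (hC : Nat.card ↥(Subgroup.centralizer ({x} : Set Q)) = 4)
    (hC' : x' ∉ Subgroup.center Q) (h8 : 8 ≤ Nat.card Q)
    (hne : ∀ t : Q, t * x * t⁻¹ ≠ x') :
    Subgroup.closure ({x, x'} : Set Q) = ⊤ ∧
      ∀ j : Q, j * j = 1 → j ∈ Subgroup.center Q ∨ ∃ t : Q, t * j * t⁻¹ = x ∨ t * j * t⁻¹ = x' := by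
  classical
  haveI : Fact (Nat.Prime 2) := ⟨Nat.prime_two⟩
  obtain ⟨c, hc⟩ := CentFour.exists_cyclic_index_two Q hQ x hx hC h8
  obtain ⟨hxA, hclass⟩ := maxClass_data hQ hx hC h8 c hc
  set A := Subgroup.zpowers c with hA
  have hxx : x * x = 1 := by rw [← pow_two, ← hx, pow_orderOf_eq_one]
  haveI hAn : A.Normal := Subgroup.normal_of_index_eq_two hc
  have huniq : ∀ v ∈ A, v * v = 1 → v ∈ Subgroup.center Q := by
    intro v hv h2
    by_cases h1 : v = 1
    · rw [h1]; exact one_mem _
    refine Subgroup.mem_center_iff.2 fun t => ?_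
    have hv' : t * v * t⁻¹ ∈ A := hAn.conj_mem v hv t
    haveI : IsCyclic A := Subgroup.isCyclic_zpowers c
    haveI := Fintype.ofFinite A
    have h3 := IsCyclic.card_pow_eq_one_le (α := A) (n := 2) two_pos
    by_contra hne'
    have hne2 : t * v * t⁻¹ ≠ v := fun e => hne' (mul_inv_eq_iff_eq_mul.1 e)
    have hsub : ({1, ⟨v, hv⟩, ⟨_, hv'⟩} : Finset A) ⊆ Finset.univ.filter (fun a : A => a ^ 2 = 1) := by
      intro a ha
      simp only [Finset.mem_insert, Finset.mem_singleton] at ha
      rw [Finset.mem_filter]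
      refine ⟨Finset.mem_univ _, Subtype.ext ?_⟩
      rcases ha with rfl | rfl | rfl
      · exact one_pow 2
      · show v ^ 2 = 1; rw [pow_two, h2]
      · show (t * v * t⁻¹) ^ 2 = 1
        rw [pow_two, show t * v * t⁻¹ * (t * v * t⁻¹) = t * (v * v) * t⁻¹ by group, h2]; group
    have h4 := (Finset.card_le_card hsub).trans h3
    rw [Finset.card_insert_of_notMem (by
        simp only [Finset.mem_insert, Finset.mem_singleton, Subtype.ext_iff, not_or]
        exact ⟨Ne.symm h1, fun e => h1 (conj_eq_one_iff.1 e.symm)⟩),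
      Finset.card_pair (fun e => hne2 (congrArg Subtype.val e).symm)] at h4
    omega
  have hx'x' : x' * x' = 1 := by rw [← pow_two, ← hx', pow_orderOf_eq_one]
  have hx'A : x' ∉ A := fun h => hC' (huniq x' h hx'x')
  have hxinv : x⁻¹ = x := inv_eq_of_mul_eq_one_right hxx
  -- every element of the nontrivial coset is `x` times a power of `c`
  have hcos : ∀ j, j ∉ A → ∃ i : ℤ, j = x * c ^ i := by
    intro j hj
    obtain ⟨i, hi⟩ := Subgroup.mem_zpowers_iff.1
      ((Subgroup.mul_mem_iff_of_index_two hc).2 (iff_of_false hxA hj) : x * j ∈ A)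
    exact ⟨i, by rw [hi, ← mul_assoc, hxx, one_mul]⟩
  obtain ⟨i₀, hi₀⟩ := hcos x' hx'A
  have hi₀odd : ∃ l, i₀ = 2 * l + 1 := by
    rcases Int.even_or_odd' i₀ with ⟨l, hl | hl⟩
    · exfalso
      obtain ⟨t, ht⟩ := hclass (c ^ i₀) ⟨l, by show (c * c) ^ l = _; rw [hl, zpow_mul, zpow_two]⟩
      exact hne t (ht.trans hi₀.symm)
    · exact ⟨l, hl⟩
  obtain ⟨l₀, hl₀⟩ := hi₀odd
  refine ⟨?_, fun j hj => ?_⟩
  · rw [eq_top_iff]
    intro q _
    set K := Subgroup.closure ({x, x'} : Set Q) with hK
    have hxK : x ∈ K := Subgroup.subset_closure (by simp)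
    have hx'K : x' ∈ K := Subgroup.subset_closure (by simp)
    have hci : c ^ i₀ ∈ K := by
      have := mul_mem hxK hx'K
      rwa [hi₀, ← mul_assoc, hxx, one_mul] at this
    have hcK : c ∈ K := by
      obtain ⟨n, hn⟩ := hQ c
      have hco : IsCoprime (i₀ : ℤ) ((2 : ℤ) ^ n) :=
        IsCoprime.pow_right ⟨1, -l₀, by rw [hl₀]; ring⟩
      obtain ⟨u, v, huv⟩ := hco
      have hn' : c ^ ((2 : ℤ) ^ n) = 1 := by
        rw [show ((2 : ℤ) ^ n) = ((2 ^ n : ℕ) : ℤ) by norm_num, zpow_natCast, hn]
      have e : c = (c ^ i₀) ^ u := by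
        calc c = c ^ (u * i₀ + v * 2 ^ n) := by rw [huv, zpow_one]
          _ = (c ^ i₀) ^ u * (c ^ ((2 : ℤ) ^ n)) ^ v := by
            rw [zpow_add, mul_comm u, mul_comm v, zpow_mul, zpow_mul]
          _ = _ := by rw [hn', one_zpow, mul_one]
      rw [e]; exact zpow_mem hci u
    by_cases hq : q ∈ A
    · exact (Subgroup.zpowers_le.2 hcK) hq
    · obtain ⟨i, rfl⟩ := hcos q hq
      exact mul_mem hxK (zpow_mem hcK i)
  · by_cases hjA : j ∈ A
    · exact Or.inl (huniq j hjA hj)
    right
    obtain ⟨i, rfl⟩ := hcos j hjA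
    rcases Int.even_or_odd' i with ⟨l, hl | hl⟩
    · obtain ⟨t, ht⟩ := hclass (c ^ i) ⟨l, by show (c * c) ^ l = _; rw [hl, zpow_mul, zpow_two]⟩
      refine ⟨t⁻¹, Or.inl ?_⟩
      rw [← ht]; group
    · have hC4 : Nat.card ↥(Subgroup.centralizer ({x'} : Set Q)) = 4 := by
        have hhalf : ∀ v : Q, v ∉ A →
            2 * Nat.card ↥(A ⊓ Subgroup.centralizer ({v} : Set Q)) =
              Nat.card ↥(Subgroup.centralizer ({v} : Set Q)) := by
          intro v hv
          set Cv := Subgroup.centralizer ({v} : Set Q) with hCv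
          have hrel : A.relIndex Cv = 2 := by
            have hd : A.relIndex Cv ∣ 2 := hc ▸ Subgroup.relIndex_dvd_index_of_normal A Cv
            rcases (Nat.dvd_prime Nat.prime_two).1 hd with h1 | h1
            · exact absurd (Subgroup.relIndex_eq_one.1 h1 (Subgroup.mem_centralizer_singleton_iff.2 rfl)) hv
            · exact h1
          have h1 := (A.subgroupOf Cv).card_mul_index
          change _ * A.relIndex Cv = _ at h1
          have h2 : Nat.card (A.subgroupOf Cv) = Nat.card ↥(A ⊓ Cv) :=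
            Nat.card_congr { toFun := fun u => ⟨(u : Cv), u.2, (u : Cv).2⟩,
                             invFun := fun u => ⟨⟨u, u.2.2⟩, u.2.1⟩,
                             left_inv := fun u => rfl, right_inv := fun u => rfl }
          rw [hrel, h2, mul_comm] at h1
          exact h1
        have hsame : A ⊓ Subgroup.centralizer ({x'} : Set Q) = A ⊓ Subgroup.centralizer ({x} : Set Q) := by
          ext v
          rw [Subgroup.mem_inf, Subgroup.mem_inf, Subgroup.mem_centralizer_singleton_iff,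
            Subgroup.mem_centralizer_singleton_iff]
          refine and_congr_right fun hv => ?_
          obtain ⟨k, rfl⟩ := Subgroup.mem_zpowers_iff.1 hv
          have hcom : Commute (c ^ k) (c ^ i₀) := Commute.zpow_zpow_self c k i₀
          rw [hi₀]
          constructor
          · intro h1
            have h2 : Commute (c ^ k) (x * c ^ i₀) := h1
            have h3 := h2.mul_right hcom.inv_right
            rwa [mul_inv_cancel_right] at h3
          · intro h1
            exact (Commute.mul_right (h1 : Commute (c ^ k) x) hcom).eq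
        rw [← hhalf x' hx'A, hsame, hhalf x hxA, hC]
      obtain ⟨-, hclass'⟩ := maxClass_data hQ hx' hC4 h8 c hc
      obtain ⟨t, ht⟩ := hclass' (c ^ (i - i₀))
        ⟨l - l₀, by show (c * c) ^ (l - l₀) = _; rw [← zpow_two, ← zpow_mul, hl, hl₀]; congr 1; ring⟩
      refine ⟨t⁻¹, Or.inr ?_⟩
      have e : x * c ^ i = t * x' * t⁻¹ := by
        rw [ht, hi₀, mul_assoc, ← zpow_add, add_sub_cancel]
      rw [e]; group

end Classes

section Parity

variable {G : Type u} [Group G] [Finite G] {A : Type*} [CommGroup A]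

theorem prod_eq_fixed {U : Type*} [Group U] (hU : IsPGroup 2 U) {X : Type*} [Fintype X] [MulAction U X]
    (f : X → A) (hinv : ∀ (u : U) (x : X), f (u • x) = f x) (h2 : ∀ x, f x * f x = 1)
    {x₀ : X} (hfix : ∀ x, x ∈ MulAction.fixedPoints U X ↔ x = x₀) : ∏ x, f x = f x₀ := by
  classical
  haveI : Fact (Nat.Prime 2) := ⟨Nat.prime_two⟩
  have key : ∀ a : A, ∏ x ∈ Finset.univ.filter (fun x => f x = a), f x = if f x₀ = a then a else 1 := by
    intro a
    by_cases hem : (Finset.univ.filter fun x => f x = a) = ∅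
    · have hn : f x₀ ≠ a := fun h => by
        have : x₀ ∈ Finset.univ.filter fun x => f x = a := by simp [h]
        simp [hem] at this
      rw [hem, Finset.prod_empty, if_neg hn]
    obtain ⟨x₁, hx₁⟩ := Finset.nonempty_iff_ne_empty.2 hem
    have ha : a * a = 1 := by rw [← (Finset.mem_filter.1 hx₁).2]; exact h2 _
    rw [Finset.prod_congr rfl (fun x hx => (Finset.mem_filter.1 hx).2), Finset.prod_const]
    let Y := {x : X // f x = a}
    letI : MulAction U Y :=
      { smul := fun u x => ⟨u • x.1, (hinv u x.1).trans x.2⟩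
        one_smul := fun x => Subtype.ext (one_smul U x.1)
        mul_smul := fun u v x => Subtype.ext (mul_smul u v x.1) }
    have hmod := hU.card_modEq_card_fixedPoints Y
    have hYc : Nat.card Y = (Finset.univ.filter fun x => f x = a).card := by
      rw [Nat.card_eq_fintype_card, Fintype.card_subtype]
    have hFc : Nat.card (MulAction.fixedPoints U Y) = if f x₀ = a then 1 else 0 := by
      have hiff : ∀ x : Y, x ∈ MulAction.fixedPoints U Y ↔ x.1 = x₀ := fun x => by
        rw [← hfix]
        exact ⟨fun h u => congrArg Subtype.val (h u), fun h u => Subtype.ext (h u)⟩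
      split_ifs with h
      · rw [Nat.card_eq_one_iff_unique]
        exact ⟨⟨fun x y => Subtype.ext (Subtype.ext (((hiff x.1).1 x.2).trans ((hiff y.1).1 y.2).symm))⟩,
          ⟨⟨⟨x₀, h⟩, (hiff _).2 rfl⟩⟩⟩
      · rw [Nat.card_eq_zero]
        exact Or.inl ⟨fun x => h ((hiff x.1).1 x.2 ▸ x.1.2)⟩
    rw [hYc, hFc] at hmod
    have hpow : ∀ n : ℕ, a ^ n = a ^ (n % 2) := fun n => by
      conv_lhs => rw [← Nat.div_add_mod n 2, pow_add, pow_mul, pow_two, ha, one_pow, one_mul]
    rw [hpow]
    split_ifs with h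
    · rw [if_pos h] at hmod
      rw [hmod, Nat.one_mod, pow_one]
    · rw [if_neg h] at hmod
      rw [hmod, Nat.zero_mod, pow_zero]
  calc ∏ x, f x = ∏ a ∈ Finset.univ.image f, ∏ x ∈ Finset.univ.filter (fun x => f x = a), f x :=
        (Finset.prod_fiberwise_of_maps_to (fun x _ => Finset.mem_image_of_mem f (Finset.mem_univ x)) f).symm
    _ = ∏ a ∈ Finset.univ.image f, if f x₀ = a then a else 1 := Finset.prod_congr rfl fun a _ => key a
    _ = f x₀ := by
      rw [Finset.prod_ite_eq, if_pos (Finset.mem_image_of_mem f (Finset.mem_univ x₀))]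

/-- The transfer of an involution when a 2-group centralising it lies in a unique conjugate. -/
theorem transfer_unique {H : Subgroup G} (φ : H →* A) {e : G} (he : e * e = 1) (heH : e ∈ H)
    (C : Subgroup G) (hC : IsPGroup 2 C) (hCe : ∀ c ∈ C, c * e = e * c)
    (hCH : C ≤ H) (hu : ∀ g : G, (∀ c ∈ C, g⁻¹ * c * g ∈ H) → g ∈ H) :
    MonoidHom.transfer φ e = φ ⟨e, heH⟩ := by
  classical
  haveI := Fintype.ofFinite (G ⧸ H)
  rw [EngelTransfer.transfer_eq_prod φ e (fun k g h hk hd => by
    have he2 : orderOf e ∣ 2 := orderOf_dvd_of_pow_eq_one (by rw [pow_two, he])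
    have hk2 : k = 2 := le_antisymm (Nat.le_of_dvd two_pos (hd.trans he2)) hk
    subst hk2
    exact (congrArg φ (Subtype.ext (by simp [pow_two, he]) : (⟨_, h⟩ : H) = 1)).trans (map_one φ))]
  have hval0 : EngelTransfer.val φ e (QuotientGroup.mk (1 : G)) = φ ⟨e, heH⟩ := by
    rw [EngelTransfer.val_mk φ e 1 (by simpa using heH)]
    exact congrArg φ (Subtype.ext (by simp))
  rw [prod_eq_fixed hC (X := G ⧸ H) (fun c => EngelTransfer.val φ e c) ?_ ?_
    (x₀ := QuotientGroup.mk (1 : G)) ?_, hval0]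
  · rintro ⟨u, hu'⟩ x
    obtain ⟨g, rfl⟩ := QuotientGroup.mk_surjective x
    show EngelTransfer.val φ e (QuotientGroup.mk (u * g)) = _
    rw [EngelTransfer.val_smul, show u⁻¹ * e * u = e by rw [mul_assoc, ← hCe u hu', inv_mul_cancel_left]]
  · intro x
    obtain ⟨g, rfl⟩ := QuotientGroup.mk_surjective x
    by_cases h : g⁻¹ * e * g ∈ H
    · rw [EngelTransfer.val_mk φ e g h, ← map_mul]
      refine (congrArg φ (Subtype.ext ?_ : _ = (1 : H))).trans (map_one φ)
      show g⁻¹ * e * g * (g⁻¹ * e * g) = 1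
      rw [show g⁻¹ * e * g * (g⁻¹ * e * g) = g⁻¹ * (e * e) * g by group, he]; group
    · rw [EngelTransfer.val_mk_not φ e g h, one_mul]
  · intro x
    obtain ⟨g, rfl⟩ := QuotientGroup.mk_surjective x
    constructor
    · intro h
      rw [QuotientGroup.eq, mul_one]
      refine inv_mem (hu g fun c hc => ?_)
      have h1 := h ⟨c⁻¹, inv_mem hc⟩
      change QuotientGroup.mk (c⁻¹ * g) = _ at h1
      rw [QuotientGroup.eq] at h1
      rwa [show (c⁻¹ * g)⁻¹ * g = g⁻¹ * c * g by group] at h1
    · intro h u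
      rw [h]
      show QuotientGroup.mk ((u : G) * 1) = _
      rw [mul_one, QuotientGroup.eq, mul_one]
      exact inv_mem (hCH u.2)

/-- A simple non-abelian group has no non-trivial homomorphism to an abelian group. -/
theorem hom_trivial [IsSimpleGroup G] (hG : ¬ IsMulCommutative G) (f : G →* A) (x : G) : f x = 1 := by
  rcases IsSimpleGroup.eq_bot_or_eq_top_of_normal f.ker inferInstance with h | h
  · exfalso
    exact hG ⟨⟨fun a b => (MonoidHom.ker_eq_bot_iff f).1 h (by rw [map_mul, map_mul, mul_comm])⟩⟩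
  · exact MonoidHom.mem_ker.1 (h ▸ Subgroup.mem_top x)

end Parity

end Cfsg.Agent.LenEight
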