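import Cfsg.Agent.Lib.LenEight.Shape

/-!
The conjugate of the 2-core under an element of `N_S(T)` outside `T`: the case where the
conjugate of the module lies in the 2-core is impossible.
-/

set_option autoImplicit false
set_option linter.style.haveILetI false
set_option linter.unusedSectionVars false

namespace Cfsg.Agent.LenEight

open Cfsg.Agent

universe u

variable {G : Type u} [Group G] [Finite G] [IsSimpleGroup G]

/-- Image of a subgroup under conjugation. -/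
def cjg (g : G) (H : Subgroup G) : Subgroup G := H.map (MulAut.conj g).toMonoidHom

theorem mem_cjg {g x : G} {H : Subgroup G} : x ∈ cjg g H ↔ g⁻¹ * x * g ∈ H := by
  constructor
  · rintro ⟨a, ha, rfl⟩
    show g⁻¹ * (g * a * g⁻¹) * g ∈ H
    rw [show g⁻¹ * (g * a * g⁻¹) * g = a by group]; exact ha
  · intro h
    exact ⟨_, h, show g * (g⁻¹ * x * g) * g⁻¹ = x by group⟩

theorem conj_mem_cjg {g x : G} {H : Subgroup G} (hx : x ∈ H) : g * x * g⁻¹ ∈ cjg g H := ⟨x, hx, rfl⟩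

theorem card_cjg (g : G) (H : Subgroup G) : Nat.card (cjg g H) = Nat.card H :=
  Subgroup.card_map_of_injective (MulAut.conj g).injective

theorem cjg_cjg (g h : G) (H : Subgroup G) : cjg g (cjg h H) = cjg (g * h) H := by
  ext x; rw [mem_cjg, mem_cjg, mem_cjg]
  rw [show h⁻¹ * (g⁻¹ * x * g) * h = (g * h)⁻¹ * x * (g * h) by group]

theorem cjg_eq {g : G} {H : Subgroup G} (hg : g ∈ Subgroup.normalizer (H : Set G)) : cjg g H = H :=
  Subgroup.mem_normalizer_iff_map_conj_eq.1 hg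

theorem mem_normalizer_of_cjg {g : G} {H : Subgroup G} (h : cjg g H = H) :
    g ∈ Subgroup.normalizer (H : Set G) :=
  Subgroup.mem_normalizer_iff_map_conj_eq.2 h

namespace Setting

variable (s : Setting G)

namespace Shape

variable {s} (sh : s.Shape)

include sh

theorem relIndex_D : s.D.relIndex s.T = 2 := by
  have h := Subgroup.card_mul_index (s.D.subgroupOf s.T)
  rw [Nat.card_congr (Subgroup.subgroupOfEquivOfLe s.D_le_T).toEquiv, sh.card_T, mul_comm 2] at h
  exact Nat.eq_of_mul_eq_mul_left Nat.card_pos h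

theorem mul_mem_D {a b : G} (ha : a ∈ s.T) (hb : b ∈ s.T) :
    a * b ∈ s.D ↔ (a ∈ s.D ↔ b ∈ s.D) := by
  simpa [Subgroup.mem_subgroupOf] using
    Subgroup.mul_mem_iff_of_index_two (H := s.D.subgroupOf s.T) sh.relIndex_D (a := ⟨a, ha⟩) (b := ⟨b, hb⟩)

theorem exists_not_D : ∃ t ∈ s.T, t ∉ s.D := by
  by_contra h
  push Not at h
  have := Subgroup.card_le_of_le h
  have := sh.card_T
  have : 0 < Nat.card s.D := Nat.card_pos
  omega

theorem sup_eq_T {t : G} (ht : t ∈ s.T) (htD : t ∉ s.D) : s.D ⊔ Subgroup.zpowers t = s.T := by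
  refine le_antisymm (sup_le s.D_le_T (Subgroup.zpowers_le.2 ht)) fun x hx => ?_
  by_cases hxD : x ∈ s.D
  · exact Subgroup.mem_sup_left hxD
  · rw [show x = (x * t) * t⁻¹ by group]
    exact mul_mem (Subgroup.mem_sup_left ((sh.mul_mem_D hx ht).2 (iff_of_false hxD htD)))
      (inv_mem (Subgroup.mem_sup_right (Subgroup.mem_zpowers t)))

theorem M_eq : s.T ⊔ Subgroup.zpowers sh.y = s.M :=
  (s.eq_of_between le_sup_left (sup_le s.hTM (Subgroup.zpowers_le.2 sh.hyM))).resolve_left fun h =>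
    sh.hyT (h.le (Subgroup.mem_sup_right (Subgroup.mem_zpowers _)))

theorem M_le {H : Subgroup G} (hT : s.T ≤ H) (hy : sh.y ∈ H) : s.M ≤ H :=
  sh.M_eq ▸ sup_le hT (Subgroup.zpowers_le.2 hy)

theorem conj_not_mem {t : G} (ht : t ∈ s.T) (htD : t ∉ s.D) : sh.y * t * sh.y⁻¹ ∉ s.T := by
  intro h
  apply s.T_not_normal
  refine sh.M_le Subgroup.le_normalizer (mem_normalizer_of_cjg ?_)
  refine Subgroup.eq_of_le_of_card_ge ?_ (card_cjg _ _).ge
  rw [cjg, Subgroup.map_le_iff_le_comap]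
  refine (sh.sup_eq_T ht htD).ge.trans (sup_le (fun d hd => ?_) (Subgroup.zpowers_le.2 h))
  exact s.D_le_T ((Subgroup.mem_normalizer_iff.1 (s.M_le_normalizer_D sh.hyM) d).1 hd)

theorem card_V : 4 ≤ Nat.card s.V ∧ Nat.card ↥(s.V ⊓ Subgroup.centralizer ({sh.y} : Set G)) * 4 = Nat.card s.V := by
  have h := Subgroup.card_mul_index ((s.V ⊓ Subgroup.centralizer ({sh.y} : Set G)).subgroupOf s.V)
  rw [Nat.card_congr (Subgroup.subgroupOfEquivOfLe inf_le_left).toEquiv] at h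
  change _ * (s.V ⊓ Subgroup.centralizer ({sh.y} : Set G)).relIndex s.V = _ at h
  rw [sh.fix_y] at h
  refine ⟨?_, h⟩
  have : 0 < Nat.card ↥(s.V ⊓ Subgroup.centralizer ({sh.y} : Set G)) := Nat.card_pos
  omega

theorem exists_not_comm {t : G} (ht : t ∈ s.T) (htD : t ∉ s.D) : ∃ v ∈ s.V, t * v ≠ v * t := by
  by_contra h
  push Not at h
  exact htD (s.cent_V_le (s.hTM ht) h)

end Shape

/-- An element of `N_S(T) ∖ T` with square in `T`. -/
structure Swap where
  g : G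
  hgS : g ∈ (s.S : Subgroup G)
  hgT : g ∉ s.T
  hgN : g ∈ Subgroup.normalizer (s.T : Set G)
  hg2 : g * g ∈ s.T

namespace Swap

variable {s} (w : s.Swap)

/-- The conjugate of `D`. -/
def E : Subgroup G := cjg w.g s.D

/-- The conjugate of `V`. -/
def V' : Subgroup G := cjg w.g s.V

theorem E_le : w.E ≤ s.T := by
  intro x hx
  obtain ⟨a, ha, rfl⟩ := hx
  exact (Subgroup.mem_normalizer_iff.1 w.hgN a).1 (s.D_le_T ha)

theorem V'_le_E : w.V' ≤ w.E := Subgroup.map_mono s.V_le_D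

theorem V'_sq : ∀ x ∈ w.V', x * x = 1 := by
  rintro _ ⟨a, ha, rfl⟩
  rw [← map_mul, s.V_sq a ha, map_one]

theorem V'_comm {e x : G} (he : e ∈ w.E) (hx : x ∈ w.V') : e * x = x * e := by
  obtain ⟨d, hd, rfl⟩ := he
  obtain ⟨v, hv, rfl⟩ := hx
  rw [← map_mul, ← map_mul, s.V_comm hd hv]

theorem cjg_E : cjg w.g w.E = s.D := by
  rw [E, cjg_cjg, cjg_eq (s.M_le_normalizer_D (s.hTM w.hg2))]

theorem cjg_V' : cjg w.g w.V' = s.V := by
  rw [V', cjg_cjg, cjg_eq (s.M_le_normalizer_V (s.hTM w.hg2))]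

theorem E_ne : w.E ≠ s.D := fun h =>
  s.not_mem_normalizer s.z_mem_D s.D_isPGroup s.M_le_normalizer_D w.hgS w.hgT (mem_normalizer_of_cjg h)

theorem V'_ne : w.V' ≠ s.V := fun h =>
  s.not_mem_normalizer s.z_mem_V s.V_isPGroup s.M_le_normalizer_V w.hgS w.hgT (mem_normalizer_of_cjg h)

theorem T_le_normalizer_E : s.T ≤ Subgroup.normalizer (w.E : Set G) := by
  intro t ht
  have h1 : w.g⁻¹ * t * w.g ∈ s.T := (Subgroup.mem_normalizer_iff''.1 w.hgN t).1 ht
  refine mem_normalizer_of_cjg ?_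
  rw [E, cjg_cjg, show t * w.g = w.g * (w.g⁻¹ * t * w.g) by group, ← cjg_cjg,
    cjg_eq (s.M_le_normalizer_D (s.hTM h1))]

theorem V_le_E : s.V ≤ w.E ↔ w.V' ≤ s.D := by
  constructor
  · intro h
    rw [← w.cjg_E]; exact Subgroup.map_mono h
  · intro h
    rw [← w.cjg_V']; exact Subgroup.map_mono h

theorem card_inf (sh : s.Shape) : 2 * Nat.card ↥(s.D ⊓ w.E) = Nat.card s.D := by
  have h1 := card_sup_mul_inf (A := s.D) (B := w.E) (s.D_le_T.trans w.T_le_normalizer_E)
  have hsup : s.D ⊔ w.E = s.T := by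
    obtain ⟨e, he, heD⟩ : ∃ e ∈ w.E, e ∉ s.D := by
      by_contra h
      push Not at h
      exact w.E_ne (Subgroup.eq_of_le_of_card_ge h (card_cjg _ _).ge)
    exact le_antisymm (sup_le s.D_le_T w.E_le)
      ((sh.sup_eq_T (w.E_le he) heD).ge.trans (sup_le_sup_left (Subgroup.zpowers_le.2 he) _))
  rw [hsup, sh.card_T, show Nat.card w.E = Nat.card s.D from card_cjg _ _, mul_comm 2, mul_assoc] at h1
  exact Nat.eq_of_mul_eq_mul_left Nat.card_pos h1

theorem inf_mem_iff (sh : s.Shape) {a b : G} (ha : a ∈ s.D) (hb : b ∈ s.D) :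
    a * b ∈ w.E ↔ (a ∈ w.E ↔ b ∈ w.E) := by
  have hidx : ((s.D ⊓ w.E).subgroupOf s.D).index = 2 := by
    have h := Subgroup.card_mul_index ((s.D ⊓ w.E).subgroupOf s.D)
    rw [Nat.card_congr (Subgroup.subgroupOfEquivOfLe inf_le_left).toEquiv, ← w.card_inf sh,
      mul_comm 2] at h
    exact Nat.eq_of_mul_eq_mul_left Nat.card_pos h
  have := Subgroup.mul_mem_iff_of_index_two hidx (a := ⟨a, ha⟩) (b := ⟨b, hb⟩)
  simpa [Subgroup.mem_subgroupOf, ha, hb, mul_mem ha hb] using this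

/-- The conjugate of the module is not contained in `D`. -/
theorem V'_not_le (sh : s.Shape) : ¬ w.V' ≤ s.D := by
  intro hB
  classical
  set y := sh.y with hydef
  set ZD := Subgroup.centralizer (s.D : Set G) with hZD
  have hZDD : ZD ≤ s.D := s.centralizer_D_le
  have hVZ : s.V ≤ ZD := fun v hv => Subgroup.mem_centralizer_iff.2 fun d hd => s.V_comm hd hv
  set I := s.D ⊓ w.E with hI
  have hV'I : w.V' ≤ I := le_inf hB w.V'_le_E
  obtain ⟨a, ha, haZ⟩ : ∃ a ∈ w.V', a ∉ ZD := by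
    by_contra h
    push Not at h
    refine w.V'_ne (Subgroup.eq_of_le_of_card_ge (fun x hx => ⟨hB hx, w.V'_sq x hx, fun d hd => ?_⟩)
      (card_cjg _ _).ge)
    exact Subgroup.mem_centralizer_iff.1 (h x hx) d hd
  have haI : a ∈ I := hV'I ha
  have haa : a * a = 1 := w.V'_sq a ha
  have hZI : ZD ≤ I := by
    intro c hc
    by_contra hcI
    refine haZ (Subgroup.mem_centralizer_iff.2 fun d hd => ?_)
    have hac : c * a = a * c := (Subgroup.mem_centralizer_iff.1 hc a (hB ha)).symm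
    by_cases hdE : d ∈ w.E
    · exact w.V'_comm hdE ha
    · have h1 : d * c ∈ w.E :=
        (w.inf_mem_iff sh hd (hZDD hc)).2 (iff_of_false hdE fun h => hcI ⟨hZDD hc, h⟩)
      have h2 : Commute (d * c) a := w.V'_comm h1 ha
      have h3 : Commute (d * c * c⁻¹) a := h2.mul_left (Commute.inv_left hac)
      rwa [mul_inv_cancel_right] at h3
  have h64 : Nat.card s.T ≤ 64 := by
    rw [s.hTc]; exact le_trans (Nat.pow_le_pow_right two_pos s.k_le) (by norm_num)
  have hcD := w.card_inf sh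
  have hcT := sh.card_T
  obtain ⟨hV4, hVy⟩ := sh.card_V
  -- `I` is abelian
  have hIab : ∀ i ∈ I, ∀ j ∈ I, i * j = j * i := by
    set K := I ⊓ Subgroup.centralizer (I : Set G) with hK
    have haK : a ∈ K := ⟨haI, Subgroup.mem_centralizer_iff.2 fun i hi => w.V'_comm hi.2 ha⟩
    have hZK : ZD < K := by
      refine lt_of_le_of_ne (le_inf hZI (Subgroup.centralizer_le fun x hx => hx.1)) fun h => haZ (h ▸ haK)
    have h2 : 2 * Nat.card ZD ≤ Nat.card K := by
      have h3 := Subgroup.card_mul_index (ZD.subgroupOf K)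
      rw [Nat.card_congr (Subgroup.subgroupOfEquivOfLe hZK.le).toEquiv] at h3
      have h4 : (ZD.subgroupOf K).index ≠ 1 := fun h =>
        hZK.ne (le_antisymm hZK.le (Subgroup.relIndex_eq_one.1 h))
      have h5 : (ZD.subgroupOf K).index ≠ 0 := Subgroup.index_ne_zero_of_finite
      nlinarith [show 2 ≤ (ZD.subgroupOf K).index by omega]
    have hVc : Nat.card s.V ≤ Nat.card ZD := Subgroup.card_le_of_le hVZ
    intro i hi
    by_cases hiK : i ∈ K
    · exact fun j hj => (Subgroup.mem_centralizer_iff.1 hiK.2 j hj).symm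
    · intro j hj
      have hidx : (K.subgroupOf I).index = 2 := by
        have h3 := Subgroup.card_mul_index (K.subgroupOf I)
        rw [Nat.card_congr (Subgroup.subgroupOfEquivOfLe inf_le_left).toEquiv] at h3
        have h4 : (K.subgroupOf I).index ≠ 1 := fun h => hiK (Subgroup.relIndex_eq_one.1 h hi)
        have h5 : (K.subgroupOf I).index ≠ 0 := Subgroup.index_ne_zero_of_finite
        by_contra h6
        nlinarith [show 3 ≤ (K.subgroupOf I).index by omega]
      by_cases hjK : j ∈ K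
      · exact Subgroup.mem_centralizer_iff.1 hjK.2 i hi
      · have h7 : (⟨i, hi⟩ * ⟨j, hj⟩ : I) ∈ K.subgroupOf I :=
          (Subgroup.mul_mem_iff_of_index_two hidx).2 (iff_of_false hiK hjK)
        have h8 := Subgroup.mem_centralizer_iff.1 (Subgroup.mem_inf.1 h7).2 i hi
        calc i * j = i⁻¹ * (i * (i * j)) := by group
          _ = i⁻¹ * (i * j * i) := by rw [show i * (i * j) = i * j * i from h8]
          _ = j * i := by group
  -- the conjugates of `I`
  have hTI : s.T ≤ Subgroup.normalizer (I : Set G) := by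
    intro t ht
    rw [Subgroup.mem_normalizer_iff]
    intro x
    rw [hI, Subgroup.mem_inf, Subgroup.mem_inf,
      Subgroup.mem_normalizer_iff.1 (s.M_le_normalizer_D (s.hTM ht)) x,
      Subgroup.mem_normalizer_iff.1 (w.T_le_normalizer_E ht) x]
  have hgI : w.g ∈ Subgroup.normalizer (I : Set G) := by
    refine mem_normalizer_of_cjg ?_
    rw [hI, cjg, Subgroup.map_inf _ _ _ (MulAut.conj w.g).injective]
    show cjg w.g s.D ⊓ cjg w.g w.E = _
    rw [w.cjg_E, inf_comm]; rfl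
  set I₁ := cjg y I with hI₁
  have hne : I₁ ≠ I := fun h => s.not_mem_normalizer (hZI (hVZ s.z_mem_V))
    (s.D_isPGroup.to_le inf_le_left) (sh.M_le hTI (mem_normalizer_of_cjg h)) w.hgS w.hgT hgI
  have hI₁D : I₁ ≤ s.D := by
    rintro _ ⟨i, hi, rfl⟩
    exact (Subgroup.mem_normalizer_iff.1 (s.M_le_normalizer_D sh.hyM) i).1 hi.1
  have hI₁ab : ∀ i ∈ I₁, ∀ j ∈ I₁, i * j = j * i := by
    rintro _ ⟨i, hi, rfl⟩ _ ⟨j, hj, rfl⟩
    rw [← map_mul, ← map_mul, hIab i hi j hj]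
  have hsup : I ⊔ I₁ = s.D := by
    obtain ⟨e, he, heI⟩ : ∃ e ∈ I₁, e ∉ I := by
      by_contra h
      push Not at h
      exact hne (Subgroup.eq_of_le_of_card_ge h (card_cjg _ _).ge)
    refine le_antisymm (sup_le inf_le_left hI₁D) fun d hd => ?_
    by_cases hdE : d ∈ w.E
    · exact Subgroup.mem_sup_left ⟨hd, hdE⟩
    · rw [show d = d * e * e⁻¹ by group]
      exact mul_mem (Subgroup.mem_sup_left ⟨mul_mem hd (hI₁D he), (w.inf_mem_iff sh hd (hI₁D he)).2
        (iff_of_false hdE fun h => heI ⟨hI₁D he, h⟩)⟩) (inv_mem (Subgroup.mem_sup_right he))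
  have hyZ : ∀ c, c ∈ ZD → y * c * y⁻¹ ∈ ZD ∧ y⁻¹ * c * y ∈ ZD := by
    intro c hc
    have hy := s.M_le_normalizer_D sh.hyM
    refine ⟨Subgroup.mem_centralizer_iff.2 fun d hd => ?_, Subgroup.mem_centralizer_iff.2 fun d hd => ?_⟩
    · have h1 := Subgroup.mem_centralizer_iff.1 hc _ ((Subgroup.mem_normalizer_iff''.1 hy d).1 hd)
      calc d * (y * c * y⁻¹) = y * (y⁻¹ * d * y * c) * y⁻¹ := by group
        _ = y * (c * (y⁻¹ * d * y)) * y⁻¹ := by rw [h1]
        _ = y * c * y⁻¹ * d := by group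
    · have h1 := Subgroup.mem_centralizer_iff.1 hc _ ((Subgroup.mem_normalizer_iff.1 hy d).1 hd)
      calc d * (y⁻¹ * c * y) = y⁻¹ * (y * d * y⁻¹ * c) * y := by group
        _ = y⁻¹ * (c * (y * d * y⁻¹)) * y := by rw [h1]
        _ = y⁻¹ * c * y * d := by group
  have hinf : I ⊓ I₁ = ZD := by
    refine le_antisymm (fun c hc => Subgroup.mem_centralizer_iff.2 fun d hd => ?_)
      (le_inf hZI fun c hc => mem_cjg.2 (hZI (hyZ c hc).2))
    have hle : s.D ≤ Subgroup.centralizer ({c} : Set G) := hsup ▸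
      sup_le (fun i hi => Subgroup.mem_centralizer_singleton_iff.2 (hIab i hi c hc.1))
        (fun i hi => Subgroup.mem_centralizer_singleton_iff.2 (hI₁ab i hi c hc.2))
    exact Subgroup.mem_centralizer_singleton_iff.1 (hle hd)
  have hI₁n : I ≤ Subgroup.normalizer (I₁ : Set G) := by
    intro i hi
    have h1 : y⁻¹ * i * y ∈ s.T :=
      s.D_le_T ((Subgroup.mem_normalizer_iff''.1 (s.M_le_normalizer_D sh.hyM) i).1 hi.1)
    refine mem_normalizer_of_cjg ?_
    rw [hI₁, cjg_cjg, show i * y = y * (y⁻¹ * i * y) by group, ← cjg_cjg, cjg_eq (hTI h1)]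
  have hcount := card_sup_mul_inf (A := I) (B := I₁) hI₁n
  rw [hsup, hinf, card_cjg] at hcount
  have hI2 : Nat.card I = 2 * Nat.card ZD := by
    have h1 : Nat.card I * (2 * Nat.card ZD) = Nat.card I * Nat.card I := by
      rw [← hcount, ← hcD]; ring
    exact (Nat.eq_of_mul_eq_mul_left Nat.card_pos h1).symm
  have hidxI : (ZD.subgroupOf I).index = 2 := by
    have h3 := Subgroup.card_mul_index (ZD.subgroupOf I)
    rw [Nat.card_congr (Subgroup.subgroupOfEquivOfLe hZI).toEquiv, hI2, mul_comm 2] at h3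
    exact Nat.eq_of_mul_eq_mul_left Nat.card_pos h3
  have hIform : ∀ i ∈ I, i ∈ ZD ∨ a * i ∈ ZD := by
    intro i hi
    by_cases h : i ∈ ZD
    · exact Or.inl h
    · exact Or.inr ((Subgroup.mul_mem_iff_of_index_two hidxI (a := ⟨a, haI⟩) (b := ⟨i, hi⟩)).2
        (iff_of_false haZ h))
  set a₁ := y * a * y⁻¹ with ha₁
  have ha₁I₁ : a₁ ∈ I₁ := conj_mem_cjg haI
  have ha₁a₁ : a₁ * a₁ = 1 := by
    rw [ha₁, show y * a * y⁻¹ * (y * a * y⁻¹) = y * (a * a) * y⁻¹ by group, haa]; group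
  have ha₁Z : a₁ ∉ ZD := fun h => haZ (by
    have := (hyZ _ h).2
    rwa [ha₁, show y⁻¹ * (y * a * y⁻¹) * y = a by group] at this)
  have ha₁I : a₁ ∉ I := fun h => ha₁Z (hinf.le ⟨h, ha₁I₁⟩)
  have hI₁form : ∀ i ∈ I₁, i ∈ ZD ∨ a₁ * i ∈ ZD := by
    intro i hi
    rcases hIform _ (mem_cjg.1 hi) with h | h
    · left
      have := (hyZ _ h).1
      rwa [show y * (y⁻¹ * i * y) * y⁻¹ = i by group] at this
    · right
      have := (hyZ _ h).1
      rwa [show y * (a * (y⁻¹ * i * y)) * y⁻¹ = a₁ * i by rw [ha₁]; group] at this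
  set c := a * a₁ * a * a₁ with hc
  have hinvI : a₁ * a * a₁ ∈ I := by
    have h1 := (Subgroup.mem_normalizer_iff.1 (hTI (s.D_le_T (hI₁D ha₁I₁))) a).1 haI
    rwa [inv_eq_of_mul_eq_one_right ha₁a₁] at h1
  have hcZ : c ∈ ZD := by
    rw [← hinf]
    refine ⟨?_, ?_⟩
    · rw [hc, mul_assoc a, mul_assoc a]; exact mul_mem haI hinvI
    · have h1 := (Subgroup.mem_normalizer_iff.1 (hI₁n haI) a₁).1 ha₁I₁
      rw [inv_eq_of_mul_eq_one_right haa] at h1
      rw [hc]; exact mul_mem h1 ha₁I₁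
  have hcc : c * c = 1 := by
    have h1 := Subgroup.mem_centralizer_iff.1 hcZ a haI.1
    calc c * c = c * (a * a) * c := by rw [haa, mul_one]
      _ = (a * c) * a * c := by rw [← mul_assoc c, ← h1]
      _ = (a * a) * a₁ * a * (a₁ * (a * a) * a₁) * a * a₁ := by rw [hc]; group
      _ = 1 := by
        rw [haa, mul_one, ha₁a₁, mul_one, one_mul, mul_assoc a₁ a a, haa, mul_one, ha₁a₁]
  have hcV : c ∈ s.V := ⟨hZDD hcZ, hcc, fun d hd => Subgroup.mem_centralizer_iff.1 hcZ d hd⟩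
  have hc1 : c ≠ 1 := by
    intro h
    refine haZ (Subgroup.mem_centralizer_iff.2 fun d hd => ?_)
    have hcomm : a₁ * a = a * a₁ := by
      calc a₁ * a = (a * a) * a₁ * a * (a₁ * a₁) := by rw [haa, ha₁a₁]; group
        _ = a * c * a₁ := by rw [hc]; group
        _ = a * a₁ := by rw [h, mul_one]
    have hle : s.D ≤ Subgroup.centralizer ({a} : Set G) := hsup ▸
      sup_le (fun i hi => Subgroup.mem_centralizer_singleton_iff.2 (hIab i hi a haI))
        (fun i hi => Subgroup.mem_centralizer_singleton_iff.2 (by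
          rcases hI₁form i hi with h' | h'
          · exact (Subgroup.mem_centralizer_iff.1 h' a haI.1).symm
          · rw [show i = a₁ * (a₁ * i) by rw [← mul_assoc, ha₁a₁, one_mul]]
            exact ((Commute.mul_left (show Commute a₁ a from hcomm)
              (show Commute (a₁ * i) a from (Subgroup.mem_centralizer_iff.1 h' a haI.1).symm))).eq))
    exact Subgroup.mem_centralizer_singleton_iff.1 (hle hd)
  set a₂ := y * a₁ * y⁻¹ with ha₂
  have hy3 : y * y * y ∈ s.T := s.D_le_T sh.hy3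
  have ha₂I : a₂ ∉ I := by
    intro h
    -- pull back by `y`, using that `y³` normalises `I`
    have h1 : a₁ ∈ cjg (y * y) I := by
      have e : cjg (y * y) I = cjg y⁻¹ I := by
        conv_rhs => rw [← cjg_eq (hTI hy3), cjg_cjg]
        rw [show y⁻¹ * (y * y * y) = y * y by group]
      rw [e, mem_cjg, inv_inv, ← ha₂]
      exact h
    rw [← cjg_cjg, mem_cjg, ha₁, show y⁻¹ * (y * a * y⁻¹) * y = a by group] at h1
    exact haZ (hinf.le ⟨haI, h1⟩)
  have ha₂I₁ : a₂ ∉ I₁ := fun h => ha₁I (by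
    have := mem_cjg.1 h
    rwa [ha₂, show y⁻¹ * (y * a₁ * y⁻¹) * y = a₁ by group] at this)
  obtain ⟨z₀, hz₀, hza⟩ : ∃ z₀ ∈ ZD, a₂ = a * a₁ * z₀ := by
    have hd : a₂ ∈ s.D := (Subgroup.mem_normalizer_iff.1 (s.M_le_normalizer_D sh.hyM) a₁).1 (hI₁D ha₁I₁)
    rw [← hsup, ← SetLike.mem_coe, Subgroup.coe_mul_of_left_le_normalizer_right I I₁ hI₁n] at hd
    obtain ⟨i, hi, j, hj, hij⟩ := Set.mem_mul.1 hd
    rcases hIform i hi with h | h
    · exact absurd (hij ▸ mul_mem ((hinf.ge h).2) hj) ha₂I₁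
    rcases hI₁form j hj with h' | h'
    · exact absurd (hij ▸ mul_mem hi (hZI h')) ha₂I
    refine ⟨(a * i) * (a₁ * j), mul_mem h h', ?_⟩
    have h9 := Subgroup.mem_centralizer_iff.1 h a₁ (hI₁D ha₁I₁)
    calc a₂ = i * j := hij.symm
      _ = (a * a) * i * j := by rw [haa, one_mul]
      _ = a * (a * i) * (a₁ * a₁ * j) := by rw [ha₁a₁]; group
      _ = a * ((a * i) * a₁) * (a₁ * j) := by group
      _ = a * (a₁ * (a * i)) * (a₁ * j) := by rw [h9]
      _ = a * a₁ * (a * i * (a₁ * j)) := by group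
  have hzD : ∀ d ∈ s.D, d * z₀ = z₀ * d := fun d hd => Subgroup.mem_centralizer_iff.1 hz₀ d hd
  have haD : a * a₁ ∈ s.D := mul_mem haI.1 (hI₁D ha₁I₁)
  have ha₂a₂ : a₂ * a₂ = 1 := by
    rw [ha₂, show y * a₁ * y⁻¹ * (y * a₁ * y⁻¹) = y * (a₁ * a₁) * y⁻¹ by group, ha₁a₁]; group
  have hz0 : c * (z₀ * z₀) = 1 := by
    rw [← ha₂a₂, hza, hc]
    calc a * a₁ * a * a₁ * (z₀ * z₀) = a * a₁ * ((a * a₁) * z₀) * z₀ := by group
      _ = a * a₁ * (z₀ * (a * a₁)) * z₀ := by rw [hzD _ haD]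
      _ = _ := by group
  have hyc : y * c = c * y := by
    rw [← mul_inv_eq_iff_eq_mul]
    calc y * c * y⁻¹ = a₁ * a₂ * a₁ * a₂ := by rw [hc, ha₂, ha₁]; group
      _ = a₁ * a * a₁ * (z₀ * (a₁ * a * a₁)) * z₀ := by rw [hza]; group
      _ = a₁ * a * a₁ * ((a₁ * a * a₁) * z₀) * z₀ := by rw [hzD _ hinvI.1]
      _ = a₁ * a * (a₁ * a₁) * a * a₁ * (z₀ * z₀) := by group
      _ = z₀ * z₀ := by rw [ha₁a₁, mul_one, mul_assoc a₁ a a, haa, mul_one, ha₁a₁, one_mul]
      _ = (c * c) * (z₀ * z₀) := by rw [hcc, one_mul]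
      _ = c := by rw [mul_assoc, hz0, mul_one]
  -- so `V` has order at least eight and is the centre of `D`
  have h8 : 2 ≤ Nat.card ↥(s.V ⊓ Subgroup.centralizer ({y} : Set G)) := by
    haveI : Nontrivial ↥(s.V ⊓ Subgroup.centralizer ({y} : Set G)) :=
      ⟨⟨⟨c, hcV, Subgroup.mem_centralizer_singleton_iff.2 hyc.symm⟩, 1, fun h => hc1 (congrArg Subtype.val h)⟩⟩
    exact Finite.one_lt_card
  have hVeq : s.V = ZD := by
    refine Subgroup.eq_of_le_of_card_ge hVZ ?_
    nlinarith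
  have hz1 : z₀ * z₀ = 1 := s.V_sq _ (hVeq.ge hz₀)
  rw [hz1, mul_one] at hz0
  exact hc1 hz0

end Swap

end Setting

end Cfsg.Agent.LenEight
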