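import Cfsg.Agent.Lib.Transfer.Basic
import Cfsg.Agent.Lib.Transfer.Fusion
import Mathlib.GroupTheory.FixedPointFree
import Mathlib.GroupTheory.GroupAction.Quotient
import Mathlib.GroupTheory.Perm.Basic
import Mathlib.GroupTheory.SpecificGroups.Cyclic
import Mathlib.Data.Fintype.Perm

/-!
A group with a maximal self-normalising Sylow 2-subgroup acting faithfully on a small
elementary abelian 2-group with an offender is the symmetric group of degree three.
-/

set_option autoImplicit false
set_option linter.style.haveILetI false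
set_option linter.unusedSectionVars false

namespace Cfsg.Agent.LenEight

open Cfsg.Agent

universe u v

variable {X : Type u} [Group X] {V : Type v} [CommGroup V]

/-- The common fixed points. -/
def fixS (ρ : X →* MulAut V) (s : Set X) : Subgroup V where
  carrier := {v | ∀ x ∈ s, ρ x v = v}
  one_mem' := fun x _ => map_one _
  mul_mem' := fun {a b} ha hb x hx => by rw [map_mul, ha x hx, hb x hx]
  inv_mem' := fun {a} ha x hx => by rw [map_inv, ha x hx]

theorem mem_fixS {ρ : X →* MulAut V} {x : X} {v : V} : v ∈ fixS ρ {x} ↔ ρ x v = v :=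
  ⟨fun h => h x rfl, fun h y hy => by rw [Set.mem_singleton_iff] at hy; rw [hy]; exact h⟩

variable [Finite X] [Finite V] {ρ : X →* MulAut V}

theorem mem_zpowers_sq {y : X} (hy : Odd (orderOf y)) : y ∈ Subgroup.zpowers (y * y) := by
  obtain ⟨m, hm⟩ := hy
  refine ⟨(m + 1 : ℕ), ?_⟩
  show (y * y) ^ ((m + 1 : ℕ) : ℤ) = y
  rw [zpow_natCast, ← pow_two, ← pow_mul, show 2 * (m + 1) = orderOf y + 1 by omega, pow_succ,
    pow_orderOf_eq_one, one_mul]

theorem fix_of_sq {y : X} (hy : Odd (orderOf y)) {v : V} (h : ρ (y * y) v = v) : ρ y v = v := by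
  obtain ⟨n, hn⟩ := mem_zpowers_sq hy
  have hst : ∀ n : ℕ, ρ ((y * y) ^ n) v = v := fun n => by
    induction n with
    | zero => rw [pow_zero, map_one]; rfl
    | succ n ih => rw [pow_succ, map_mul, MulAut.mul_apply, h, ih]
  obtain ⟨m, hm⟩ := (isOfFinOrder_of_finite (y * y)).mem_powers_iff_mem_zpowers.2 ⟨n, hn⟩
  calc ρ y v = ρ ((y * y) ^ m) v := by rw [show (y * y) ^ m = y from hm]
    _ = v := hst m

theorem stab_series (hinj : Function.Injective ρ) (hexp : ∀ v : V, v * v = 1) {y : X}
    (hy : Odd (orderOf y)) {K : Subgroup V} (hK : ∀ v ∈ K, ρ y v = v)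
    (h : ∀ u : V, u * ρ y u ∈ K) : y = 1 := by
  refine hinj (MulEquiv.ext fun u => ?_)
  rw [map_one, MulAut.one_apply]
  refine fix_of_sq hy ?_
  rw [map_mul, MulAut.mul_apply]
  have h1 := hK _ (h u)
  rw [map_mul] at h1
  calc ρ y (ρ y u) = ρ y u * ρ y u * ρ y (ρ y u) := by rw [hexp, one_mul]
    _ = ρ y u * (ρ y u * ρ y (ρ y u)) := mul_assoc _ _ _
    _ = ρ y u * (u * ρ y u) := by rw [h1]
    _ = u * (ρ y u * ρ y u) := mul_left_comm _ _ _
    _ = u := by rw [hexp, mul_one]

theorem no_forty_or_fiftysix (T : Subgroup X) (hT : Nat.card T = 8) {m : ℕ} (hm : m = 5 ∨ m = 7)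
    (hX : Nat.card X = 8 * m) (hcore : ∀ N : Subgroup X, N.Normal → IsPGroup 2 N → N = ⊥) : False := by
  classical
  have hmp : m.Prime := by rcases hm with rfl | rfl <;> norm_num
  haveI : Fact m.Prime := ⟨hmp⟩
  haveI : Fact (Nat.Prime 2) := ⟨Nat.prime_two⟩
  obtain ⟨P⟩ : Nonempty (Sylow m X) := inferInstance
  have hP : Nat.card (P : Subgroup X) = m := by
    rw [P.card_eq_multiplicity, hX]
    have : (8 * m).factorization m = 1 := by
      rw [Nat.factorization_mul (by norm_num) hmp.ne_zero, Finsupp.add_apply, hmp.factorization_self,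
        Nat.factorization_eq_zero_of_not_dvd (by rcases hm with rfl | rfl <;> norm_num)]
    rw [this, pow_one]
  have hidx : (P : Subgroup X).index = 8 := by
    have h1 := (P : Subgroup X).card_mul_index
    rw [hP, hX, mul_comm 8] at h1
    exact Nat.eq_of_mul_eq_mul_left hmp.pos h1
  have hn := card_sylow_modEq_one m X
  have hd : Nat.card (Sylow m X) ∣ 8 := hidx ▸ P.card_dvd_index
  have h18 : Nat.card (Sylow m X) = 1 ∨ Nat.card (Sylow m X) = 8 := by
    obtain ⟨i, hi, he⟩ := (Nat.dvd_prime_pow Nat.prime_two).1 (show _ ∣ 2 ^ 3 from hd)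
    rw [he] at hn ⊢
    unfold Nat.ModEq at hn
    rcases hm with rfl | rfl <;> interval_cases i <;> simp at hn ⊢
  haveI : IsCyclic (P : Subgroup X) := isCyclic_of_prime_card hP
  rcases h18 with h1 | h8
  · haveI : Subsingleton (Sylow m X) := (Nat.card_eq_one_iff_unique.1 h1).1
    haveI hPn : (P : Subgroup X).Normal :=
      Subgroup.normalizer_eq_top_iff.1 (Subgroup.eq_top_iff' _ |>.2 fun x =>
        Sylow.smul_eq_iff_mem_normalizer.1 (Subsingleton.elim _ _))
    set K := T ⊓ Subgroup.centralizer ((P : Subgroup X) : Set X) with hK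
    have htop : T ⊔ (P : Subgroup X) = ⊤ := by
      refine Subgroup.eq_top_of_card_eq _ (Nat.dvd_antisymm (Subgroup.card_subgroup_dvd_card _) ?_)
      have h1 := Subgroup.card_dvd_of_le (le_sup_left : T ≤ T ⊔ (P : Subgroup X))
      have h2 := Subgroup.card_dvd_of_le (le_sup_right : (P : Subgroup X) ≤ T ⊔ (P : Subgroup X))
      rw [hT] at h1; rw [hP] at h2
      rw [hX]
      exact Nat.Coprime.mul_dvd_of_dvd_of_dvd (by rcases hm with rfl | rfl <;> norm_num) h1 h2
    have hKn : K.Normal := by
      rw [← Subgroup.normalizer_eq_top_iff, eq_top_iff, ← htop, sup_le_iff]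
      refine ⟨fun t ht => ?_, fun p hp => ?_⟩
      · haveI : (Subgroup.centralizer ((P : Subgroup X) : Set X)).Normal := inferInstance
        rw [Subgroup.mem_normalizer_iff]
        intro x
        rw [hK, Subgroup.mem_inf, Subgroup.mem_inf]
        constructor
        · exact fun h => ⟨mul_mem (mul_mem ht h.1) (inv_mem ht),
            Subgroup.Normal.conj_mem inferInstance x h.2 t⟩
        · intro h
          have e : t⁻¹ * (t * x * t⁻¹) * t = x := by group
          rw [← e]
          exact ⟨mul_mem (mul_mem (inv_mem ht) h.1) ht,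
            Subgroup.Normal.conj_mem' inferInstance _ h.2 t⟩
      · rw [Subgroup.mem_normalizer_iff]
        intro x
        constructor
        · intro h
          have := Subgroup.mem_centralizer_iff.1 h.2 p hp
          rwa [this, mul_inv_cancel_right]
        · intro h
          have := Subgroup.mem_centralizer_iff.1 h.2 p⁻¹ ((P : Subgroup X).inv_mem hp)
          have e : x = p * x * p⁻¹ := by
            calc x = p⁻¹ * (p * x * p⁻¹) * p := by group
              _ = (p * x * p⁻¹) * p⁻¹ * p := by rw [this]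
              _ = p * x * p⁻¹ := by group
          rw [e]; exact h
    have hKbot := hcore K hKn ((IsPGroup.of_card (show Nat.card T = 2 ^ 3 by rw [hT]; norm_num)).to_le inf_le_left)
    obtain ⟨g, hg⟩ := IsCyclic.exists_generator (α := (P : Subgroup X))
    -- the map `t ↦ t g t⁻¹`
    have hmem : ∀ t : T, (t : X) * (g : X) * (t : X)⁻¹ ∈ (P : Subgroup X) := fun t =>
      hPn.conj_mem _ g.2 _
    have hfinj : Function.Injective (fun t : T => (⟨_, hmem t⟩ : (P : Subgroup X))) := by
      intro t₁ t₂ h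
      have h1 : (t₁ : X) * g * (t₁ : X)⁻¹ = t₂ * g * (t₂ : X)⁻¹ := congrArg Subtype.val h
      have hc : Commute ((t₂ : X)⁻¹ * t₁) (g : X) := by
        show (t₂ : X)⁻¹ * t₁ * g = g * ((t₂ : X)⁻¹ * t₁)
        calc (t₂ : X)⁻¹ * t₁ * g = (t₂ : X)⁻¹ * (t₁ * g * (t₁ : X)⁻¹) * t₁ := by group
          _ = _ := by rw [h1]; group
      have hmemK : (t₂ : X)⁻¹ * t₁ ∈ K := by
        refine Subgroup.mem_inf.2 ⟨T.mul_mem (T.inv_mem t₂.2) t₁.2, Subgroup.mem_centralizer_iff.2 fun p hp => ?_⟩
        obtain ⟨n, hn⟩ := Subgroup.mem_zpowers_iff.1 (hg ⟨p, hp⟩)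
        have e : (g : X) ^ n = p := congrArg Subtype.val hn
        rw [← e]
        exact (hc.zpow_right n).symm.eq
      rw [hKbot, Subgroup.mem_bot, inv_mul_eq_one] at hmemK
      exact Subtype.ext hmemK.symm
    have hle := Nat.card_le_card_of_injective _ hfinj
    rw [hT, hP] at hle
    omega
  · have hN : Subgroup.normalizer (P : Set X) = (P : Subgroup X) := by
      refine (Subgroup.eq_of_le_of_card_ge Subgroup.le_normalizer ?_).symm
      have h1 := (Subgroup.normalizer (P : Set X)).card_mul_index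
      rw [← Sylow.card_eq_index_normalizer, h8, hX] at h1
      rw [hP]
      show Nat.card (Subgroup.normalizer (P : Set X)) ≤ m
      omega
    have hc : Cfsg.HasNormalPComplement m X := by
      refine Fusion.hasNormalPComplement_of_normalizer_le_centralizer P ?_
      rw [hN]
      intro x hx
      rw [Subgroup.mem_centralizer_iff]
      intro y hy
      letI : CommGroup (P : Subgroup X) := IsCyclic.commGroup
      exact congrArg Subtype.val (mul_comm (⟨y, hy⟩ : (P : Subgroup X)) ⟨x, hx⟩)
    obtain ⟨N, hNn, hNc, k, hk⟩ := (PBasic.hasNormalPComplement_iff).1 hc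
    have h1 := N.card_mul_index
    rw [hk, hX] at h1
    have hN8 : Nat.card N = 8 := by
      refine Nat.dvd_antisymm ?_ ?_
      · exact (Nat.Coprime.dvd_of_dvd_mul_right hNc (Dvd.intro _ h1))
      · refine Nat.Coprime.dvd_of_dvd_mul_right ?_ (Dvd.intro m h1.symm)
        exact (((Nat.coprime_primes Nat.prime_two hmp).2 (by rcases hm with rfl | rfl <;> norm_num)).pow 3 k)
    have := hcore N hNn (IsPGroup.of_card (show Nat.card N = 2 ^ 3 by rw [hN8]; norm_num))
    rw [this, Subgroup.card_bot] at hN8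
    norm_num at hN8

/-- The Sylow 2-subgroup has order at most four. -/
theorem card_le_four (hinj : Function.Injective ρ) (T : Subgroup X) (hTp : IsPGroup 2 T)
    (hTsyl : ¬ 2 ∣ T.index) (hmax : ∀ Y : Subgroup X, T ≤ Y → Y = T ∨ Y = ⊤) (hTn : ¬ T.Normal)
    (hcore : ∀ N : Subgroup X, N.Normal → IsPGroup 2 N → N = ⊥)
    (hexp : ∀ v : V, v * v = 1) (hbound : Nat.card V * Nat.card T ≤ 64) : Nat.card T ≤ 4 := by
  classical
  haveI : Fact (Nat.Prime 2) := ⟨Nat.prime_two⟩
  by_contra hgt
  obtain ⟨j, hj⟩ := IsPGroup.iff_card.1 hTp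
  have hj3 : 3 ≤ j := by
    by_contra h
    have : 2 ^ j ≤ 2 ^ 2 := Nat.pow_le_pow_right two_pos (by omega)
    omega
  have hT8 : 8 ≤ Nat.card T := hj ▸ le_trans (by norm_num) (Nat.pow_le_pow_right two_pos hj3)
  have hV8 : Nat.card V ≤ 8 := by nlinarith
  have hVp : IsPGroup 2 V := fun v => ⟨1, by rw [pow_one, pow_two, hexp]⟩
  obtain ⟨i, hi⟩ := IsPGroup.iff_card.1 hVp
  have hi3 : i ≤ 3 := by
    by_contra h
    have : 2 ^ 4 ≤ 2 ^ i := Nat.pow_le_pow_right two_pos (by omega)
    omega
  -- the action on the non-identity elements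
  letI : MulAction X {v : V // v ≠ 1} :=
    { smul := fun x v => ⟨ρ x v.1, fun h => v.2 ((ρ x).injective (by rw [h, map_one]))⟩
      one_smul := fun v => Subtype.ext (by show ρ 1 v.1 = v.1; rw [map_one]; rfl)
      mul_smul := fun x y v => Subtype.ext (by show ρ (x * y) v.1 = ρ x (ρ y v.1); rw [map_mul]; rfl) }
  have hfaith : Function.Injective (MulAction.toPermHom X {v : V // v ≠ 1}) := by
    intro x y h
    refine hinj (MulEquiv.ext fun v => ?_)
    by_cases hv : v = 1
    · rw [hv, map_one, map_one]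
    · exact congrArg Subtype.val (Equiv.ext_iff.1 h ⟨v, hv⟩)
  have hcardS : Nat.card {v : V // v ≠ 1} = 2 ^ i - 1 := by
    haveI := Fintype.ofFinite V
    rw [Nat.card_eq_fintype_card, Fintype.card_subtype_compl, Fintype.card_subtype_eq,
      ← Nat.card_eq_fintype_card, hi]
  have hdvd : Nat.card X ∣ Nat.factorial (2 ^ i - 1) := by
    rw [← hcardS, ← Nat.card_perm, Nat.card_congr (Equiv.ofInjective _ hfaith)]
    exact Subgroup.card_subgroup_dvd_card (MulAction.toPermHom X {v : V // v ≠ 1}).range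
  have hTdvd : Nat.card T ∣ Nat.factorial (2 ^ i - 1) := (Subgroup.card_subgroup_dvd_card T).trans hdvd
  have h8d : 8 ∣ Nat.card T := hj ▸ (pow_dvd_pow 2 hj3 : 2 ^ 3 ∣ 2 ^ j)
  have hi' : i = 3 := by
    by_contra hne
    have := h8d.trans hTdvd
    interval_cases i <;> simp [Nat.factorial] at this hne
  subst hi'
  have hT : Nat.card T = 8 := by
    have : Nat.card T ≤ 8 := by rw [hi] at hbound; omega
    omega
  obtain ⟨c, hc⟩ : (MulAction.fixedPoints T {v : V // v ≠ 1}).Nonempty :=
    hTp.nonempty_fixed_point_of_prime_not_dvd_card _ (by rw [hcardS]; norm_num)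
  have hTle : T ≤ MulAction.stabilizer X c := fun t ht => hc ⟨t, ht⟩
  rcases hmax _ hTle with hst | hst
  · -- a transitive action of degree three, five or seven
    have horb : T.index = Nat.card (MulAction.orbit X c) := by
      rw [← hst, MulAction.index_stabilizer]
      rfl
    have hle : T.index ≤ 7 := by
      rw [horb]
      exact (Nat.card_le_card_of_injective _ Subtype.val_injective).trans hcardS.le
    have hX : Nat.card X = 8 * T.index := by rw [← T.card_mul_index, hT]
    have h1 : T.index ≠ 1 := fun h => hTn (by rw [Subgroup.index_eq_one.1 h]; infer_instance)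
    have h0 : T.index ≠ 0 := Subgroup.index_ne_zero_of_finite
    have hcases : T.index = 3 ∨ T.index = 5 ∨ T.index = 7 := by omega
    rcases hcases with h3 | h57
    · have hker : (MulAction.toPermHom X (X ⧸ T)).ker = ⊥ := by
        rw [← Subgroup.normalCore_eq_ker]
        exact hcore _ inferInstance (hTp.to_le (Subgroup.normalCore_le T))
      have hd : Nat.card X ∣ Nat.factorial 3 := by
        rw [← h3, Subgroup.index, ← Nat.card_perm,
          Nat.card_congr (Equiv.ofInjective _ ((MonoidHom.ker_eq_bot_iff _).1 hker))]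
        exact Subgroup.card_subgroup_dvd_card (MulAction.toPermHom X (X ⧸ T)).range
      rw [hX, h3] at hd
      norm_num [Nat.factorial] at hd
    · exact no_forty_or_fiftysix T hT h57 hX hcore
  · -- a fixed point: act on the quotient by it
    have hfix : ∀ x : X, ρ x c.1 = c.1 := fun x =>
      congrArg Subtype.val (MulAction.mem_stabilizer_iff.1 (show x ∈ MulAction.stabilizer X c by rw [hst]; exact Subgroup.mem_top x))
    set C := Subgroup.zpowers c.1 with hC
    have hmapC : ∀ x : X, C.map ((ρ x : MulAut V) : V →* V) = C := fun x => by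
      rw [hC, MonoidHom.map_zpowers]
      exact congrArg Subgroup.zpowers (hfix x)
    let q : X →* MulAut (V ⧸ C) :=
      { toFun := fun x => QuotientGroup.congr C C (ρ x) (hmapC x)
        map_one' := by
          ext a
          obtain ⟨a, rfl⟩ := QuotientGroup.mk_surjective a
          rw [QuotientGroup.congr_mk]
          simp
        map_mul' := fun x y => by
          ext a
          obtain ⟨a, rfl⟩ := QuotientGroup.mk_surjective a
          rw [QuotientGroup.congr_mk, MulAut.mul_apply, QuotientGroup.congr_mk, QuotientGroup.congr_mk,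
            map_mul, MulAut.mul_apply] }
    have hmemC : ∀ v, v ∈ C ↔ v = 1 ∨ v = c.1 := fun v => by
      rw [hC, mem_zpowers_iff_mem_range_orderOf,
        orderOf_eq_prime (p := 2) (by rw [pow_two, hexp]) c.2]
      simp [Finset.range_add_one, eq_comm, or_comm]
    have hker : q.ker = ⊥ := by
      refine hcore _ inferInstance ?_
      rintro ⟨x, hx⟩
      refine ⟨1, Subtype.ext (hinj (MulEquiv.ext fun v => ?_))⟩
      show ρ (x ^ 2 ^ 1) v = ρ 1 v
      rw [pow_one, pow_two, map_mul, map_one, MulAut.mul_apply, MulAut.one_apply]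
      have h1 : (QuotientGroup.mk (ρ x v) : V ⧸ C) = QuotientGroup.mk v := by
        have := MulEquiv.ext_iff.1 (MonoidHom.mem_ker.1 hx) (QuotientGroup.mk v)
        simpa [q, QuotientGroup.congr_mk] using this
      rw [QuotientGroup.eq, hmemC] at h1
      rcases h1 with h1 | h1
      · rw [inv_mul_eq_one] at h1; rw [h1, h1]
      · rw [inv_mul_eq_iff_eq_mul] at h1
        calc ρ x (ρ x v) = ρ x (ρ x v * c.1 * c.1) := by rw [mul_assoc, hexp, mul_one]
          _ = ρ x (ρ x v * c.1) * c.1 := by rw [map_mul, hfix]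
          _ = ρ x v * c.1 := congrArg (fun w => ρ x w * c.1) h1.symm
          _ = v := h1.symm
    let π : X →* Equiv.Perm {a : V ⧸ C // a ≠ 1} :=
      { toFun := fun x =>
          { toFun := fun a => ⟨q x a.1, fun h => a.2 ((q x).injective (by rw [h, map_one]))⟩
            invFun := fun a => ⟨(q x).symm a.1, fun h => a.2 (by rw [← (q x).apply_symm_apply a.1, h, map_one])⟩
            left_inv := fun a => Subtype.ext ((q x).symm_apply_apply a.1)
            right_inv := fun a => Subtype.ext ((q x).apply_symm_apply a.1) }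
        map_one' := Equiv.ext fun a => Subtype.ext (by show q 1 a.1 = a.1; rw [map_one]; rfl)
        map_mul' := fun x y => Equiv.ext fun a => Subtype.ext
          (by show q (x * y) a.1 = q x (q y a.1); rw [map_mul]; rfl) }
    have hπ : Function.Injective π := by
      intro x y h
      refine (MonoidHom.ker_eq_bot_iff q).1 hker (MulEquiv.ext fun a => ?_)
      by_cases ha : a = 1
      · rw [ha, map_one, map_one]
      · exact congrArg Subtype.val (Equiv.ext_iff.1 h ⟨a, ha⟩)
    have hQ : Nat.card {a : V ⧸ C // a ≠ 1} = 3 := by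
      haveI := Fintype.ofFinite (V ⧸ C)
      have h2 := C.card_eq_card_quotient_mul_card_subgroup
      have hC2 : Nat.card C = 2 := by
        rw [hC, Nat.card_zpowers, orderOf_eq_prime (p := 2) (by rw [pow_two, hexp]) c.2]
      rw [hi, hC2] at h2
      rw [Nat.card_eq_fintype_card, Fintype.card_subtype_compl, Fintype.card_subtype_eq,
        ← Nat.card_eq_fintype_card]
      change 2 ^ 3 = _ at h2
      omega
    have hd : Nat.card T ∣ Nat.factorial 3 := by
      refine (Subgroup.card_subgroup_dvd_card T).trans ?_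
      rw [← hQ, ← Nat.card_perm, Nat.card_congr (Equiv.ofInjective _ hπ)]
      exact Subgroup.card_subgroup_dvd_card π.range
    rw [hT] at hd
    norm_num [Nat.factorial] at hd

/-- The structure theorem. -/
theorem ff_shape (hinj : Function.Injective ρ) (T : Subgroup X) (hTp : IsPGroup 2 T)
    (hTsyl : ¬ 2 ∣ T.index) (hmax : ∀ Y : Subgroup X, T ≤ Y → Y = T ∨ Y = ⊤) (hTn : ¬ T.Normal)
    (hcore : ∀ N : Subgroup X, N.Normal → IsPGroup 2 N → N = ⊥)
    (hexp : ∀ v : V, v * v = 1) (hbound : Nat.card V * Nat.card T ≤ 64)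
    (A : Subgroup X) (hAT : A ≤ T) (hA : A ≠ ⊥) (hA2 : ∀ a ∈ A, a * a = 1)
    (hFF : Nat.card V ≤ Nat.card A * Nat.card (fixS ρ (A : Set X))) :
    ∃ a y : X, a ∈ T ∧ a ≠ 1 ∧ Nat.card T = 2 ∧ Nat.card X = 6 ∧ y ^ 3 = 1 ∧ y ∉ T ∧
      (fixS ρ {a}).index = 2 ∧ (fixS ρ {y}).index = 4 ∧
      ∀ v ∈ fixS ρ {y}, ∀ x : X, ρ x v = v := by
  classical
  haveI : Fact (Nat.Prime 2) := ⟨Nat.prime_two⟩
  have h4 := card_le_four hinj T hTp hTsyl hmax hTn hcore hexp hbound
  obtain ⟨a, haA, ha1⟩ := (Subgroup.bot_or_exists_ne_one A).resolve_left hA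
  have haT : a ∈ T := hAT haA
  have hcomm : ∀ s ∈ T, ∀ t ∈ T, s * t = t * s := by
    obtain ⟨j, hj⟩ := IsPGroup.iff_card.1 hTp
    have hj2 : j ≤ 2 := by
      by_contra h
      have : 2 ^ 3 ≤ 2 ^ j := Nat.pow_le_pow_right two_pos (by omega)
      omega
    intro s hs t ht
    interval_cases j
    · rw [pow_zero, Subgroup.card_eq_one] at hj
      rw [hj, Subgroup.mem_bot] at hs; rw [hs, one_mul, mul_one]
    · haveI : IsCyclic T := isCyclic_of_prime_card (p := 2) (by rw [hj, pow_one])
      letI : CommGroup T := IsCyclic.commGroup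
      exact congrArg Subtype.val (mul_comm (⟨s, hs⟩ : T) ⟨t, ht⟩)
    · exact congrArg Subtype.val (IsPGroup.commutative_of_card_eq_prime_sq (G := T) hj ⟨s, hs⟩ ⟨t, ht⟩)
  have hNT : Subgroup.normalizer (T : Set X) = T :=
    (hmax _ Subgroup.le_normalizer).resolve_right fun h => hTn (Subgroup.normalizer_eq_top_iff.1 h)
  set P : Sylow 2 X := hTp.toSylow hTsyl with hP
  have hPT : (P : Subgroup X) = T := IsPGroup.toSylow_coe hTp hTsyl
  have hcmpl : Cfsg.HasNormalPComplement 2 X := by
    refine Fusion.hasNormalPComplement_of_normalizer_le_centralizer P ?_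
    rw [← Sylow.coe_coe, hPT, hNT]
    exact fun t ht => Subgroup.mem_centralizer_iff.2 fun s hs => hcomm s hs t ht
  obtain ⟨O, hOn, hOc, k, hk⟩ := PBasic.hasNormalPComplement_iff.1 hcmpl
  haveI := hOn
  have hOT : O ⊓ T = ⊥ := PBasic.inf_eq_bot_of_coprime hOc hTp
  have hTO : T ⊔ O = ⊤ := by rw [← hPT]; exact PBasic.sylow_sup_eq_top P (IsPGroup.of_card hk)
  have hOodd : ∀ x ∈ O, Odd (orderOf x) := fun x hx =>
    (PBasic.coprime_orderOf_of_mem hOc hx).odd_of_right
  -- no proper invariant subgroup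
  have hinv : ∀ Y : Subgroup X, Y ≤ O → T ≤ Subgroup.normalizer (Y : Set X) → Y = ⊥ ∨ Y = O := by
    intro Y hY hn
    rcases hmax (T ⊔ Y) le_sup_left with h | h
    · left; rw [eq_bot_iff, ← hOT]; exact le_inf hY (le_sup_right.trans h.le)
    · right
      refine le_antisymm hY fun o ho => ?_
      have h1 : o ∈ T ⊔ Y := h ▸ Subgroup.mem_top o
      rw [← SetLike.mem_coe, Subgroup.coe_mul_of_left_le_normalizer_right T Y hn] at h1
      obtain ⟨t, ht, y, hy, rfl⟩ := Set.mem_mul.1 h1
      have ht1 : t = 1 := by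
        rw [← Subgroup.mem_bot, ← hOT]
        exact ⟨by simpa using mul_mem ho (inv_mem (hY hy)), ht⟩
      rw [ht1, one_mul]; exact hy
  have hfpf : ∀ t ∈ T, t ≠ 1 → ∀ o ∈ O, t * o = o * t → o = 1 := by
    intro t ht ht1 o ho hto
    rcases hinv (O ⊓ Subgroup.centralizer ({t} : Set X)) inf_le_left (fun s hs => by
      rw [Subgroup.mem_normalizer_iff]
      intro x
      rw [Subgroup.mem_inf, Subgroup.mem_inf, Subgroup.mem_centralizer_singleton_iff,
        Subgroup.mem_centralizer_singleton_iff]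
      have hst := hcomm s hs t ht
      refine and_congr ⟨fun h => hOn.conj_mem x h s, fun h => by
        have e : x = s⁻¹ * (s * x * s⁻¹) * s := by group
        rw [e]; exact hOn.conj_mem' _ h s⟩ ?_
      constructor
      · intro h
        exact ((Commute.mul_left (Commute.mul_left hst h) (Commute.inv_left hst))).eq
      · intro h
        have e : x = s⁻¹ * (s * x * s⁻¹) * s := by group
        rw [e]
        exact (Commute.mul_left (Commute.mul_left (Commute.inv_left hst) h) hst).eq) with hb | hb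
    · rw [← Subgroup.mem_bot, ← hb]
      exact ⟨ho, Subgroup.mem_centralizer_singleton_iff.2 hto.symm⟩
    · exfalso
      refine ht1 ?_
      rw [← Subgroup.zpowers_eq_bot]
      refine hcore _ ?_ (hTp.to_le (Subgroup.zpowers_le.2 ht))
      rw [← Subgroup.normalizer_eq_top_iff, eq_top_iff, ← hTO, sup_le_iff]
      have hcz : ∀ x, Commute x t → x ∈ Subgroup.normalizer (Subgroup.zpowers t : Set X) := fun x hx => by
        refine Subgroup.centralizer_le_normalizer _ (Subgroup.mem_centralizer_iff.2 ?_)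
        rintro _ ⟨n, rfl⟩
        exact (hx.zpow_right n).symm.eq
      exact ⟨fun s hs => hcz s (hcomm s hs t ht), fun x hx =>
        hcz x (Subgroup.mem_centralizer_singleton_iff.1 ((hb.ge hx).2))⟩
  have hinvert : ∀ t ∈ T, t ≠ 1 → t * t = 1 → ∀ o ∈ O, t * o * t⁻¹ = o⁻¹ := by
    intro t ht ht1 ht2 o ho
    let φ : O →* O := (MulAut.conjNormal t : MulAut O).toMonoidHom
    have hφ : MonoidHom.FixedPointFree φ := fun x hx => Subtype.ext (hfpf t ht ht1 x x.2 (by
      have h1 : t * (x : X) * t⁻¹ = x := congrArg Subtype.val hx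
      exact mul_inv_eq_iff_eq_mul.1 h1))
    have h2 : Function.Involutive φ := fun x => Subtype.ext (by
      show t * (t * (x : X) * t⁻¹) * t⁻¹ = x
      rw [show t * (t * (x : X) * t⁻¹) * t⁻¹ = (t * t) * x * (t * t)⁻¹ by group, ht2]; simp)
    exact congrArg Subtype.val (congrFun (MonoidHom.FixedPointFree.coe_eq_inv_of_involutive hφ h2) ⟨o, ho⟩)
  obtain ⟨y, hyO, hy1⟩ : ∃ y ∈ O, y ≠ 1 := by
    refine (Subgroup.bot_or_exists_ne_one O).resolve_left fun hb => hTn ?_
    rw [hb, sup_bot_eq] at hTO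
    rw [hTO]; infer_instance
  have hAeq : ∀ b ∈ A, b = 1 ∨ b = a := by
    intro b hb
    by_contra hcon
    push Not at hcon
    have hab : a * b ≠ 1 := fun h => hcon.2
      (by rw [← inv_eq_of_mul_eq_one_right (hA2 a haA)]; exact (inv_eq_of_mul_eq_one_right h).symm)
    refine hy1 (hfpf (a * b) (hAT (mul_mem haA hb)) hab y hyO ?_)
    have h1 := hinvert a haT ha1 (hA2 a haA) y⁻¹ (inv_mem hyO)
    have h2 := hinvert b (hAT hb) hcon.1 (hA2 b hb) y hyO
    rw [inv_inv] at h1
    rw [← mul_inv_eq_iff_eq_mul]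
    calc a * b * y * (a * b)⁻¹ = a * (b * y * b⁻¹) * a⁻¹ := by group
      _ = a * y⁻¹ * a⁻¹ := by rw [h2]
      _ = y := h1
  have ha2 := hA2 a haA
  have hfixA : fixS ρ (A : Set X) = fixS ρ {a} := by
    ext v
    refine ⟨fun h => mem_fixS.2 (h a haA), fun h b hb => ?_⟩
    rcases hAeq b hb with rfl | rfl
    · rw [map_one]; rfl
    · exact mem_fixS.1 h
  have hAc : Nat.card A ≤ 2 := by
    have : Nat.card (A : Set X) ≤ Nat.card ({1, a} : Set X) :=
      Nat.card_mono (Set.toFinite _) (fun b hb => by simpa using hAeq b hb)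
    refine this.trans ?_
    rw [Nat.card_coe_set_eq, Set.ncard_pair ha1.symm]
  have hia : (fixS ρ {a}).index = 2 := by
    have hne : (fixS ρ {a}).index ≠ 1 := fun h => ha1 (hinj (MulEquiv.ext fun v => by
      rw [map_one, MulAut.one_apply]
      exact mem_fixS.1 ((Subgroup.index_eq_one.1 h).ge (Subgroup.mem_top v))))
    have h1 := (fixS ρ {a}).card_mul_index
    rw [hfixA] at hFF
    have h0 : (fixS ρ {a}).index ≠ 0 := Subgroup.index_ne_zero_of_finite
    have hpos : 0 < Nat.card (fixS ρ {a}) := Nat.card_pos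
    by_contra h2
    have h3 : 3 ≤ (fixS ρ {a}).index := by omega
    nlinarith
  -- conjugates of `a` by `O`
  have hconjfix : ∀ x ∈ O, ∀ v, ρ a v = v → ρ (x * a * x⁻¹) v = v → ρ x v = v := by
    intro x hx v h1 h2
    refine fix_of_sq (hOodd x hx) ?_
    have h3 := hinvert a haT ha1 ha2 x⁻¹ (inv_mem hx)
    rw [inv_inv] at h3
    have h4 : x * x = x * a * x⁻¹ * a⁻¹ := by
      conv_lhs => arg 2; rw [← h3]
      group
    rw [h4, inv_eq_of_mul_eq_one_right ha2, map_mul, MulAut.mul_apply, h1, h2]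
  have hKa : ∀ x ∈ O, x ≠ 1 → ∀ v, ρ x v = v → ρ a v = v := by
    intro x hx hx1 v hv
    by_contra hva
    set K := fixS ρ {x} with hKdef
    have hinvK : ∀ w ∈ K, ρ a w ∈ K := fun w hw => mem_fixS.2 (by
      have h3 := hinvert a haT ha1 ha2 x⁻¹ (inv_mem hx)
      rw [inv_inv, mul_inv_eq_iff_eq_mul] at h3
      rw [← MulAut.mul_apply, ← map_mul, ← h3, map_mul, MulAut.mul_apply]
      congr 1
      rw [map_inv]
      calc (ρ x)⁻¹ w = (ρ x)⁻¹ (ρ x w) := by rw [mem_fixS.1 hw]
        _ = w := (ρ x).symm_apply_apply w)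
    set c := v * ρ a v with hcdef
    have hcK : c ∈ K := mul_mem (mem_fixS.2 hv) (hinvK v (mem_fixS.2 hv))
    have hvn : v ∉ fixS ρ {a} := fun h => hva (mem_fixS.1 h)
    have hd : ∀ u, u * ρ a u ∈ K := by
      intro u
      by_cases hu : u ∈ fixS ρ {a}
      · rw [mem_fixS.1 hu, hexp]; exact one_mem _
      · have huv : u * v ∈ fixS ρ {a} := (Subgroup.mul_mem_iff_of_index_two hia).2 (iff_of_false hu hvn)
        have h1 := mem_fixS.1 huv
        rw [map_mul] at h1
        have : u * ρ a u = c := by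
          rw [← mul_right_cancel_iff (a := v * ρ a v)]
          calc u * ρ a u * (v * ρ a v) = (u * v) * (ρ a u * ρ a v) := by ac_rfl
            _ = (u * v) * (u * v) := by rw [h1]
            _ = c * (v * ρ a v) := by rw [hexp, hexp]
        rw [this]; exact hcK
    refine hx1 (stab_series hinj hexp (hOodd x hx) (fun w hw => mem_fixS.1 hw) fun u => ?_)
    -- both `a` and its conjugate act trivially modulo `K`
    have hd' : ∀ u, u * ρ (x * a * x⁻¹) u ∈ K := fun u => by
      set u' := ρ x⁻¹ u with hu'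
      have e : ρ x u' = u := by rw [hu', ← MulAut.mul_apply, ← map_mul, mul_inv_cancel, map_one]; rfl
      have h1 := mem_fixS.1 (hd u')
      rw [map_mul, map_mul, MulAut.mul_apply, MulAut.mul_apply, ← hu']
      rw [map_mul, e] at h1
      rw [h1]
      exact hd u'
    have h3 := hinvert a haT ha1 ha2 x⁻¹ (inv_mem hx)
    rw [inv_inv] at h3
    have h4 : x * x = x * a * x⁻¹ * a⁻¹ := by
      conv_lhs => arg 2; rw [← h3]
      group
    have hxx : ∀ u, u * ρ (x * x) u ∈ K := fun u => by
      rw [h4, inv_eq_of_mul_eq_one_right ha2, map_mul, MulAut.mul_apply]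
      have := mul_mem (hd u) (hd' (ρ a u))
      rwa [mul_assoc u, ← mul_assoc (ρ a u), hexp, one_mul] at this
    obtain ⟨m, hm⟩ := (isOfFinOrder_of_finite (x * x)).mem_powers_iff_mem_zpowers.2
      (mem_zpowers_sq (hOodd x hx))
    have hpow : ∀ n : ℕ, ∀ u, u * ρ ((x * x) ^ n) u ∈ K := by
      intro n
      induction n with
      | zero => intro u; rw [pow_zero, map_one, MulAut.one_apply, hexp]; exact one_mem _
      | succ n ih =>
        intro u
        rw [pow_succ, map_mul, MulAut.mul_apply]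
        have := mul_mem (hxx u) (ih (ρ (x * x) u))
        rwa [mul_assoc u, ← mul_assoc (ρ (x * x) u), hexp, one_mul] at this
    have := hpow m u
    rwa [show (x * x) ^ m = x from hm] at this
  have hKO : ∀ v, ρ y v = v → ∀ x ∈ O, ρ x v = v := by
    intro v hv x hx
    refine hconjfix x hx v (hKa y hyO hy1 v hv) ?_
    have hxy : x * y = y * x := by
      have hxinv := hinvert a haT ha1 ha2 (x * y) (mul_mem hx hyO)
      have h1 := hinvert a haT ha1 ha2 x hx
      have h2 := hinvert a haT ha1 ha2 y hyO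
      have e : a * (x * y) * a⁻¹ = (a * x * a⁻¹) * (a * y * a⁻¹) := by group
      rw [e, h1, h2] at hxinv
      have := congrArg (fun t => t⁻¹) hxinv
      simp only [mul_inv_rev, inv_inv] at this
      exact this.symm
    have hw : ρ y (ρ x⁻¹ v) = ρ x⁻¹ v := by
      rw [← MulAut.mul_apply, ← map_mul, show y * x⁻¹ = x⁻¹ * y from
        (Commute.inv_left (a := x) (b := y) hxy).symm.eq, map_mul, MulAut.mul_apply, hv]
    rw [map_mul, map_mul, MulAut.mul_apply, MulAut.mul_apply, hKa y hyO hy1 _ hw, ← MulAut.mul_apply,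
      ← map_mul, mul_inv_cancel, map_one]
    rfl
  have hKle : ∀ x ∈ O, x ≠ 1 → fixS ρ {x} = fixS ρ {y} := by
    intro x hx hx1
    ext v
    rw [mem_fixS, mem_fixS]
    refine ⟨fun h => ?_, fun h => hKO v h x hx⟩
    refine hconjfix y hyO v (hKa x hx hx1 v h) ?_
    have hyx : y * x = x * y := by
      have hxinv := hinvert a haT ha1 ha2 (y * x) (mul_mem hyO hx)
      have e : a * (y * x) * a⁻¹ = (a * y * a⁻¹) * (a * x * a⁻¹) := by group
      rw [e, hinvert a haT ha1 ha2 x hx, hinvert a haT ha1 ha2 y hyO] at hxinv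
      have := congrArg (fun t => t⁻¹) hxinv
      simp only [mul_inv_rev, inv_inv] at this
      exact this.symm
    have hw : ρ x (ρ y⁻¹ v) = ρ y⁻¹ v := by
      rw [← MulAut.mul_apply, ← map_mul, show x * y⁻¹ = y⁻¹ * x from
        (Commute.inv_left (a := y) (b := x) hyx).symm.eq, map_mul, MulAut.mul_apply, h]
    rw [map_mul, map_mul, MulAut.mul_apply, MulAut.mul_apply, hKa x hx hx1 _ hw, ← MulAut.mul_apply,
      ← map_mul, mul_inv_cancel, map_one]
    rfl
  set K := fixS ρ {y} with hK
  have hi4 : K.index ≤ 4 := by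
    have hle : fixS ρ {a} ⊓ fixS ρ {y * a * y⁻¹} ≤ K := fun v hv =>
      mem_fixS.2 (hconjfix y hyO v (mem_fixS.1 hv.1) (mem_fixS.1 hv.2))
    have h2 : fixS ρ {y * a * y⁻¹} = (fixS ρ {a}).map ((ρ y : MulAut V) : V →* V) := by
      ext v
      rw [mem_fixS, Subgroup.mem_map, map_mul, map_mul, MulAut.mul_apply, MulAut.mul_apply, map_inv]
      constructor
      · intro h
        refine ⟨(ρ y)⁻¹ v, mem_fixS.2 ?_, (ρ y).apply_symm_apply v⟩
        exact (ρ y).injective (h.trans ((ρ y).apply_symm_apply v).symm)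
      · rintro ⟨w, hw, rfl⟩
        show ρ y (ρ a ((ρ y).symm (ρ y w))) = ρ y w
        rw [MulEquiv.symm_apply_apply, mem_fixS.1 hw]
    calc K.index ≤ (fixS ρ {a} ⊓ fixS ρ {y * a * y⁻¹}).index :=
          Nat.le_of_dvd (Nat.pos_of_ne_zero Subgroup.index_ne_zero_of_finite) (Subgroup.index_dvd_of_le hle)
      _ ≤ (fixS ρ {a}).index * (fixS ρ {y * a * y⁻¹}).index := Subgroup.index_inf_le
      _ = 4 := by
        rw [h2, Subgroup.index_map_equiv (fixS ρ {a}) (ρ y), hia]
  have hVp : IsPGroup 2 V := fun v => ⟨1, by rw [pow_one, pow_two, hexp]⟩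
  have hKi : K.index = 4 := by
    obtain ⟨n, hn⟩ := IsPGroup.iff_card.1 hVp
    obtain ⟨i, -, hi⟩ := (Nat.dvd_prime_pow Nat.prime_two).1 (hn ▸ K.index_dvd_card)
    have hi2 : i ≤ 2 := by
      by_contra h
      have : 2 ^ 3 ≤ 2 ^ i := Nat.pow_le_pow_right two_pos (by omega)
      omega
    interval_cases i
    · exfalso
      refine hy1 (hinj (MulEquiv.ext fun v => ?_))
      rw [map_one, MulAut.one_apply]
      exact mem_fixS.1 ((Subgroup.index_eq_one.1 (by simpa using hi) : K = ⊤).ge (Subgroup.mem_top v))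
    · exfalso
      refine hy1 (stab_series hinj hexp (hOodd y hyO) (K := K) (fun v hv => mem_fixS.1 hv) fun u => ?_)
      rw [Subgroup.mul_mem_iff_of_index_two (by simpa using hi)]
      constructor
      · intro hu; rwa [mem_fixS.1 hu]
      · intro hu
        have h1 : ρ y (ρ y u) = ρ y u := mem_fixS.1 hu
        exact mem_fixS.2 ((ρ y).injective h1)
    · simpa using hi
  -- `O` acts regularly on the non-trivial cosets of `K`
  have hO3 : Nat.card O = 3 := by
    obtain ⟨u, hu⟩ : ∃ u, u ∉ K := by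
      by_contra h; push Not at h
      rw [(Subgroup.eq_top_iff' K).2 h, Subgroup.index_top] at hKi
      norm_num at hKi
    have hnofix : ∀ x ∈ O, x ≠ 1 → ∀ w, w * ρ x w ∈ K → w ∈ K := by
      intro x hx hx1 w hw
      have h1 := hKO _ (mem_fixS.1 hw) x hx
      rw [map_mul] at h1
      rw [← hKle x hx hx1]
      refine mem_fixS.2 (fix_of_sq (hOodd x hx) ?_)
      rw [map_mul, MulAut.mul_apply]
      calc ρ x (ρ x w) = ρ x w * (ρ x w * ρ x (ρ x w)) := by rw [← mul_assoc, hexp, one_mul]
        _ = w := by rw [h1, mul_left_comm, hexp, mul_one]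
    let f : O → {q : V ⧸ K // q ≠ 1} := fun x => ⟨QuotientGroup.mk (ρ (x : X) u), fun h => by
      rw [QuotientGroup.eq_one_iff] at h
      apply hu
      have h1 := hKO _ (mem_fixS.1 h) _ (inv_mem x.2)
      rw [← MulAut.mul_apply, ← map_mul, inv_mul_cancel, map_one, MulAut.one_apply] at h1
      rw [h1]; exact h⟩
    have hf : Function.Injective f := by
      intro x₁ x₂ h
      by_contra hne
      have h1 : (ρ (x₁ : X) u)⁻¹ * ρ (x₂ : X) u ∈ K := QuotientGroup.eq.1 (congrArg Subtype.val h)
      rw [inv_eq_of_mul_eq_one_right (hexp _)] at h1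
      refine hu ?_
      have hw := hnofix ((x₂ : X) * (x₁ : X)⁻¹) (mul_mem x₂.2 (inv_mem x₁.2))
        (fun e => hne (Subtype.ext (mul_inv_eq_one.1 e).symm)) (ρ (x₁ : X) u) (by
          rw [← MulAut.mul_apply, ← map_mul, inv_mul_cancel_right]; exact h1)
      have h2 := hKO _ (mem_fixS.1 hw) _ (inv_mem x₁.2)
      rw [← MulAut.mul_apply, ← map_mul, inv_mul_cancel, map_one, MulAut.one_apply] at h2
      rw [h2]; exact hw
    haveI := Fintype.ofFinite (V ⧸ K)
    have hle := Nat.card_le_card_of_injective f hf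
    have hq : Nat.card {q : V ⧸ K // q ≠ 1} = 3 := by
      rw [Nat.card_eq_fintype_card, Fintype.card_subtype_compl, Fintype.card_subtype_eq,
        ← Nat.card_eq_fintype_card, ← Subgroup.index, hKi]
    rw [hq] at hle
    have h2 : 1 < Nat.card O := by
      haveI : Nontrivial O := ⟨⟨⟨y, hyO⟩, 1, fun h => hy1 (congrArg Subtype.val h)⟩⟩
      exact Finite.one_lt_card
    have hodd : Odd (Nat.card O) := hOc.odd_of_right
    rcases hodd with ⟨m, hm⟩
    omega
  have hT2 : Nat.card T = 2 := by
    let f : T → {o : O // o ≠ 1} := fun t => ⟨⟨(t : X) * y * (t : X)⁻¹, hOn.conj_mem y hyO t⟩,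
      fun h => hy1 (by simpa using congrArg Subtype.val h)⟩
    have hf : Function.Injective f := by
      intro t₁ t₂ h
      have h1 : (t₁ : X) * y * (t₁ : X)⁻¹ = t₂ * y * (t₂ : X)⁻¹ :=
        congrArg (fun o : {o : O // o ≠ 1} => ((o : O) : X)) h
      by_contra hne
      refine hy1 (hfpf ((t₂ : X)⁻¹ * t₁) (mul_mem (inv_mem t₂.2) t₁.2)
        (fun e => hne (Subtype.ext (inv_mul_eq_one.1 e).symm)) y hyO ?_)
      calc (t₂ : X)⁻¹ * t₁ * y = (t₂ : X)⁻¹ * (t₁ * y * (t₁ : X)⁻¹) * t₁ := by group
        _ = _ := by rw [h1]; group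
    haveI := Fintype.ofFinite O
    have hle := Nat.card_le_card_of_injective f hf
    have hq : Nat.card {o : O // o ≠ 1} = 2 := by
      rw [Nat.card_eq_fintype_card, Fintype.card_subtype_compl, Fintype.card_subtype_eq,
        ← Nat.card_eq_fintype_card, hO3]
    have h2 : 1 < Nat.card T := by
      haveI : Nontrivial T := ⟨⟨⟨a, haT⟩, 1, fun h => ha1 (congrArg Subtype.val h)⟩⟩
      exact Finite.one_lt_card
    omega
  have hX6 : Nat.card X = 6 := by
    have h1 := O.card_mul_index
    have h2 : O.index = Nat.card T := by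
      refine Subgroup.IsComplement'.index_eq_card ?_
      refine (Subgroup.isComplement'_of_disjoint_and_mul_eq_univ ?_ ?_).symm
      · rw [disjoint_iff]; exact hOT
      · rw [← Subgroup.normal_mul, sup_comm, hTO, Subgroup.coe_top]
    rw [hO3, h2, hT2] at h1
    exact h1.symm
  have hy3 : y ^ 3 = 1 := orderOf_dvd_iff_pow_eq_one.1 (hO3 ▸ Subgroup.orderOf_dvd_natCard O hyO)
  refine ⟨a, y, haT, ha1, hT2, hX6, hy3, fun h => hy1 ?_, hia, hKi, fun v hv x => ?_⟩
  · rw [← Subgroup.mem_bot, ← hOT]; exact ⟨hyO, h⟩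
  · have hv' := mem_fixS.1 hv
    let F : Subgroup X :=
      { carrier := {x | ρ x v = v}
        one_mem' := by rw [Set.mem_ofPred_eq, map_one]; rfl
        mul_mem' := fun {p q} hp hq => by
          rw [Set.mem_ofPred_eq] at hp hq ⊢; rw [map_mul, MulAut.mul_apply, hq, hp]
        inv_mem' := fun {p} hp => by
          rw [Set.mem_ofPred_eq] at hp ⊢
          conv_lhs => arg 2; rw [← hp]
          rw [← MulAut.mul_apply, ← map_mul, inv_mul_cancel, map_one]; rfl }
    have haF : T ≤ F := by
      intro t ht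
      show ρ t v = v
      have ht' : t = 1 ∨ t = a := by
        by_contra hcon
        push Not at hcon
        classical
        haveI := Fintype.ofFinite T
        have h3 : ({1, ⟨t, ht⟩, ⟨a, haT⟩} : Finset T).card ≤ 2 := by
          refine (Finset.card_le_univ _).trans ?_
          rw [← Nat.card_eq_fintype_card, hT2]
        rw [Finset.card_insert_of_notMem (by simp [Subtype.ext_iff, Ne.symm hcon.1, Ne.symm ha1]),
          Finset.card_pair (fun h => hcon.2 (congrArg Subtype.val h))] at h3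
        omega
      rcases ht' with rfl | rfl
      · rw [map_one]; rfl
      · exact hKa y hyO hy1 v hv'
    exact ((hTO ▸ sup_le haF (fun x hx => hKO v hv' x hx) : (⊤ : Subgroup X) ≤ F) (Subgroup.mem_top x))

end Cfsg.Agent.LenEight
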