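import Cfsg.Agent.Lib.LenEight.One
import Cfsg.Agent.Lib.GW.Main
import Cfsg.Agent.Lib.GW.SecAll
import Cfsg.Agent.Lib.EPPO.PSL
import Cfsg.Agent.Lib.Classical.DicksonProper

/-!
Simple groups of length eight with Sylow 2-subgroups of order `2 ^ 7`.
-/

set_option autoImplicit false
set_option linter.style.haveILetI false
set_option linter.unusedSectionVars false

namespace Cfsg.Agent.LenEight

open Cfsg.Agent

universe u

theorem dihedral_orderOf (v : DihedralGroup 64) : orderOf v ∣ 64 := by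
  cases v with
  | r i => rw [DihedralGroup.orderOf_r]; exact Nat.div_dvd_of_dvd (Nat.gcd_dvd_left _ _)
  | sr i => rw [DihedralGroup.orderOf_sr]; norm_num

theorem dihedral_central (v : DihedralGroup 64) (h : orderOf v = 64) (x : DihedralGroup 64) :
    x * v ^ 32 = v ^ 32 * x := by
  cases v with
  | sr i => rw [DihedralGroup.orderOf_sr] at h; norm_num at h
  | r i =>
    rw [DihedralGroup.r_pow]
    have key : i * ((32 : ℕ) : ZMod 64) * 2 = 0 := by
      rw [show i * ((32 : ℕ) : ZMod 64) * 2 = i * ((64 : ℕ) : ZMod 64) by push_cast; ring,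
        ZMod.natCast_self, mul_zero]
    cases x with
    | r j => rw [DihedralGroup.r_mul_r, DihedralGroup.r_mul_r, add_comm]
    | sr j =>
      rw [DihedralGroup.sr_mul_r, DihedralGroup.r_mul_sr]
      congr 1
      linear_combination key

theorem exists_half {F : Type} [Field F] [Fintype F] (hodd : Odd (Fintype.card F)) :
    (∃ g : Matrix.ProjectiveSpecialLinearGroup (Fin 2) F, orderOf g = (Fintype.card F - 1) / 2) ∧
      ∃ g : Matrix.ProjectiveSpecialLinearGroup (Fin 2) F, orderOf g = (Fintype.card F + 1) / 2 := by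
  have h : ∀ (g : Matrix.SpecialLinearGroup (Fin 2) F) (k : ℕ), orderOf g = 2 * k →
      ∃ a : Matrix.ProjectiveSpecialLinearGroup (Fin 2) F, orderOf a = k := fun g k hk => by
    have hd : orderOf g ∣ 2 * orderOf (PSL2Inv.pr g) := by
      refine orderOf_dvd_of_pow_eq_one ?_
      rw [two_mul, pow_add]
      rcases PSL2Inv.pr_eq_one_iff.1 (by rw [map_pow, pow_orderOf_eq_one] :
        PSL2Inv.pr (g ^ orderOf (PSL2Inv.pr g)) = 1) with e | e <;> rw [e]
      · exact one_mul 1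
      · exact SL2Inv.negOne_mul_self
    rw [hk] at hd
    exact ⟨_, orderOf_pow_orderOf_div (orderOf_pos (PSL2Inv.pr g)).ne'
      ((mul_dvd_mul_iff_left two_ne_zero).1 hd)⟩
  obtain ⟨⟨g, hg⟩, g', hg'⟩ := EPPO.exists_orders (F := F)
  obtain ⟨k, hk⟩ := hodd
  exact ⟨h g _ (by omega), h g' _ (by omega)⟩

variable {G : Type u} [Group G] [Finite G] [IsSimpleGroup G] {S : Sylow 2 G}

/-- An order divisible by `64` in a group with this Sylow subgroup is exactly `64`. -/
theorem Len8.orderOf_eq_sixty_four (h : Len8 S) (e : ↥(S : Subgroup G) ≃* DihedralGroup 64) {u : G}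
    (hu : 64 ∣ orderOf u) : orderOf u = 64 := by
  classical
  haveI : Fact (Nat.Prime 2) := ⟨Nat.prime_two⟩
  obtain ⟨t, ht⟩ := hu
  have hu0 : orderOf u ≠ 0 := (orderOf_pos u).ne'
  have ht0 : t ≠ 0 := fun h0 => hu0 (by rw [ht, h0, mul_zero])
  have hv : orderOf (u ^ t) = 64 := by
    rw [orderOf_pow' u ht0, ht, Nat.gcd_mul_left_left, Nat.mul_div_cancel _ (Nat.pos_of_ne_zero ht0)]
  obtain ⟨R, hR⟩ := (IsPGroup.of_card (p := 2) (n := 6)
    (show Nat.card (Subgroup.zpowers (u ^ t)) = 2 ^ 6 by rw [Nat.card_zpowers, hv]; rfl)).exists_le_sylow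
  obtain ⟨g, hg⟩ := MulAction.exists_smul_eq G R S
  have hconj : g * u ^ t * g⁻¹ ∈ (S : Subgroup G) := by
    rw [← hg, Sylow.coe_subgroup_smul]
    exact Subgroup.smul_mem_pointwise_smul _ (MulAut.conj g) _ (hR (Subgroup.mem_zpowers _))
  set v : ↥(S : Subgroup G) := ⟨g * u ^ t * g⁻¹, hconj⟩ with hvdef
  have hvo : orderOf v = 64 := by
    rw [← Subgroup.orderOf_coe]
    show orderOf (MulAut.conj g (u ^ t)) = 64
    rw [MulEquiv.orderOf_eq, hv]
  have hev : orderOf (e v) = 64 := by rw [MulEquiv.orderOf_eq, hvo]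
  have hc1 : ((v ^ 32 : ↥(S : Subgroup G)) : G) ≠ 1 := fun h0 => by
    have := orderOf_dvd_of_pow_eq_one (show v ^ 32 = 1 from Subtype.ext h0)
    rw [hvo] at this; norm_num at this
  have hcc : ∀ x ∈ (S : Subgroup G), x * ((v ^ 32 : ↥(S : Subgroup G)) : G) = (v ^ 32 : ↥(S : Subgroup G)) * x := by
    intro x hx
    refine congrArg Subtype.val (show (⟨x, hx⟩ : ↥(S : Subgroup G)) * v ^ 32 = v ^ 32 * ⟨x, hx⟩ from e.injective ?_)
    rw [map_mul, map_mul, map_pow]
    exact dihedral_central _ hev _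
  have hu' : g * u * g⁻¹ ∈ (S : Subgroup G) := by
    refine h.mem_sylow_of_comm hc1 hcc ?_
    rw [Subgroup.coe_pow, hvdef]
    show g * u * g⁻¹ * (g * u ^ t * g⁻¹) ^ 32 = (g * u ^ t * g⁻¹) ^ 32 * (g * u * g⁻¹)
    rw [← MulAut.conj_apply, ← MulAut.conj_apply, ← map_pow, ← map_mul, ← map_mul, ← pow_mul]
    congr 1
    exact (Commute.pow_self u _).symm.eq
  have hd : orderOf u ∣ 64 := by
    have := dihedral_orderOf (e ⟨g * u * g⁻¹, hu'⟩)
    rwa [MulEquiv.orderOf_eq, Subgroup.orderOf_mk, ← MulAut.conj_apply, MulEquiv.orderOf_eq] at this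
  exact Nat.dvd_antisymm hd ⟨t, ht⟩

/-- The final identification. -/
theorem Len8.psl (h : Len8 S) (e : ↥(S : Subgroup G) ≃* DihedralGroup 64) :
    ∃ (F : Type) (_ : Field F) (_ : Fintype F),
      Fintype.card F = 127 ∧ Nonempty (G ≃* Matrix.ProjectiveSpecialLinearGroup (Fin 2) F) := by
  classical
  haveI : Fact (Nat.Prime 2) := ⟨Nat.prime_two⟩
  have h7 : 2 ^ 7 ∣ Nat.card G := h.card ▸ Subgroup.card_subgroup_dvd_card _
  have h8 : ¬ 2 ^ 8 ∣ Nat.card G := fun hd => by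
    obtain ⟨P, hP⟩ := Sylow.exists_subgroup_card_pow_prime (G := G) 2 hd
    obtain ⟨R, hR⟩ := (IsPGroup.of_card hP).exists_le_sylow
    have := Subgroup.card_le_of_le hR
    rw [hP, (h.other R).card] at this
    norm_num at this
  rcases GW.simpleDihedral G S 64 (by norm_num) ⟨e⟩ with ⟨F, iF, fF, hodd, h3, ⟨φ⟩⟩ | hA7
  · refine ⟨F, iF, fF, ?_, ⟨φ⟩⟩
    set q := Fintype.card F with hq
    have hcard := Dickson.gcd_mul_card_psl (K := F)
    rw [← Nat.card_congr φ.toEquiv, Nat.card_eq_fintype_card (α := F), ← hq] at hcard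
    obtain ⟨k, hk⟩ := hodd
    rw [show Nat.gcd 2 (q - 1) = 2 from Nat.gcd_eq_left ⟨k, by omega⟩] at hcard
    have hsq : q ^ 2 - 1 = (q - 1) * (q + 1) := by
      rw [show q ^ 2 - 1 = q ^ 2 - 1 ^ 2 by norm_num, Nat.sq_sub_sq, mul_comm]
    rw [hsq, hk, show 2 * k + 1 - 1 = 2 * k by omega, show 2 * k + 1 + 1 = 2 * (k + 1) by omega] at hcard
    have hG : Nat.card G = 2 * ((2 * k + 1) * (k * (k + 1))) := by linarith
    rw [hG] at h7
    have h64 : 2 ^ 6 ∣ k * (k + 1) := by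
      have h1 : 2 ^ 6 ∣ (2 * k + 1) * (k * (k + 1)) :=
        Nat.dvd_of_mul_dvd_mul_left two_pos (by rwa [show 2 * 2 ^ 6 = 2 ^ 7 from rfl])
      exact (Nat.Coprime.pow_left 6 ((Nat.coprime_two_left).2 ⟨k, rfl⟩)).dvd_of_dvd_mul_left h1
    have hcases : 64 ∣ k ∨ 64 ∣ k + 1 := by
      rcases Nat.even_or_odd k with he | ho
      · exact Or.inl ((Nat.Coprime.pow_left 6 ((Nat.coprime_two_left).2 he.add_one)).dvd_of_dvd_mul_right h64)
      · exact Or.inr ((Nat.Coprime.pow_left 6 ((Nat.coprime_two_left).2 ho)).dvd_of_dvd_mul_left h64)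
    obtain ⟨⟨a₁, ha₁⟩, a₂, ha₂⟩ := exists_half (F := F) ⟨k, hk⟩
    rw [← hq, hk, show (2 * k + 1 - 1) / 2 = k by omega] at ha₁
    rw [← hq, hk, show (2 * k + 1 + 1) / 2 = k + 1 by omega] at ha₂
    have hord : ∀ a, 64 ∣ orderOf a → orderOf a = 64 := fun a ha => by
      rw [← MulEquiv.orderOf_eq φ.symm] at ha ⊢
      exact h.orderOf_eq_sixty_four e ha
    rcases hcases with hd | hd
    · have := hord a₁ (ha₁ ▸ hd)
      obtain ⟨p, _⟩ := CharP.exists F
      obtain ⟨n, hp, hn⟩ := FiniteField.card F p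
      exfalso
      rw [← hq, hk, ← ha₁, this] at hn
      have h3' : 3 ∣ p ^ (n : ℕ) := hn ▸ (by norm_num)
      have h43 : 43 ∣ p ^ (n : ℕ) := hn ▸ (by norm_num)
      have e3 := (Nat.prime_dvd_prime_iff_eq Nat.prime_three hp).1 (Nat.prime_three.dvd_of_dvd_pow h3')
      have e43 := (Nat.prime_dvd_prime_iff_eq (by norm_num) hp).1
        ((show Nat.Prime 43 by norm_num).dvd_of_dvd_pow h43)
      omega
    · have := hord a₂ (ha₂ ▸ hd)
      omega
  · exfalso
    obtain ⟨ψ⟩ := hA7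
    rw [GW.seven_order ψ] at h7
    norm_num at h7

/-- The classification. -/
theorem main {G : Type u} [Group G] [Finite G] [IsSimpleGroup G] {S : Sylow 2 G} (h : Len8 S) :
    ∃ (F : Type) (_ : Field F) (_ : Fintype F),
      Fintype.card F = 127 ∧ Nonempty (G ≃* Matrix.ProjectiveSpecialLinearGroup (Fin 2) F) := by
  obtain ⟨s⟩ := exists_setting h
  obtain ⟨sh⟩ := s.exists_shape
  obtain ⟨g, hgS, hgT, hgN, hg2⟩ := s.exists_swap
  obtain ⟨F⟩ := exists_iframe sh ⟨g, hgS, hgT, hgN, hg2⟩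
  rcases F.card_D₀_cases with h1 | h2 | h4
  · obtain ⟨e⟩ := F.dihedral_of_one h1
    exact s.h.psl e
  · exact (F.not_two h2).elim
  · exact (F.not_four h4).elim

end Cfsg.Agent.LenEight
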