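import Cfsg.Agent.Lib.LenEight.Conjugate
import Cfsg.Agent.Lib.CharP.Product

/-!
The structure `T = D₈ × D₀` when the conjugate of the module is outside the 2-core.
-/

set_option autoImplicit false
set_option linter.style.haveILetI false
set_option linter.unusedSectionVars false

namespace Cfsg.Agent.LenEight

open Cfsg.Agent

universe u

variable {G : Type u} [Group G] [Finite G] [IsSimpleGroup G] {s : Setting G}

/-- The frame: an involution of the conjugate module outside `D`. -/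
structure Frame (s : Setting G) where
  sh : s.Shape
  sw : s.Swap
  b : G
  hbV' : b ∈ sw.V'
  hbD : b ∉ s.D

theorem exists_frame (sh : s.Shape) (sw : s.Swap) : ∃ F : Frame s, F.sw = sw ∧ F.sh = sh := by
  obtain ⟨b, hb, hbD⟩ := SetLike.not_le_iff_exists.1 (sw.V'_not_le sh)
  exact ⟨⟨sh, sw, b, hb, hbD⟩, rfl, rfl⟩

/-- The action of an element of `M` on `V`. -/
theorem Setting.act_V (s : Setting G) {m v : G} (hm : m ∈ s.M) (hv : v ∈ s.V) : m * v * m⁻¹ ∈ s.V :=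
  (Subgroup.mem_normalizer_iff.1 (s.M_le_normalizer_V hm) v).1 hv

theorem Setting.act_D (s : Setting G) {d v : G} (hd : d ∈ s.D) (hv : v ∈ s.V) : d * v * d⁻¹ = v := by
  rw [s.V_comm hd hv, mul_inv_cancel_right]

namespace Frame

variable (F : Frame s)

theorem b_mem_E : F.b ∈ F.sw.E := F.sw.V'_le_E F.hbV'

theorem b_mem_T : F.b ∈ s.T := F.sw.E_le F.b_mem_E

theorem b_sq : F.b * F.b = 1 := F.sw.V'_sq _ F.hbV'

theorem b_inv : F.b⁻¹ = F.b := inv_eq_of_mul_eq_one_right F.b_sq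

theorem b_comm_E {e : G} (he : e ∈ F.sw.E) : e * F.b = F.b * e := F.sw.V'_comm he F.hbV'

/-- The conjugate of `b`. -/
def b₁ : G := F.sh.y * F.b * F.sh.y⁻¹

/-- The complement of the four group. -/
def D₀ : Subgroup G := (s.D ⊓ F.sw.E) ⊓ cjg F.sh.y (s.D ⊓ F.sw.E)

theorem M_le_of {H : Subgroup G} (hD : s.D ≤ H) (hb : F.b ∈ H) (hb₁ : F.b₁ ∈ H) : s.M ≤ H := by
  have hbM : F.b ∈ s.M := s.hTM F.b_mem_T
  have hb₁M : F.b₁ ∈ s.M := mul_mem (mul_mem F.sh.hyM hbM) (inv_mem F.sh.hyM)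
  set X := s.D ⊔ Subgroup.zpowers F.b ⊔ Subgroup.zpowers F.b₁ with hX
  have hT : s.T ≤ X := (F.sh.sup_eq_T F.b_mem_T F.hbD).ge.trans le_sup_left
  have hXM : X ≤ s.M := sup_le (sup_le s.D_le_M (Subgroup.zpowers_le.2 hbM)) (Subgroup.zpowers_le.2 hb₁M)
  refine ((s.eq_of_between hT hXM).resolve_left fun h => ?_).ge.trans
    (sup_le (sup_le hD (Subgroup.zpowers_le.2 hb)) (Subgroup.zpowers_le.2 hb₁))
  exact F.sh.conj_not_mem F.b_mem_T F.hbD (h.le (Subgroup.mem_sup_right (Subgroup.mem_zpowers _)))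

theorem D₀_le_D : F.D₀ ≤ s.D := inf_le_left.trans inf_le_left

theorem D₀_le_E : F.D₀ ≤ F.sw.E := inf_le_left.trans inf_le_right

theorem D₀_comm_b {d : G} (hd : d ∈ F.D₀) : d * F.b = F.b * d := F.b_comm_E (F.D₀_le_E hd)

theorem D₀_comm_b₁ {d : G} (hd : d ∈ F.D₀) : d * F.b₁ = F.b₁ * d := by
  have h1 := F.b_comm_E (mem_cjg.1 (show d ∈ cjg F.sh.y (s.D ⊓ F.sw.E) from hd.2)).2
  calc d * F.b₁ = F.sh.y * ((F.sh.y⁻¹ * d * F.sh.y) * F.b) * F.sh.y⁻¹ := by rw [b₁]; group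
    _ = F.sh.y * (F.b * (F.sh.y⁻¹ * d * F.sh.y)) * F.sh.y⁻¹ := by rw [h1]
    _ = F.b₁ * d := by rw [b₁]; group

/-- Elements of `V` centralised by `b` are those of `E`. -/
theorem comm_b_iff {d : G} (hd : d ∈ s.D) : d * F.b = F.b * d ↔ d ∈ F.sw.E := by
  refine ⟨fun h => ?_, F.b_comm_E⟩
  by_contra hdE
  -- then `b` centralises `D = (D ∩ E) ∪ d (D ∩ E)`, so `V`
  obtain ⟨v, hv, hbv⟩ := F.sh.exists_not_comm F.b_mem_T F.hbD
  refine hbv ?_
  by_cases hvE : v ∈ F.sw.E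
  · exact (F.b_comm_E hvE).symm
  · have h1 := F.b_comm_E ((F.sw.inf_mem_iff F.sh hd (s.V_le_D hv)).2 (iff_of_false hdE hvE))
    have h2 : Commute (d⁻¹ * (d * v)) F.b := (Commute.inv_left h).mul_left h1
    rw [inv_mul_cancel_left] at h2
    exact h2.symm

theorem conj_y_D₀ {v : G} (hv : v ∈ s.V) (hb : v * F.b = F.b * v) (hy : v * F.b₁ = F.b₁ * v) :
    v ∈ F.D₀ := by
  refine ⟨⟨s.V_le_D hv, (F.comm_b_iff (s.V_le_D hv)).1 hb⟩, mem_cjg.2 ?_⟩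
  have hd : F.sh.y⁻¹ * v * F.sh.y ∈ s.D :=
    (Subgroup.mem_normalizer_iff''.1 (s.M_le_normalizer_D F.sh.hyM) v).1 (s.V_le_D hv)
  refine ⟨hd, (F.comm_b_iff hd).1 ?_⟩
  calc F.sh.y⁻¹ * v * F.sh.y * F.b = F.sh.y⁻¹ * (v * F.b₁) * F.sh.y := by rw [b₁]; group
    _ = F.sh.y⁻¹ * (F.b₁ * v) * F.sh.y := by rw [hy]
    _ = F.b * (F.sh.y⁻¹ * v * F.sh.y) := by rw [b₁]; group

/-- `V ∩ D₀` is the centre of `M` in `V`. -/
theorem central_of_mem {v : G} (hv : v ∈ s.V) (hd : v ∈ F.D₀) {m : G} (hm : m ∈ s.M) : m * v = v * m := by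
  have hle : s.M ≤ Subgroup.centralizer ({v} : Set G) :=
    F.M_le_of (fun d hd' => Subgroup.mem_centralizer_singleton_iff.2 (s.V_comm hd' hv))
      (Subgroup.mem_centralizer_singleton_iff.2 (F.D₀_comm_b hd).symm)
      (Subgroup.mem_centralizer_singleton_iff.2 (F.D₀_comm_b₁ hd).symm)
  exact Subgroup.mem_centralizer_singleton_iff.1 (hle hm)

theorem mem_D₀_of_fixed {v : G} (hv : v ∈ s.V) (hy : F.sh.y * v = v * F.sh.y) : v ∈ F.D₀ := by
  have hc := F.sh.fix_M v hv hy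
  exact F.conj_y_D₀ hv (hc _ (s.hTM F.b_mem_T)).symm
    (hc _ (mul_mem (mul_mem F.sh.hyM (s.hTM F.b_mem_T)) (inv_mem F.sh.hyM))).symm

theorem byb : ∃ d ∈ s.D, F.b * F.sh.y * F.b = d * F.sh.y⁻¹ := by
  refine ⟨_, F.sh.inv_y _ F.b_mem_T F.hbD, ?_⟩
  rw [F.b_inv]; group

/-- The kernel of the orbit product. -/
def W : Subgroup G where
  carrier := {v | v ∈ s.V ∧ v * (F.sh.y * v * F.sh.y⁻¹) * (F.sh.y⁻¹ * v * F.sh.y) = 1}
  one_mem' := ⟨one_mem _, by group⟩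
  mul_mem' := fun {a c} ha hc => ⟨mul_mem ha.1 hc.1, by
    have hy := F.sh.hyM
    have h1 := comm_of_exp_two s.V_sq hc.1 (s.act_V hy ha.1)
    have h2 : F.sh.y⁻¹ * a * F.sh.y ∈ s.V := by
      have := s.act_V (inv_mem hy) ha.1; rwa [inv_inv] at this
    have h3 : Commute (c * (F.sh.y * c * F.sh.y⁻¹)) (F.sh.y⁻¹ * a * F.sh.y) :=
      (Commute.mul_left (comm_of_exp_two s.V_sq hc.1 h2) (comm_of_exp_two s.V_sq (s.act_V hy hc.1) h2))
    calc a * c * (F.sh.y * (a * c) * F.sh.y⁻¹) * (F.sh.y⁻¹ * (a * c) * F.sh.y)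
        = a * (c * (F.sh.y * a * F.sh.y⁻¹)) * (F.sh.y * c * F.sh.y⁻¹) *
            (F.sh.y⁻¹ * a * F.sh.y) * (F.sh.y⁻¹ * c * F.sh.y) := by group
      _ = a * (F.sh.y * a * F.sh.y⁻¹) *
            ((c * (F.sh.y * c * F.sh.y⁻¹)) * (F.sh.y⁻¹ * a * F.sh.y)) * (F.sh.y⁻¹ * c * F.sh.y) := by
          rw [h1]; group
      _ = (a * (F.sh.y * a * F.sh.y⁻¹) * (F.sh.y⁻¹ * a * F.sh.y)) *
            (c * (F.sh.y * c * F.sh.y⁻¹) * (F.sh.y⁻¹ * c * F.sh.y)) := by rw [h3.eq]; group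
      _ = 1 := by rw [ha.2, hc.2, one_mul]⟩
  inv_mem' := fun {a} ha => by
    rw [inv_eq_of_mul_eq_one_right (s.V_sq a ha.1)]; exact ha

theorem W_le_V : F.W ≤ s.V := fun _ h => h.1

theorem W_fixed {v : G} (hv : v ∈ F.W) (hy : F.sh.y * v = v * F.sh.y) : v = 1 := by
  have h := hv.2
  rw [hy, mul_inv_cancel_right, mul_assoc F.sh.y⁻¹, ← hy, inv_mul_cancel_left, s.V_sq v hv.1,
    one_mul] at h
  exact h

theorem y_W {v : G} (hv : v ∈ F.W) : F.sh.y * v * F.sh.y⁻¹ ∈ F.W := by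
  refine ⟨s.act_V F.sh.hyM hv.1, ?_⟩
  have h3 := s.act_D F.sh.hy3 hv.1
  have e : F.sh.y * (F.sh.y * v * F.sh.y⁻¹) * F.sh.y⁻¹ = F.sh.y⁻¹ * v * F.sh.y := by
    conv_rhs => rw [← h3]
    group
  rw [e, show F.sh.y⁻¹ * (F.sh.y * v * F.sh.y⁻¹) * F.sh.y = v by group]
  have h := hv.2
  rw [mul_assoc] at h
  exact mul_eq_one_comm.1 h

theorem y_b {v : G} (hv : v ∈ s.V) :
    F.sh.y * (F.b * v * F.b) * F.sh.y⁻¹ = F.b * (F.sh.y⁻¹ * v * F.sh.y) * F.b := by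
  obtain ⟨d, hd, he⟩ := F.byb
  have h2 : F.sh.y⁻¹ * v * F.sh.y ∈ s.V := by
    have := s.act_V (inv_mem F.sh.hyM) hv; rwa [inv_inv] at this
  have h1 : F.sh.y * F.b = F.b * (d * F.sh.y⁻¹) := by
    rw [← he, ← mul_assoc, ← mul_assoc, F.b_sq, one_mul]
  calc F.sh.y * (F.b * v * F.b) * F.sh.y⁻¹ = (F.sh.y * F.b) * v * (F.sh.y * F.b⁻¹)⁻¹ := by group
    _ = F.b * (d * (F.sh.y⁻¹ * v * F.sh.y) * d⁻¹) * F.b := by
      rw [F.b_inv, h1, mul_inv_rev, mul_inv_rev, F.b_inv]; group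
    _ = _ := by rw [s.act_D hd h2]

theorem b_W {v : G} (hv : v ∈ F.W) : F.b * v * F.b ∈ F.W := by
  have hbM : F.b ∈ s.M := s.hTM F.b_mem_T
  have hy := F.sh.hyM
  have hV : F.b * v * F.b ∈ s.V := by
    have := s.act_V hbM hv.1; rwa [F.b_inv] at this
  refine ⟨hV, ?_⟩
  have h2 : F.sh.y⁻¹ * v * F.sh.y ∈ s.V := by
    have := s.act_V (inv_mem hy) hv.1; rwa [inv_inv] at this
  have e2 : F.sh.y⁻¹ * (F.b * v * F.b) * F.sh.y = F.b * (F.sh.y * v * F.sh.y⁻¹) * F.b := by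
    have h := F.y_b (s.act_V hy hv.1)
    rw [show F.sh.y⁻¹ * (F.sh.y * v * F.sh.y⁻¹) * F.sh.y = v by group] at h
    rw [← h]; group
  rw [F.y_b hv.1, e2]
  have h := hv.2
  rw [mul_assoc v, comm_of_exp_two s.V_sq (s.act_V hy hv.1) h2, ← mul_assoc] at h
  calc F.b * v * F.b * (F.b * (F.sh.y⁻¹ * v * F.sh.y) * F.b) * (F.b * (F.sh.y * v * F.sh.y⁻¹) * F.b)
      = F.b * v * (F.b * F.b) * (F.sh.y⁻¹ * v * F.sh.y) * (F.b * F.b) * (F.sh.y * v * F.sh.y⁻¹) * F.b := by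
        group
    _ = F.b * (v * (F.sh.y⁻¹ * v * F.sh.y) * (F.sh.y * v * F.sh.y⁻¹)) * F.b := by
        rw [F.b_sq]; group
    _ = 1 := by rw [h, mul_one, F.b_sq]

/-- The orbit product on `V`. -/
def orb (v : s.V) : s.V :=
  ⟨(v : G) * (F.sh.y * v * F.sh.y⁻¹) * (F.sh.y⁻¹ * v * F.sh.y),
    mul_mem (mul_mem v.2 (s.act_V F.sh.hyM v.2))
      (by have := s.act_V (inv_mem F.sh.hyM) v.2; rwa [inv_inv] at this)⟩

theorem card_W : Nat.card F.W = 4 := by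
  letI : CommGroup s.V :=
    { (inferInstance : Group s.V) with
      mul_comm := fun a b => Subtype.ext (comm_of_exp_two s.V_sq a.2 b.2) }
  have hy := F.sh.hyM
  let n : s.V →* s.V := MonoidHom.mk' F.orb (by
    intro v u
    have hy' := s.act_V (inv_mem hy) v.2
    rw [inv_inv] at hy'
    apply Subtype.ext
    show ((v : G) * u) * (F.sh.y * ((v : G) * u) * F.sh.y⁻¹) * (F.sh.y⁻¹ * ((v : G) * u) * F.sh.y) =
      (v : G) * (F.sh.y * v * F.sh.y⁻¹) * (F.sh.y⁻¹ * v * F.sh.y) *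
        ((u : G) * (F.sh.y * u * F.sh.y⁻¹) * (F.sh.y⁻¹ * u * F.sh.y))
    have h1 := comm_of_exp_two s.V_sq u.2 (s.act_V hy v.2)
    have h3 : Commute ((u : G) * (F.sh.y * u * F.sh.y⁻¹)) (F.sh.y⁻¹ * v * F.sh.y) :=
      (Commute.mul_left (comm_of_exp_two s.V_sq u.2 hy') (comm_of_exp_two s.V_sq (s.act_V hy u.2) hy'))
    calc (v : G) * u * (F.sh.y * ((v : G) * u) * F.sh.y⁻¹) * (F.sh.y⁻¹ * ((v : G) * u) * F.sh.y)
        = (v : G) * ((u : G) * (F.sh.y * v * F.sh.y⁻¹)) * (F.sh.y * u * F.sh.y⁻¹) *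
            (F.sh.y⁻¹ * v * F.sh.y) * (F.sh.y⁻¹ * u * F.sh.y) := by group
      _ = (v : G) * (F.sh.y * v * F.sh.y⁻¹) *
            (((u : G) * (F.sh.y * u * F.sh.y⁻¹)) * (F.sh.y⁻¹ * v * F.sh.y)) * (F.sh.y⁻¹ * u * F.sh.y) := by
          rw [h1]; group
      _ = _ := by rw [h3.eq]; group)
  have hn : ∀ v : s.V, ((n v : s.V) : G) = v * (F.sh.y * v * F.sh.y⁻¹) * (F.sh.y⁻¹ * v * F.sh.y) :=
    fun v => rfl
  have hker : n.ker = F.W.subgroupOf s.V := by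
    ext v
    rw [MonoidHom.mem_ker, Subgroup.mem_subgroupOf, Subtype.ext_iff, hn]
    exact ⟨fun h => ⟨v.2, h⟩, fun h => h.2⟩
  have hrange : n.range = (s.V ⊓ Subgroup.centralizer ({F.sh.y} : Set G)).subgroupOf s.V := by
    ext v
    rw [Subgroup.mem_subgroupOf, MonoidHom.mem_range]
    constructor
    · rintro ⟨u, rfl⟩
      refine ⟨(n u).2, Subgroup.mem_centralizer_singleton_iff.2 ?_⟩
      rw [hn]
      have h3 := s.act_D F.sh.hy3 u.2
      have e : F.sh.y * (F.sh.y * (u : G) * F.sh.y⁻¹) * F.sh.y⁻¹ = F.sh.y⁻¹ * u * F.sh.y := by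
        conv_rhs => rw [← h3]
        group
      have h2 : F.sh.y⁻¹ * (u : G) * F.sh.y ∈ s.V := by
        have := s.act_V (inv_mem hy) u.2; rwa [inv_inv] at this
      symm
      rw [← mul_inv_eq_iff_eq_mul]
      calc F.sh.y * ((u : G) * (F.sh.y * u * F.sh.y⁻¹) * (F.sh.y⁻¹ * u * F.sh.y)) * F.sh.y⁻¹
          = (F.sh.y * u * F.sh.y⁻¹) * (F.sh.y * (F.sh.y * u * F.sh.y⁻¹) * F.sh.y⁻¹) * u := by group
        _ = (F.sh.y * u * F.sh.y⁻¹) * (F.sh.y⁻¹ * u * F.sh.y) * u := by rw [e]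
        _ = (u : G) * ((F.sh.y * u * F.sh.y⁻¹) * (F.sh.y⁻¹ * u * F.sh.y)) :=
          comm_of_exp_two s.V_sq (mul_mem (s.act_V hy u.2) h2) u.2
        _ = _ := by group
    · rintro ⟨-, hc⟩
      refine ⟨v, Subtype.ext ?_⟩
      rw [hn]
      have h1 : F.sh.y * (v : G) = v * F.sh.y := (Subgroup.mem_centralizer_singleton_iff.1 hc).symm
      rw [h1, mul_inv_cancel_right, mul_assoc F.sh.y⁻¹, ← h1, inv_mul_cancel_left, s.V_sq _ v.2, one_mul]
  have h1 := n.ker.card_mul_index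
  rw [Subgroup.index_ker, hker, hrange, Nat.card_congr (Subgroup.subgroupOfEquivOfLe F.W_le_V).toEquiv,
    Nat.card_congr (Subgroup.subgroupOfEquivOfLe inf_le_left).toEquiv, ← F.sh.card_V.2, mul_comm] at h1
  exact Nat.eq_of_mul_eq_mul_left Nat.card_pos h1

theorem W_inf : ∀ v ∈ F.W, v ∈ F.D₀ → v = 1 := fun v hv hd =>
  F.W_fixed hv (F.central_of_mem (F.W_le_V hv) hd F.sh.hyM)

theorem card_D : Nat.card s.D = 4 * Nat.card F.D₀ ∧ F.W ⊔ F.D₀ = s.D := by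
  set I := s.D ⊓ F.sw.E with hI
  have h1 := Product.card_mul_card_le I (cjg F.sh.y I)
  have h2 : I ⊔ cjg F.sh.y I ≤ s.D := by
    refine sup_le inf_le_left ?_
    rintro _ ⟨i, hi, rfl⟩
    exact (Subgroup.mem_normalizer_iff.1 (s.M_le_normalizer_D F.sh.hyM) i).1 hi.1
  have h3 := Subgroup.card_le_of_le h2
  have hI2 : 2 * Nat.card I = Nat.card s.D := F.sw.card_inf F.sh
  rw [card_cjg] at h1
  change _ ≤ _ * Nat.card F.D₀ at h1
  have h4 := card_sup_mul_inf (A := F.W) (B := F.D₀) fun v hv =>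
    Subgroup.centralizer_le_normalizer _ (Subgroup.mem_centralizer_iff.2 fun d hd =>
      s.V_comm (F.D₀_le_D hd) (F.W_le_V hv))
  have h5 : F.W ⊓ F.D₀ = ⊥ := (Subgroup.eq_bot_iff_forall _).2 fun v hv => F.W_inf v hv.1 hv.2
  rw [h5, Subgroup.card_bot, mul_one, F.card_W] at h4
  have h6 : F.W ⊔ F.D₀ ≤ s.D := sup_le (F.W_le_V.trans s.V_le_D) F.D₀_le_D
  have h7 := Subgroup.card_le_of_le h6
  have hpos : 0 < Nat.card s.D := Nat.card_pos
  have hkey : Nat.card s.D ≤ 4 * Nat.card F.D₀ := by nlinarith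
  refine ⟨by omega, Subgroup.eq_of_le_of_card_ge h6 (by omega)⟩

theorem exists_w : ∃ w ∈ F.W, w ≠ 1 ∧ w ∈ F.sw.E := by
  by_contra hno
  push Not at hno
  haveI : Nontrivial F.W := Finite.one_lt_card_iff_nontrivial.1 (by rw [F.card_W]; norm_num)
  obtain ⟨v, hv1⟩ := exists_ne (1 : F.W)
  have hv : (v : G) ∉ F.sw.E := hno v v.2 fun h => hv1 (Subtype.ext h)
  have hle : (F.W : Set G) ⊆ {1, (v : G)} := by
    intro u hu
    by_contra hu'
    simp only [Set.mem_insert_iff, Set.mem_singleton_iff] at hu'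
    push Not at hu'
    have h1 : (v : G) * u ∈ F.sw.E := (F.sw.inf_mem_iff F.sh (s.V_le_D (F.W_le_V v.2))
      (s.V_le_D (F.W_le_V hu))).2 (iff_of_false hv (hno u hu hu'.1))
    refine hno _ (mul_mem v.2 hu) (fun h => hu'.2 ?_) h1
    rw [← inv_eq_of_mul_eq_one_right h, inv_eq_of_mul_eq_one_right (s.V_sq _ (F.W_le_V v.2))]
  have := Nat.card_mono (Set.toFinite _) hle
  rw [SetLike.coe_sort_coe, F.card_W, Nat.card_coe_set_eq,
    Set.ncard_pair (show ((1 : G)) ≠ (v : G) from fun h => hv1 (Subtype.ext h.symm))] at this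
  omega

/-- The involution of `W` centralised by `b`. -/
noncomputable def w : G := F.exists_w.choose

/-- Its conjugate. -/
noncomputable def w' : G := F.sh.y * F.w * F.sh.y⁻¹

theorem w_W : F.w ∈ F.W := F.exists_w.choose_spec.1
theorem w_ne : F.w ≠ 1 := F.exists_w.choose_spec.2.1
theorem w_E : F.w ∈ F.sw.E := F.exists_w.choose_spec.2.2
theorem w_V : F.w ∈ s.V := F.W_le_V F.w_W
theorem w_D : F.w ∈ s.D := s.V_le_D F.w_V
theorem w_sq : F.w * F.w = 1 := s.V_sq _ F.w_V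
theorem w_comm_b : F.w * F.b = F.b * F.w := F.b_comm_E F.w_E
theorem w'_W : F.w' ∈ F.W := F.y_W F.w_W
theorem w'_V : F.w' ∈ s.V := F.W_le_V F.w'_W
theorem w'_D : F.w' ∈ s.D := s.V_le_D F.w'_V
theorem w'_sq : F.w' * F.w' = 1 := s.V_sq _ F.w'_V

theorem w'_ne : F.w' ≠ 1 := fun h => F.w_ne (conj_eq_one_iff.1 h)

theorem w'_ne_w : F.w' ≠ F.w := fun h =>
  F.w_ne (F.W_fixed F.w_W (mul_inv_eq_iff_eq_mul.1 h))

theorem W_cases {v : G} (hv : v ∈ F.W) : v = 1 ∨ v = F.w ∨ v = F.w' ∨ v = F.w * F.w' := by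
  classical
  by_contra hcon
  push Not at hcon
  obtain ⟨h1, h2, h3, h4⟩ := hcon
  have hne4 : F.w * F.w' ≠ 1 := fun h => F.w'_ne_w (by
    rw [← inv_eq_of_mul_eq_one_right h, inv_eq_of_mul_eq_one_right F.w_sq])
  have hset : ({1, F.w, F.w', F.w * F.w', v} : Set G) ⊆ (F.W : Set G) := by
    intro x hx
    simp only [Set.mem_insert_iff, Set.mem_singleton_iff] at hx
    rcases hx with rfl | rfl | rfl | rfl | rfl
    exacts [one_mem _, F.w_W, F.w'_W, mul_mem F.w_W F.w'_W, hv]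
  have h5 : ({1, F.w, F.w', F.w * F.w', v} : Set G).ncard = 5 := by
    rw [Set.ncard_insert_of_notMem, Set.ncard_insert_of_notMem, Set.ncard_insert_of_notMem,
      Set.ncard_pair] <;>
    simp [F.w_ne, F.w'_ne, F.w'_ne_w.symm, Ne.symm hne4, Ne.symm h1, Ne.symm h2, Ne.symm h3,
      Ne.symm h4, F.w_ne.symm, F.w'_ne.symm]
  have := Set.ncard_le_ncard hset
  rw [h5, ← Nat.card_coe_set_eq, SetLike.coe_sort_coe, F.card_W] at this
  omega

theorem w'_not_E : F.w' ∉ F.sw.E := by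
  intro h
  -- otherwise `b` centralises `W` and `V ∩ D₀`, hence `V`
  have hWE : F.W ≤ F.sw.E := by
    intro v hv
    rcases F.W_cases hv with rfl | rfl | rfl | rfl
    exacts [one_mem _, F.w_E, h, mul_mem F.w_E h]
  have hle : F.W ⊔ F.D₀ ≤ F.sw.E := sup_le hWE F.D₀_le_E
  rw [F.card_D.2] at hle
  exact F.sw.E_ne (Subgroup.eq_of_le_of_card_ge hle (card_cjg _ _).le).symm

theorem b_w' : F.b * F.w' * F.b = F.w * F.w' := by
  have hne : F.b * F.w' * F.b ≠ F.w' := fun h => F.w'_not_E ((F.comm_b_iff F.w'_D).1 (by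
    calc F.w' * F.b = F.b * F.w' * F.b * F.b := by rw [h]
      _ = F.b * F.w' := by rw [mul_assoc, F.b_sq, mul_one]))
  have hback : ∀ x, F.b * F.w' * F.b = x → F.w' = F.b * x * F.b := fun x h => by
    rw [← h, ← mul_assoc, ← mul_assoc, F.b_sq, one_mul, mul_assoc, F.b_sq, mul_one]
  rcases F.W_cases (F.b_W F.w'_W) with h | h | h | h
  · exfalso
    have := hback _ h
    rw [mul_one, F.b_sq] at this
    exact F.w'_ne this
  · exfalso
    have := hback _ h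
    rw [← F.w_comm_b, mul_assoc, F.b_sq, mul_one] at this
    exact F.w'_ne_w this
  · exact absurd h hne
  · exact h

theorem w_not_D₀ : F.w ∉ F.D₀ := fun h => F.w_ne (F.W_inf _ F.w_W h)

theorem D_cases {d : G} (hd : d ∈ s.D) :
    ∃ ω ∈ F.W, ∃ d₀ ∈ F.D₀, d = ω * d₀ := by
  rw [← F.card_D.2, ← SetLike.mem_coe, Subgroup.coe_mul_of_left_le_normalizer_right F.W F.D₀
    (fun v hv => Subgroup.centralizer_le_normalizer _ (Subgroup.mem_centralizer_iff.2 fun d hd =>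
      s.V_comm (F.D₀_le_D hd) (F.W_le_V hv)))] at hd
  obtain ⟨ω, hω, d₀, hd₀, rfl⟩ := Set.mem_mul.1 hd
  exact ⟨ω, hω, d₀, hd₀, rfl⟩

theorem I_cases {d : G} (hd : d ∈ s.D) (hE : d ∈ F.sw.E) :
    ∃ d₀ ∈ F.D₀, d = d₀ ∨ d = F.w * d₀ := by
  obtain ⟨ω, hω, d₀, hd₀, rfl⟩ := F.D_cases hd
  refine ⟨d₀, hd₀, ?_⟩
  have hωE : ω ∈ F.sw.E := by
    have := mul_mem hE (inv_mem (F.D₀_le_E hd₀))
    rwa [mul_inv_cancel_right] at this
  rcases F.W_cases hω with rfl | rfl | rfl | rfl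
  · exact Or.inl (one_mul _)
  · exact Or.inr rfl
  · exact absurd hωE F.w'_not_E
  · refine absurd ?_ F.w'_not_E
    have := mul_mem F.w_E hωE
    rwa [← mul_assoc, F.w_sq, one_mul] at this

/-- An element of `T` squaring to an element outside `w D₀²` lies in `D ∪ E`. -/
theorem sq_of_not_mem {t : G} (ht : t ∈ s.T) (htD : t ∉ s.D) (htE : t ∉ F.sw.E) :
    ∃ d₀ ∈ F.D₀, t * t = F.w * (d₀ * d₀) := by
  have hdb : t * F.b ∈ s.D := (F.sh.mul_mem_D ht F.b_mem_T).2 (iff_of_false htD F.hbD)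
  obtain ⟨ω, hω, d₀, hd₀, he⟩ := F.D_cases hdb
  have ht' : t = ω * d₀ * F.b := by rw [← he, mul_assoc, F.b_sq, mul_one]
  refine ⟨d₀, hd₀, ?_⟩
  have hω' : ω = F.w' ∨ ω = F.w * F.w' := by
    rcases F.W_cases hω with rfl | rfl | h | h
    · exact absurd (ht' ▸ mul_mem (mul_mem (one_mem _) (F.D₀_le_E hd₀)) F.b_mem_E) htE
    · exact absurd (ht' ▸ mul_mem (mul_mem F.w_E (F.D₀_le_E hd₀)) F.b_mem_E) htE
    · exact Or.inl h
    · exact Or.inr h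
  have hbω : F.b * ω * F.b = F.w * ω := by
    rcases hω' with rfl | rfl
    · exact F.b_w'
    · calc F.b * (F.w * F.w') * F.b = (F.b * F.w) * F.w' * F.b := by group
        _ = F.w * (F.b * F.w' * F.b) := by rw [← F.w_comm_b]; group
        _ = F.w * (F.w * F.w') := by rw [F.b_w']
  have hdω : d₀ * ω = ω * d₀ := s.V_comm (F.D₀_le_D hd₀) (F.W_le_V hω)
  have hdb' : d₀ * F.b = F.b * d₀ := F.D₀_comm_b hd₀
  have hωω : ω * ω = 1 := s.V_sq _ (F.W_le_V hω)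
  calc t * t = ω * (d₀ * F.b) * ω * (d₀ * F.b) := by rw [ht']; group
    _ = ω * (F.b * d₀) * ω * (d₀ * F.b) := by rw [hdb']
    _ = ω * F.b * (d₀ * ω) * (d₀ * F.b) := by group
    _ = ω * F.b * ω * (d₀ * d₀) * F.b := by rw [hdω]; group
    _ = ω * F.b * ω * (d₀ * (d₀ * F.b)) := by group
    _ = ω * F.b * ω * (F.b * (d₀ * d₀)) := by
      rw [hdb', ← mul_assoc d₀, hdb']; group
    _ = ω * (F.b * ω * F.b) * (d₀ * d₀) := by group
    _ = (F.w * ω) * ω * (d₀ * d₀) := by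
      rw [hbω, comm_of_exp_two s.V_sq (F.W_le_V hω) (mul_mem F.w_V (F.W_le_V hω))]
    _ = F.w * (d₀ * d₀) := by rw [mul_assoc F.w, hωω, mul_one]

end Frame

end Cfsg.Agent.LenEight
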