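import Cfsg.Agent.Lib.LenEight.Small
import Cfsg.Agent.Lib.LenEight.Classes

/-!
Facts about a frame with an involutory swap; the complement of order four is not elementary.
-/

set_option autoImplicit false
set_option linter.style.haveILetI false
set_option linter.unusedSectionVars false
set_option linter.unusedVariables false

namespace Cfsg.Agent.LenEight

open Cfsg.Agent

universe u

variable {G : Type u} [Group G] [Finite G] [IsSimpleGroup G] {s : Setting G}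

theorem Setting.stab_V (s : Setting G) {x : G} (hx : x ∈ (s.S : Subgroup G))
    (hn : cjg x s.V = s.V) : x ∈ s.T :=
  (s.key s.z_mem_V s.V_isPGroup s.M_le_normalizer_V).le ⟨hx, mem_normalizer_of_cjg hn⟩

namespace IFrame

variable (F : IFrame s)

theorem g_inv : F.sw.g⁻¹ = F.sw.g := inv_eq_of_mul_eq_one_right F.g_sq

theorem g_mem_U : F.sw.g ∈ F.U := F.toFrame.g_mem_U

theorem g_D {d : G} (hd : d ∈ s.D) : F.sw.g * d * F.sw.g ∈ F.sw.E := by
  have := conj_mem_cjg (g := F.sw.g) hd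
  rwa [F.g_inv] at this

theorem swap_not_comm {x : G} (hxU : x ∈ F.U) (hxT : x ∉ s.T) : x * F.w' ≠ F.w' * x := fun h => by
  refine F.w'_not_E ?_
  rw [← F.cjg_swap hxU hxT]
  have := conj_mem_cjg (g := x) F.w'_D
  rwa [h, mul_inv_cancel_right] at this

theorem mem_Z_iff {x : G} : x ∈ s.V ⊓ F.sw.E ↔ x * x = 1 ∧ ∀ t ∈ s.T, t * x = x * t := by
  refine ⟨fun h => ⟨s.V_sq x h.1, fun t ht => F.central_T h.1 h.2 ht⟩, fun h => ?_⟩
  exact F.mem_of_central h.1 h.2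

theorem z_mem_Z : s.z ∈ s.V ⊓ F.sw.E :=
  F.mem_Z_iff.2 ⟨s.z_sq, fun t ht => s.hz t (s.hTS ht)⟩

theorem w_mem_Z : F.w ∈ s.V ⊓ F.sw.E := ⟨F.w_V, F.w_E⟩

theorem D₀_mem_Z {e : G} (hV : e ∈ s.V) (hD : e ∈ F.D₀) : e ∈ s.V ⊓ F.sw.E := ⟨hV, F.D₀_le_E hD⟩

theorem U_comm_Z {x v : G} (hx : x ∈ F.U) (hv : v ∈ s.V ⊓ F.sw.E) : x * v = v * x := by
  rcases hx with hx | hx
  · exact F.central_T hv.1 hv.2 hx
  · have h1 : Commute (x * F.sw.g) v := F.central_T hv.1 hv.2 hx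
    have h2 : Commute F.sw.g v := F.g_fix v hv
    have h3 := h1.mul_left h2
    rwa [mul_assoc, F.g_sq, mul_one] at h3

/-- A nontrivial element of `V ∩ D₀` is not central in a Sylow subgroup. -/
theorem not_isPGroup_centralizer {e : G} (heV : e ∈ s.V) (heD : e ∈ F.D₀) :
    ¬ IsPGroup 2 ↥(Subgroup.centralizer ({e} : Set G)) := fun h =>
  s.not_isPGroup (h.to_le fun m hm =>
    Subgroup.mem_centralizer_singleton_iff.2 (F.central_of_mem heV heD hm))

theorem exists_moved {e : G} (he1 : e ≠ 1) (heV : e ∈ s.V) (heD : e ∈ F.D₀) :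
    ∃ x ∈ (s.S : Subgroup G), x * e ≠ e * x := by
  by_contra h
  push Not at h
  exact F.not_isPGroup_centralizer heV heD (by rw [s.h.centralizer_eq he1 h]; exact s.S.isPGroup')

/-- `w` is not conjugate to an element of `V ∩ D₀` when it is central in `S`. -/
theorem not_conj_z {e g : G} (he1 : e ≠ 1) (heV : e ∈ s.V) (heD : e ∈ F.D₀) :
    g * e * g⁻¹ ≠ s.z := by
  intro h
  refine F.not_isPGroup_centralizer heV heD ?_
  have hle : (Subgroup.centralizer ({e} : Set G)).map (MulAut.conj g).toMonoidHom ≤ (s.S : Subgroup G) := by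
    rintro _ ⟨c, hc, rfl⟩
    refine s.h.mem_sylow_of_comm s.hz1 s.hz ?_
    have hc' := Subgroup.mem_centralizer_singleton_iff.1 hc
    show g * c * g⁻¹ * s.z = s.z * (g * c * g⁻¹)
    rw [← h]
    calc g * c * g⁻¹ * (g * e * g⁻¹) = g * (c * e) * g⁻¹ := by group
      _ = g * (e * c) * g⁻¹ := by rw [hc']
      _ = _ := by group
  exact (s.S.isPGroup'.to_le hle).of_equiv
    ((Subgroup.equivMapOfInjective _ _ (MulAut.conj g).injective).symm)

/-- The elementary complement of order four is impossible. -/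
theorem not_elementary_four (h4 : Nat.card F.D₀ = 4) (hexp : ∀ d ∈ F.D₀, d * d = 1) : False := by
  classical
  haveI : Fact (Nat.Prime 2) := ⟨Nat.prime_two⟩
  have hV : ∀ d ∈ F.D₀, d ∈ s.V := fun d hd =>
    F.mem_V_of_D₀ hd (hexp d hd) fun c hc => comm_of_exp_two hexp hc hd
  have hU32 : Nat.card s.T = 32 := by rw [F.card_T_eq, h4]
  have hT_lt : s.T < F.U := lt_of_le_of_ne F.T_le_U fun h => F.sw.hgT (h ▸ F.g_mem_U)
  have hUcard : Nat.card F.U = 64 := by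
    have h1 := F.card_U
    obtain ⟨j, hj⟩ := IsPGroup.iff_card.1 (s.S.isPGroup'.to_le F.U_le_S)
    have h2 : Nat.card s.T < Nat.card F.U :=
      Set.ncard_lt_ncard (SetLike.coe_ssubset_coe.2 hT_lt) (Set.toFinite _)
    rw [hU32] at h1 h2
    rw [hj] at h1 h2 ⊢
    have hj6 : j ≤ 6 := by
      by_contra h
      have : 2 ^ 7 ≤ 2 ^ j := Nat.pow_le_pow_right two_pos (by omega)
      omega
    interval_cases j <;> simp at h1 h2 ⊢
  have hidx : (F.U.subgroupOf (s.S : Subgroup G)).index = 2 := by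
    have h := Subgroup.card_mul_index (F.U.subgroupOf (s.S : Subgroup G))
    rw [Nat.card_congr (Subgroup.subgroupOfEquivOfLe F.U_le_S).toEquiv, hUcard, s.h.card] at h
    omega
  have hUn : (s.S : Subgroup G) ≤ Subgroup.normalizer (F.U : Set G) :=
    (Subgroup.normal_subgroupOf_iff_le_normalizer F.U_le_S).1 (Subgroup.normal_of_index_eq_two hidx)
  obtain ⟨h, hhS, hhU⟩ : ∃ h ∈ (s.S : Subgroup G), h ∉ F.U := by
    by_contra hc
    push Not at hc
    have h2 := Subgroup.card_le_of_le hc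
    rw [hUcard, s.h.card] at h2
    norm_num at h2
  have hhh : h * h ∈ F.U := by
    have := (Subgroup.mul_mem_iff_of_index_two hidx (a := ⟨h, hhS⟩) (b := ⟨h, hhS⟩)).2 Iff.rfl
    exact this
  have hZ : ∀ v ∈ s.V ⊓ F.sw.E, h * v * h⁻¹ ∈ s.V ⊓ F.sw.E := by
    intro v hv
    have h1 : ∀ t ∈ F.U, t * (h * v * h⁻¹) = h * v * h⁻¹ * t := fun t ht => by
      have := F.U_comm_Z ((Subgroup.mem_normalizer_iff''.1 (hUn hhS) t).1 ht) hv
      calc t * (h * v * h⁻¹) = h * (h⁻¹ * t * h * v) * h⁻¹ := by group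
        _ = h * (v * (h⁻¹ * t * h)) * h⁻¹ := by rw [this]
        _ = _ := by group
    refine F.mem_Z_iff.2 ⟨?_, fun t ht => h1 t (F.T_le_U ht)⟩
    rw [show h * v * h⁻¹ * (h * v * h⁻¹) = h * (v * v) * h⁻¹ by group, s.V_sq v hv.1]; group
  let f : G → G := fun d => d * (h * d * h⁻¹)
  have hf : ∀ d ∈ F.D₀, f d ∈ s.V ⊓ F.sw.E := fun d hd =>
    mul_mem (F.D₀_mem_Z (hV d hd) hd) (hZ d (F.D₀_mem_Z (hV d hd) hd))
  have hS : ∀ v ∈ s.V ⊓ F.sw.E, h * v = v * h → ∀ x ∈ (s.S : Subgroup G), x * v = v * x := by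
    intro v hv hc x hx
    by_cases hxU : x ∈ F.U
    · exact F.U_comm_Z hxU hv
    · have h1 : x * h ∈ F.U :=
        (Subgroup.mul_mem_iff_of_index_two hidx (a := ⟨x, hx⟩) (b := ⟨h, hhS⟩)).2 (iff_of_false hxU hhU)
      have h2 : Commute (x * h) v := F.U_comm_Z h1 hv
      have h3 := h2.mul_left (Commute.inv_left (show Commute h v from hc))
      rwa [mul_inv_cancel_right] at h3
  have hfh : ∀ d ∈ F.D₀, h * f d = f d * h := by
    intro d hd
    have hz := F.D₀_mem_Z (hV d hd) hd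
    rw [← mul_inv_eq_iff_eq_mul]
    calc h * (d * (h * d * h⁻¹)) * h⁻¹ = (h * d * h⁻¹) * ((h * h) * d * (h * h)⁻¹) := by group
      _ = (h * d * h⁻¹) * d := by rw [F.U_comm_Z hhh hz, mul_inv_cancel_right]
      _ = d * (h * d * h⁻¹) :=
        (s.V_comm (s.V_le_D (hV d hd)) (hZ d hz).1).symm
  have hno : ∀ v ∈ F.D₀, v ≠ 1 → h * v ≠ v * h := fun v hv hv1 hc => by
    obtain ⟨x, hx, hxv⟩ := F.exists_moved hv1 (hV v hv) hv
    exact hxv (hS v (F.D₀_mem_Z (hV v hv) hv) hc x hx)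
  have hout : ∀ d ∈ F.D₀, d ≠ 1 → ∃ c ∈ F.D₀, f d = F.w * c := by
    intro d hd hd1
    have hfd := hf d hd
    obtain ⟨c, hc, hh | hh⟩ := F.I_cases (s.V_le_D hfd.1) hfd.2
    · exfalso
      by_cases h1 : f d = 1
      · refine hno d hd hd1 ?_
        have h2 := eq_inv_of_mul_eq_one_right h1
        rw [inv_eq_of_mul_eq_one_right (hexp d hd)] at h2
        exact mul_inv_eq_iff_eq_mul.1 h2
      · exact hno _ (hh ▸ hc) h1 (hfh d hd)
    · exact ⟨c, hc, hh⟩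
  haveI := Fintype.ofFinite F.D₀
  obtain ⟨d₁, d₂, hd₁, hd₂, hne⟩ : ∃ d₁ d₂ : F.D₀, d₁ ≠ 1 ∧ d₂ ≠ 1 ∧ d₁ ≠ d₂ := by
    obtain ⟨d₁, h1⟩ : ∃ d : F.D₀, d ≠ 1 := by
      haveI : Nontrivial F.D₀ := Finite.one_lt_card_iff_nontrivial.1 (by omega)
      exact exists_ne 1
    obtain ⟨d₂, -, h2⟩ := Finset.exists_mem_notMem_of_card_lt_card
      (s := ({1, d₁} : Finset F.D₀)) (t := Finset.univ) (by
        rw [Finset.card_pair h1.symm, Finset.card_univ, ← Nat.card_eq_fintype_card]; omega)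
    simp only [Finset.mem_insert, Finset.mem_singleton, not_or] at h2
    exact ⟨d₁, d₂, h1, h2.1, Ne.symm h2.2⟩
  obtain ⟨c₁, hc₁, e1⟩ := hout d₁ d₁.2 fun h => hd₁ (Subtype.ext h)
  obtain ⟨c₂, hc₂, e2⟩ := hout d₂ d₂.2 fun h => hd₂ (Subtype.ext h)
  have hd12 : ((d₁ : G) * d₂) ≠ 1 := fun h => hne (Subtype.ext (by
    rw [← inv_eq_of_mul_eq_one_right h, inv_eq_of_mul_eq_one_right (hexp _ d₁.2)]))
  have hin : f ((d₁ : G) * d₂) ∈ F.D₀ := by
    have hc := s.V_comm (s.V_le_D (hV _ d₂.2)) (hZ _ (F.D₀_mem_Z (hV _ d₁.2) d₁.2)).1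
    have hmul : f ((d₁ : G) * d₂) = f d₁ * f d₂ := by
      calc (d₁ : G) * d₂ * (h * ((d₁ : G) * d₂) * h⁻¹)
          = d₁ * ((d₂ : G) * (h * d₁ * h⁻¹)) * (h * d₂ * h⁻¹) := by group
        _ = _ := by rw [hc]; simp only [f]; group
    rw [hmul, e1, e2]
    have : F.w * c₁ * (F.w * c₂) = c₁ * c₂ := by
      calc F.w * c₁ * (F.w * c₂) = (F.w * (c₁ * F.w)) * c₂ := by group
        _ = c₁ * c₂ := by rw [s.V_comm (F.D₀_le_D hc₁) F.w_V, ← mul_assoc, F.w_sq, one_mul]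
    rw [this]; exact mul_mem hc₁ hc₂
  by_cases h1 : f ((d₁ : G) * d₂) = 1
  · refine hno _ (mul_mem d₁.2 d₂.2) hd12 ?_
    have h2 := eq_inv_of_mul_eq_one_right h1
    rw [inv_eq_of_mul_eq_one_right (hexp _ (mul_mem d₁.2 d₂.2))] at h2
    exact mul_inv_eq_iff_eq_mul.1 h2
  · exact hno _ hin h1 (hfh _ (mul_mem d₁.2 d₂.2))

end IFrame

end Cfsg.Agent.LenEight
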