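import Cfsg.Agent.Lib.LenEight.IFacts

/-!
The complement of order two is impossible.
-/

set_option autoImplicit false
set_option linter.style.haveILetI false
set_option linter.unusedSectionVars false
set_option linter.unusedVariables false

namespace Cfsg.Agent.LenEight

open Cfsg.Agent

universe u

variable {G : Type u} [Group G] [Finite G] [IsSimpleGroup G] {s : Setting G}

/-- An exponent-two subgroup of a group generated by two involutions has order at most four. -/
theorem card_le_four_of_two_involutions {a b : G} (ha : a * a = 1) (hb : b * b = 1) {A : Subgroup G}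
    (hA : A ≤ Subgroup.closure ({a, b} : Set G)) (hA2 : ∀ x ∈ A, x * x = 1) : Nat.card A ≤ 4 := by
  set K := Subgroup.closure ({a, b} : Set G) with hK
  have haK : a ∈ K := Subgroup.subset_closure (by simp)
  have hbK : b ∈ K := Subgroup.subset_closure (by simp)
  set R := Subgroup.zpowers (a * b) with hR
  have hinv : a * (a * b) * a⁻¹ = (a * b)⁻¹ := by
    rw [mul_inv_rev, inv_eq_of_mul_eq_one_right ha, inv_eq_of_mul_eq_one_right hb, ← mul_assoc, ha, one_mul]
  have hn : Subgroup.zpowers a ≤ Subgroup.normalizer (R : Set G) := by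
    rw [Subgroup.zpowers_le]
    refine Subgroup.mem_normalizer_iff.2 fun x => ⟨?_, ?_⟩
    · intro hx
      obtain ⟨n, rfl⟩ := Subgroup.mem_zpowers_iff.1 hx
      rw [← conj_zpow, hinv]
      exact zpow_mem (inv_mem (Subgroup.mem_zpowers _)) n
    · intro hx
      obtain ⟨n, hn⟩ := Subgroup.mem_zpowers_iff.1 hx
      have : x = (a * (a * b) * a⁻¹) ^ n := by
        rw [conj_zpow, hn]
        calc x = (a * a) * x * (a * a)⁻¹ := by rw [ha]; group
          _ = _ := by group
      rw [this, hinv]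
      exact zpow_mem (inv_mem (Subgroup.mem_zpowers _)) n
  have hKR : K ≤ Subgroup.zpowers a ⊔ R := by
    rw [hK, Subgroup.closure_le]
    intro x hx
    simp only [Set.mem_insert_iff, Set.mem_singleton_iff] at hx
    rcases hx with rfl | rfl
    · exact Subgroup.mem_sup_left (Subgroup.mem_zpowers _)
    · rw [show x = a⁻¹ * (a * x) by group]
      exact mul_mem (inv_mem (Subgroup.mem_sup_left (Subgroup.mem_zpowers _)))
        (Subgroup.mem_sup_right (Subgroup.mem_zpowers _))
  have h1 := card_sup_mul_inf (A := Subgroup.zpowers a) (B := R) hn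
  have h2 : Nat.card (Subgroup.zpowers a) ≤ 2 := by
    rw [Nat.card_zpowers]
    exact Nat.le_of_dvd two_pos (orderOf_dvd_of_pow_eq_one (by rw [pow_two, ha]))
  have h3 : Nat.card ↥(Subgroup.zpowers a ⊔ R) ≤ 2 * Nat.card R := by
    have : 1 ≤ Nat.card ↥(Subgroup.zpowers a ⊓ R) := Nat.card_pos
    nlinarith
  have h4 := Product.card_mul_card_le A R
  have h5 : Nat.card ↥(A ⊔ R) ≤ 2 * Nat.card R :=
    (Subgroup.card_le_of_le (sup_le (hA.trans hKR) le_sup_right)).trans h3
  have h6 : Nat.card ↥(A ⊓ R) ≤ 2 := by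
    haveI : IsCyclic R := Subgroup.isCyclic_zpowers _
    haveI : IsCyclic ↥((A ⊓ R).subgroupOf R) := inferInstance
    classical
    haveI := Fintype.ofFinite R
    have hle := IsCyclic.card_pow_eq_one_le (α := R) (n := 2) two_pos
    refine le_trans ?_ hle
    rw [← Nat.card_eq_finsetCard]
    refine Nat.card_le_card_of_injective
      (fun x => ⟨⟨(x : G), x.2.2⟩, Finset.mem_filter.2 ⟨Finset.mem_univ _, Subtype.ext (by
        show (x : G) ^ 2 = 1
        rw [pow_two]; exact hA2 _ x.2.1)⟩⟩) ?_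
    intro x y h
    exact Subtype.ext (congrArg (fun z => ((Subtype.val z : R) : G)) h)
  have hpos : 0 < Nat.card R := Nat.card_pos
  nlinarith

namespace IFrame

variable (F : IFrame s)

theorem Z_cases {e v : G} (he : ∀ d ∈ F.D₀, d * d = 1 → d = 1 ∨ d = e) (hv : v ∈ s.V ⊓ F.sw.E) :
    v = 1 ∨ v = e ∨ v = F.w ∨ v = F.w * e := by
  obtain ⟨c, hc, h | h⟩ := F.I_cases (s.V_le_D hv.1) hv.2
  · rcases he c hc (by rw [← h]; exact s.V_sq v hv.1) with h' | h'
    · exact Or.inl (h.trans h')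
    · exact Or.inr (Or.inl (h.trans h'))
  · have hcc : c * c = 1 := by
      have h1 := s.V_sq v hv.1
      rw [h] at h1
      calc c * c = (F.w * F.w) * (c * c) := by rw [F.w_sq, one_mul]
        _ = F.w * (F.w * c) * c := by group
        _ = F.w * (c * F.w) * c := by rw [s.V_comm (F.D₀_le_D hc) F.w_V]
        _ = _ := by group
        _ = 1 := h1
    rcases he c hc hcc with h' | h'
    · exact Or.inr (Or.inr (Or.inl (by rw [h, h', mul_one])))
    · exact Or.inr (Or.inr (Or.inr (by rw [h, h'])))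

/-- The complement of order two is impossible. -/
theorem not_two (h2 : Nat.card F.D₀ = 2) : False := by
  classical
  haveI : Fact (Nat.Prime 2) := ⟨Nat.prime_two⟩
  obtain ⟨e, heD, he1⟩ : ∃ e ∈ F.D₀, e ≠ 1 :=
    (Subgroup.bot_or_exists_ne_one F.D₀).resolve_left fun h => by
      rw [h, Subgroup.card_bot] at h2; omega
  have hD₀ : ∀ d ∈ F.D₀, d = 1 ∨ d = e := by
    intro d hd
    by_contra hcon
    push Not at hcon
    haveI := Fintype.ofFinite F.D₀
    have h3 : ({1, ⟨d, hd⟩, ⟨e, heD⟩} : Finset F.D₀).card ≤ 2 := by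
      refine (Finset.card_le_univ _).trans ?_
      rw [← Nat.card_eq_fintype_card, h2]
    rw [Finset.card_insert_of_notMem (by simp [Subtype.ext_iff, Ne.symm hcon.1, Ne.symm he1]),
      Finset.card_pair (fun h => hcon.2 (congrArg Subtype.val h))] at h3
    omega
  have hee : e * e = 1 := by
    rcases hD₀ (e * e) (mul_mem heD heD) with h | h
    · exact h
    · exact absurd (mul_left_cancel (h.trans (mul_one e).symm)) he1
  have heV : e ∈ s.V := F.mem_V_of_D₀ heD hee fun d hd => F.D₀_comm hd heD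
  have heZ := F.D₀_mem_Z heV heD
  have hT16 : Nat.card s.T = 16 := by rw [F.card_T_eq, h2]
  have hV8 : Nat.card s.V = 8 := by
    have hVD : s.V = s.D := by
      refine le_antisymm s.V_le_D fun d hd => ?_
      obtain ⟨ω, hω, c, hc, rfl⟩ := F.D_cases hd
      refine mul_mem (F.W_le_V hω) ?_
      rcases hD₀ c hc with rfl | rfl
      · exact one_mem _
      · exact heV
    rw [hVD, F.card_D.1, h2]
  -- the centraliser of `e` in `S`
  set C := (s.S : Subgroup G) ⊓ Subgroup.centralizer ({e} : Set G) with hC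
  have hCS : C ≤ (s.S : Subgroup G) := inf_le_left
  have hCe : ∀ c ∈ C, c * e = e * c := fun c hc => Subgroup.mem_centralizer_singleton_iff.1 hc.2
  have hUC : F.U ≤ C := fun x hx =>
    ⟨F.U_le_S hx, Subgroup.mem_centralizer_singleton_iff.2 (F.U_comm_Z hx heZ)⟩
  have hTC : s.T ≤ C := F.T_le_U.trans hUC
  have hgC : F.sw.g ∈ C := hUC F.g_mem_U
  have hbC : F.b ∈ C := hTC F.b_mem_T
  have hVC : s.V ≤ C := s.V_le_T.trans hTC
  obtain ⟨x₀, hx₀S, hx₀⟩ := F.exists_moved he1 heV heD
  have hClt : C < (s.S : Subgroup G) :=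
    hCS.lt_of_ne fun h => hx₀ (hCe x₀ (h.symm ▸ hx₀S))
  obtain ⟨h, ⟨hhS, hhN⟩, hhC⟩ :=
    SetLike.exists_of_lt (Fusion.lt_inf_normalizer (Fusion.sylow_isNilpotent s.S) hClt)
  have hconjC : ∀ c ∈ C, h * c * h⁻¹ ∈ C := fun c hc => (Subgroup.mem_normalizer_iff.1 hhN c).1 hc
  have hconjC' : ∀ c ∈ C, h⁻¹ * c * h ∈ C := fun c hc => (Subgroup.mem_normalizer_iff''.1 hhN c).1 hc
  -- the image of `e`
  set e' := h * e * h⁻¹ with he'
  have he'cen : ∀ c ∈ C, c * e' = e' * c := by
    intro c hc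
    calc c * (h * e * h⁻¹) = h * ((h⁻¹ * c * h) * e) * h⁻¹ := by group
      _ = h * (e * (h⁻¹ * c * h)) * h⁻¹ := by rw [hCe _ (hconjC' c hc)]
      _ = e' * c := by rw [he']; group
  have he'Z : e' ∈ s.V ⊓ F.sw.E := F.mem_Z_iff.2
    ⟨by rw [he', show h * e * h⁻¹ * (h * e * h⁻¹) = h * (e * e) * h⁻¹ by group, hee]; group,
      fun t ht => he'cen t (hTC ht)⟩
  have he'e : e' ≠ e := fun hh => hhC
    ⟨hhS, Subgroup.mem_centralizer_singleton_iff.2 (mul_inv_eq_iff_eq_mul.1 hh)⟩
  have he'1 : e' ≠ 1 := fun hh => he1 (conj_eq_one_iff.1 hh)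
  have hzne : s.z ≠ e' := fun hh => F.not_conj_z he1 heV heD hh.symm
  have hze : s.z ≠ e := fun hh => F.not_conj_z (g := 1) he1 heV heD (by simp [hh])
  have hzh : h * s.z * h⁻¹ = s.z := by rw [s.hz h hhS, mul_inv_cancel_right]
  have hwe : F.w ≠ e := fun hh => F.w_not_D₀ (hh ▸ heD)
  have hwe1 : F.w * e ≠ 1 := fun hh => hwe (by
    rw [← inv_eq_of_mul_eq_one_right hh, inv_eq_of_mul_eq_one_right F.w_sq])
  have hD₀' : ∀ d ∈ F.D₀, d * d = 1 → d = 1 ∨ d = e := fun d hd _ => hD₀ d hd
  have hZform : ∀ v, v ∈ s.V ⊓ F.sw.E → v = 1 ∨ v = e ∨ v = F.w ∨ v = F.w * e :=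
    fun v hv => F.Z_cases hD₀' hv
  have hew : F.w * e = e * F.w := (s.V_comm (F.D₀_le_D heD) F.w_V).symm
  have he'ze : e' = s.z * e := by
    rcases hZform _ he'Z with h1 | h1 | h1 | h1
    · exact absurd h1 he'1
    · exact absurd h1 he'e
    · rcases hZform _ F.z_mem_Z with h2 | h2 | h2 | h2
      · exact absurd h2 s.hz1
      · exact absurd h2 hze
      · exact absurd (h2.trans h1.symm) hzne
      · rw [h1, h2, mul_assoc, hee, mul_one]
    · rcases hZform _ F.z_mem_Z with h2 | h2 | h2 | h2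
      · exact absurd h2 s.hz1
      · exact absurd h2 hze
      · rw [h1, h2]
      · exact absurd (h2.trans h1.symm) hzne
  have hZcen : ∀ v ∈ s.V ⊓ F.sw.E, ∀ c ∈ C, c * v = v * c := by
    intro v hv c hc
    have hcz : Commute c s.z := s.hz c (hCS hc)
    have hce : Commute c e := hCe c hc
    have hcw : Commute c F.w := by
      rcases hZform _ F.z_mem_Z with h2 | h2 | h2 | h2
      · exact absurd h2 s.hz1
      · exact absurd h2 hze
      · rwa [h2] at hcz
      · have h4 : s.z * e = F.w := by rw [h2, mul_assoc, hee, mul_one]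
        rw [← h4]; exact hcz.mul_right hce
    rcases hZform v hv with rfl | rfl | rfl | rfl
    · rw [mul_one, one_mul]
    · exact hce
    · exact hcw
    · exact (hcw.mul_right hce).eq
  have hhe' : h * e' * h⁻¹ = e := by
    rw [he'ze, show h * (s.z * e) * h⁻¹ = (h * s.z * h⁻¹) * (h * e * h⁻¹) by group, hzh, ← he', he'ze,
      ← mul_assoc, s.z_sq, one_mul]
  have hh2 : h * h ∈ C := ⟨mul_mem hhS hhS, Subgroup.mem_centralizer_singleton_iff.2 (by
    rw [← mul_inv_eq_iff_eq_mul]
    calc h * h * e * (h * h)⁻¹ = h * (h * e * h⁻¹) * h⁻¹ := by group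
      _ = e := by rw [← he', hhe'])⟩
  have hhZ : ∀ v ∈ s.V ⊓ F.sw.E, h * v * h⁻¹ ∈ s.V ⊓ F.sw.E := by
    intro v hv
    refine F.mem_Z_iff.2 ⟨?_, fun t ht => ?_⟩
    · rw [show h * v * h⁻¹ * (h * v * h⁻¹) = h * (v * v) * h⁻¹ by group, s.V_sq v hv.1]; group
    · calc t * (h * v * h⁻¹) = h * ((h⁻¹ * t * h) * v) * h⁻¹ := by group
        _ = h * (v * (h⁻¹ * t * h)) * h⁻¹ := by rw [hZcen v hv _ (hconjC' t (hTC ht))]
        _ = _ := by group
  -- `V` is generated by `w'` and `V ∩ E`
  have hVgen : ∀ v ∈ s.V, v ∈ s.V ⊓ F.sw.E ∨ F.w' * v ∈ s.V ⊓ F.sw.E := by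
    intro v hv
    by_cases hvE : v ∈ F.sw.E
    · exact Or.inl ⟨hv, hvE⟩
    · exact Or.inr ⟨mul_mem F.w'_V hv, (F.sw.inf_mem_iff F.sh F.w'_D (s.V_le_D hv)).2
        (iff_of_false F.w'_not_E hvE)⟩
  -- an element centralising `w'` modulo `e` and normalising `V ∩ E` lies in `T`
  have hstab : ∀ x ∈ (s.S : Subgroup G), (∀ v ∈ s.V ⊓ F.sw.E, x * v * x⁻¹ ∈ s.V ⊓ F.sw.E) →
      x * F.w' * x⁻¹ ∈ s.V → x ∈ s.T := by
    intro x hxS hxZ hxw
    refine s.stab_V hxS (Subgroup.eq_of_le_of_card_ge ?_ (card_cjg _ _).ge)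
    rintro _ ⟨v, hv, rfl⟩
    rcases hVgen v hv with h1 | h1
    · exact (hxZ v h1).1
    · show x * v * x⁻¹ ∈ s.V
      have e1 : x * v * x⁻¹ = (x * F.w' * x⁻¹) * (x * (F.w' * v) * x⁻¹) := by
        calc x * v * x⁻¹ = x * (F.w' * F.w') * v * x⁻¹ := by rw [F.w'_sq]; group
          _ = _ := by group
      rw [e1]; exact mul_mem hxw (hxZ _ h1).1
  have hCfix : ∀ x ∈ C, ∀ v ∈ s.V ⊓ F.sw.E, x * v * x⁻¹ ∈ s.V ⊓ F.sw.E := fun x hx v hv => by
    rw [hZcen v hv x hx, mul_inv_cancel_right]; exact hv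
  have hw'C : F.w' ∈ C := hVC F.w'_V
  set a := h * F.w' * h⁻¹ with ha
  have haC : a ∈ C := hconjC _ hw'C
  have haa : a * a = 1 := by
    rw [ha, show h * F.w' * h⁻¹ * (h * F.w' * h⁻¹) = h * (F.w' * F.w') * h⁻¹ by group, F.w'_sq]; group
  -- `C` modulo `e`
  set E2 := (Subgroup.zpowers e).subgroupOf C with hE2
  haveI hE2n : E2.Normal := ⟨fun x hx c => by
    rw [hE2, Subgroup.mem_subgroupOf] at hx ⊢
    obtain ⟨i, hi⟩ := Subgroup.mem_zpowers_iff.1 hx
    refine Subgroup.mem_zpowers_iff.2 ⟨i, ?_⟩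
    show e ^ i = (c : G) * (x : G) * (c : G)⁻¹
    rw [← hi, ((show Commute (c : G) e from hCe c c.2).zpow_right i).eq, mul_inv_cancel_right]⟩
  have hmem2 : ∀ x : C, x ∈ E2 ↔ (x : G) = 1 ∨ (x : G) = e := by
    intro x
    rw [hE2, Subgroup.mem_subgroupOf, mem_zpowers_iff_mem_range_orderOf,
      orderOf_eq_prime (p := 2) (by rw [pow_two, hee]) he1]
    simp [Finset.range_add_one, eq_comm, or_comm]
  let π : C →* C ⧸ E2 := QuotientGroup.mk' E2
  have hπeq : ∀ x y : C, π x = π y ↔ (y : G) = x ∨ (y : G) = x * e := by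
    intro x y
    rw [show π x = QuotientGroup.mk x from rfl, show π y = QuotientGroup.mk y from rfl,
      QuotientGroup.eq, hmem2, Subgroup.coe_mul, Subgroup.coe_inv, inv_mul_eq_one, inv_mul_eq_iff_eq_mul]
    exact or_congr_left eq_comm
  have hCp : IsPGroup 2 C := s.S.isPGroup'.to_le hCS
  have hQp : IsPGroup 2 (C ⧸ E2) := hCp.to_quotient E2
  let xw : C := ⟨F.w', hw'C⟩
  let xa : C := ⟨a, haC⟩
  have hord : ∀ x : C, (x : G) * x = 1 → (x : G) ∉ s.V ⊓ F.sw.E → orderOf (π x) = 2 := by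
    intro x hx hxZ
    refine orderOf_eq_prime ?_ ?_
    · rw [← map_pow, pow_two, show x * x = 1 from Subtype.ext hx, map_one]
    · intro h1
      rw [show π x = QuotientGroup.mk x from rfl, QuotientGroup.eq_one_iff, hmem2] at h1
      rcases h1 with h1 | h1 <;> rw [h1] at hxZ
      · exact hxZ (one_mem _)
      · exact hxZ heZ
  have hw'Z : F.w' ∉ s.V ⊓ F.sw.E := fun hh => F.w'_not_E hh.2
  have haV : ∀ t ∈ C, cjg t s.V ≠ cjg h s.V := by
    intro t ht hh
    refine hhC ?_
    have h1 : t⁻¹ * h ∈ s.T :=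
      s.stab_V ((s.S : Subgroup G).mul_mem ((s.S : Subgroup G).inv_mem (hCS ht)) hhS) (by
        rw [← cjg_cjg, ← hh, cjg_cjg, inv_mul_cancel]
        ext x; rw [mem_cjg, inv_one, one_mul, mul_one])
    simpa using mul_mem ht (hTC h1)
  have haZ : a ∉ s.V ⊓ F.sw.E := by
    intro hh
    refine hhC (hTC (hstab h hhS hhZ hh.1))
  have hcentw : Nat.card ↥(Subgroup.centralizer ({π xw} : Set (C ⧸ E2))) = 4 := by
    have heq : (Subgroup.centralizer ({π xw} : Set (C ⧸ E2))).comap π = s.V.subgroupOf C := by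
      ext x
      rw [Subgroup.mem_comap, Subgroup.mem_centralizer_singleton_iff, ← map_mul, ← map_mul, hπeq,
        Subgroup.mem_subgroupOf]
      show ((F.w' * (x : G)) = (x : G) * F.w' ∨ F.w' * (x : G) = (x : G) * F.w' * e) ↔ (x : G) ∈ s.V
      constructor
      · intro h1
        have hxw : (x : G) * F.w' * (x : G)⁻¹ ∈ s.V := by
          rcases h1 with h1 | h1
          · rw [← h1, mul_inv_cancel_right]; exact F.w'_V
          · have : (x : G) * F.w' * (x : G)⁻¹ = F.w' * e := by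
              rw [mul_inv_eq_iff_eq_mul]
              calc (x : G) * F.w' = (x : G) * F.w' * e * e := by rw [mul_assoc _ e, hee, mul_one]
                _ = F.w' * (x : G) * e := by rw [← h1]
                _ = F.w' * e * x := by rw [mul_assoc, hCe x x.2]; group
            rw [this]; exact mul_mem F.w'_V heV
        have hxT : (x : G) ∈ s.T := hstab x (hCS x.2) (hCfix x x.2) hxw
        by_contra hxV
        have hxD : (x : G) ∉ s.D := fun hd => hxV (by
          obtain ⟨ω, hω, c, hc, hwc⟩ := F.D_cases hd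
          rw [hwc]
          refine mul_mem (F.W_le_V hω) ?_
          rcases hD₀ c hc with rfl | rfl
          · exact one_mem _
          · exact heV)
        have hxb : (x : G) * F.b ∈ s.D := (F.sh.mul_mem_D hxT F.b_mem_T).2 (iff_of_false hxD F.hbD)
        have hdw := s.V_comm hxb F.w'_V
        -- conjugation by `x` is that by `b`
        have h3 : (x : G) * (F.w * F.w') = F.w' * x := by
          calc (x : G) * (F.w * F.w') = (x : G) * (F.b * F.w' * F.b) := by rw [F.b_w']
            _ = ((x : G) * F.b * F.w') * F.b := by group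
            _ = F.w' * x * (F.b * F.b) := by rw [hdw]; group
            _ = _ := by rw [F.b_sq, mul_one]
        have hwx : F.w * (x : G) = x * F.w := (F.central_T F.w_V F.w_E hxT).symm
        rcases h1 with h1 | h1
        · rw [h1] at h3
          exact F.w_ne (mul_right_cancel ((mul_left_cancel h3).trans (one_mul F.w').symm))
        · rw [h1, mul_assoc] at h3
          have h4 : F.w * F.w' = F.w' * e := mul_left_cancel h3
          exact hwe (mul_left_cancel ((comm_of_exp_two s.V_sq F.w'_V F.w_V).trans h4))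
      · intro h1
        exact Or.inl (comm_of_exp_two s.V_sq F.w'_V h1)
    have h5 := (Subgroup.centralizer ({π xw} : Set (C ⧸ E2))).card_mul_index
    have h6 := ((Subgroup.centralizer ({π xw} : Set (C ⧸ E2))).comap π).card_mul_index
    rw [Subgroup.index_comap_of_surjective _ (QuotientGroup.mk'_surjective E2), heq,
      Nat.card_congr (Subgroup.subgroupOfEquivOfLe hVC).toEquiv, hV8,
      E2.card_eq_card_quotient_mul_card_subgroup, ← h5] at h6
    have hE2c : Nat.card E2 = 2 := by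
      rw [hE2, Nat.card_congr (Subgroup.subgroupOfEquivOfLe (Subgroup.zpowers_le.2
        (hVC heV))).toEquiv, Nat.card_zpowers, orderOf_eq_prime (p := 2) (by rw [pow_two, hee]) he1]
    rw [hE2c] at h6
    have : 0 < (Subgroup.centralizer ({π xw} : Set (C ⧸ E2))).index :=
      Nat.pos_of_ne_zero Subgroup.index_ne_zero_of_finite
    nlinarith
  have hae : h⁻¹ * e * h = e' := by
    conv_lhs => rw [← hhe']
    group
  have hnot : π xa ∉ Subgroup.center (C ⧸ E2) := by
    intro hcen
    let xg : C := ⟨h * F.sw.g * h⁻¹, hconjC _ hgC⟩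
    have h1 := Subgroup.mem_center_iff.1 hcen (π xg)
    rw [← map_mul, ← map_mul, hπeq] at h1
    refine F.hbD (s.V_le_D ?_)
    rw [F.b_eq]
    show F.sw.g * F.w' * F.sw.g ∈ s.V
    have e1 : F.sw.g * F.w' * F.sw.g = h⁻¹ * ((h * F.sw.g * h⁻¹) * a) * h * F.sw.g := by rw [ha]; group
    rcases h1 with h1 | h1
    · have h1' : a * (h * F.sw.g * h⁻¹) = (h * F.sw.g * h⁻¹) * a := h1
      rw [e1, ← h1', ha]
      rw [show h⁻¹ * (h * F.w' * h⁻¹ * (h * F.sw.g * h⁻¹)) * h * F.sw.g = F.w' * (F.sw.g * F.sw.g) by group,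
        F.g_sq, mul_one]
      exact F.w'_V
    · have h1' : a * (h * F.sw.g * h⁻¹) = (h * F.sw.g * h⁻¹) * a * e := h1
      have h1'' : (h * F.sw.g * h⁻¹) * a = a * (h * F.sw.g * h⁻¹) * e := by
        rw [h1', mul_assoc _ e e, hee, mul_one]
      rw [e1, h1'', ha]
      rw [show h⁻¹ * (h * F.w' * h⁻¹ * (h * F.sw.g * h⁻¹) * e) * h * F.sw.g =
          F.w' * (F.sw.g * (h⁻¹ * e * h)) * F.sw.g by group, hae, hZcen e' he'Z F.sw.g hgC,
        show F.w' * (e' * F.sw.g) * F.sw.g = F.w' * e' * (F.sw.g * F.sw.g) by group, F.g_sq, mul_one]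
      exact mul_mem F.w'_V he'Z.1
  have hQ8 : 8 ≤ Nat.card (C ⧸ E2) := by
    have h1 := E2.card_eq_card_quotient_mul_card_subgroup
    have hE2c : Nat.card E2 = 2 := by
      rw [hE2, Nat.card_congr (Subgroup.subgroupOfEquivOfLe (Subgroup.zpowers_le.2
        (hVC heV))).toEquiv, Nat.card_zpowers, orderOf_eq_prime (p := 2) (by rw [pow_two, hee]) he1]
    have h2 := Subgroup.card_le_of_le hTC
    rw [hE2c] at h1
    omega
  have hnotconj : ∀ t : C ⧸ E2, t * π xw * t⁻¹ ≠ π xa := by
    intro q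
    obtain ⟨t, rfl⟩ := QuotientGroup.mk'_surjective E2 q
    intro hh
    rw [← map_inv, ← map_mul, ← map_mul] at hh
    rcases (hπeq _ _).1 hh with h1 | h1
    · refine haV t t.2 (Subgroup.eq_of_le_of_card_ge ?_ (by rw [card_cjg, card_cjg]))
      rintro _ ⟨v, hv, rfl⟩
      show (t : G) * v * (t : G)⁻¹ ∈ cjg h s.V
      have h1' : a = (t : G) * F.w' * (t : G)⁻¹ := h1
      rcases hVgen v hv with h2 | h2
      · rw [hZcen v h2 t t.2, mul_inv_cancel_right]
        exact mem_cjg.2 (by
          have := hhZ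
          have h3 : h⁻¹ * v * h ∈ s.V ⊓ F.sw.E := by
            refine F.mem_Z_iff.2 ⟨?_, fun u hu => ?_⟩
            · rw [show h⁻¹ * v * h * (h⁻¹ * v * h) = h⁻¹ * (v * v) * h by group, s.V_sq v h2.1]; group
            · calc u * (h⁻¹ * v * h) = h⁻¹ * ((h * u * h⁻¹) * v) * h := by group
                _ = h⁻¹ * (v * (h * u * h⁻¹)) * h := by rw [hZcen v h2 _ (hconjC u (hTC hu))]
                _ = _ := by group
          exact h3.1)
      · rw [show (t : G) * v * (t : G)⁻¹ = a * ((t : G) * (F.w' * v) * (t : G)⁻¹) by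
            rw [h1']
            calc (t : G) * v * (t : G)⁻¹ = t * (F.w' * F.w') * v * (t : G)⁻¹ := by rw [F.w'_sq]; group
              _ = _ := by group]
        refine mul_mem (conj_mem_cjg F.w'_V) ?_
        rw [hZcen _ h2 t t.2, mul_inv_cancel_right]
        refine mem_cjg.2 ?_
        have h3 : h⁻¹ * (F.w' * v) * h ∈ s.V ⊓ F.sw.E := by
          refine F.mem_Z_iff.2 ⟨?_, fun u hu => ?_⟩
          · rw [show h⁻¹ * (F.w' * v) * h * (h⁻¹ * (F.w' * v) * h) = h⁻¹ * ((F.w' * v) * (F.w' * v)) * h by group,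
              s.V_sq _ h2.1]; group
          · calc u * (h⁻¹ * (F.w' * v) * h) = h⁻¹ * ((h * u * h⁻¹) * (F.w' * v)) * h := by group
              _ = h⁻¹ * ((F.w' * v) * (h * u * h⁻¹)) * h := by rw [hZcen _ h2 _ (hconjC u (hTC hu))]
              _ = _ := by group
        exact h3.1
    · refine haV t t.2 (Subgroup.eq_of_le_of_card_ge ?_ (by rw [card_cjg, card_cjg]))
      have hback : ∀ v ∈ s.V ⊓ F.sw.E, v ∈ cjg h s.V := by
        intro v hv
        refine mem_cjg.2 ?_
        have h3 : h⁻¹ * v * h ∈ s.V ⊓ F.sw.E := by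
          refine F.mem_Z_iff.2 ⟨?_, fun u hu => ?_⟩
          · rw [show h⁻¹ * v * h * (h⁻¹ * v * h) = h⁻¹ * (v * v) * h by group, s.V_sq v hv.1]; group
          · calc u * (h⁻¹ * v * h) = h⁻¹ * ((h * u * h⁻¹) * v) * h := by group
              _ = h⁻¹ * (v * (h * u * h⁻¹)) * h := by rw [hZcen v hv _ (hconjC u (hTC hu))]
              _ = _ := by group
        exact h3.1
      rintro _ ⟨v, hv, rfl⟩
      show (t : G) * v * (t : G)⁻¹ ∈ cjg h s.V
      have h1' : a = (t : G) * F.w' * (t : G)⁻¹ * e := h1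
      rcases hVgen v hv with h2 | h2
      · rw [hZcen v h2 t t.2, mul_inv_cancel_right]; exact hback v h2
      · rw [show (t : G) * v * (t : G)⁻¹ = (a * e) * ((t : G) * (F.w' * v) * (t : G)⁻¹) by
            rw [h1', mul_assoc _ e e, hee, mul_one]
            calc (t : G) * v * (t : G)⁻¹ = t * (F.w' * F.w') * v * (t : G)⁻¹ := by rw [F.w'_sq]; group
              _ = _ := by group]
        refine mul_mem (mul_mem (conj_mem_cjg F.w'_V) (hback e heZ)) ?_
        rw [hZcen _ h2 t t.2, mul_inv_cancel_right]; exact hback _ h2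
  obtain ⟨hgen, hinvs⟩ := two_classes hQp (hord xw F.w'_sq hw'Z) (hord xa haa haZ) hcentw hnot hQ8 hnotconj
  -- the subgroup generated by `b` and `a`
  set K := Subgroup.closure ({F.b, a} : Set G) with hK
  have hKC : K ≤ C := (Subgroup.closure_le _).2 (by
    intro x hx
    simp only [Set.mem_insert_iff, Set.mem_singleton_iff] at hx
    rcases hx with rfl | rfl
    exacts [hbC, haC])
  have hbK : F.b ∈ K := Subgroup.subset_closure (by simp)
  have haK : a ∈ K := Subgroup.subset_closure (by simp)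
  let xb : C := ⟨F.b, hbC⟩
  have hKe : ∀ c ∈ C, c ∈ K ∨ c * e ∈ K := by
    have hP : ∀ q : C ⧸ E2, q ∈ (K.subgroupOf C).map π := by
      intro q
      -- `w'` is conjugate to `b` in `C`
      set K' := (K.subgroupOf C).map π with hK'
      have hbq : π xb ∈ K' := ⟨xb, hbK, rfl⟩
      have haq : π xa ∈ K' := ⟨xa, haK, rfl⟩
      have htop : Subgroup.closure ({π xb, π xa} : Set (C ⧸ E2)) = ⊤ := by
        let xg : C := ⟨F.sw.g, hgC⟩
        have hconj : π xg * π xw * (π xg)⁻¹ = π xb := by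
          rw [← map_inv, ← map_mul, ← map_mul]
          refine congrArg π (Subtype.ext ?_)
          show F.sw.g * F.w' * F.sw.g⁻¹ = F.b
          rw [F.g_inv]; exact F.b_eq.symm
        have hx2 := hord xw F.w'_sq hw'Z
        have hb2 : orderOf (π xb) = 2 := by
          rw [← hconj, show π xg * π xw * (π xg)⁻¹ = MulAut.conj (π xg) (π xw) from rfl,
            MulEquiv.orderOf_eq, hx2]
        have hbc : Nat.card ↥(Subgroup.centralizer ({π xb} : Set (C ⧸ E2))) = 4 := by
          rw [← hcentw, ← hconj]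
          have hmap : Subgroup.centralizer ({π xg * π xw * (π xg)⁻¹} : Set (C ⧸ E2)) =
              (Subgroup.centralizer ({π xw} : Set (C ⧸ E2))).map (MulAut.conj (π xg)).toMonoidHom := by
            ext u
            rw [Subgroup.mem_centralizer_singleton_iff, Subgroup.mem_map]
            constructor
            · intro hu
              refine ⟨(π xg)⁻¹ * u * π xg, ?_, ?_⟩
              · rw [Subgroup.mem_centralizer_singleton_iff]
                calc (π xg)⁻¹ * u * π xg * π xw
                    = (π xg)⁻¹ * (u * (π xg * π xw * (π xg)⁻¹)) * π xg := by group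
                  _ = (π xg)⁻¹ * ((π xg * π xw * (π xg)⁻¹) * u) * π xg := by rw [hu]
                  _ = _ := by group
              · show π xg * ((π xg)⁻¹ * u * π xg) * (π xg)⁻¹ = u
                group
            · rintro ⟨v, hv, rfl⟩
              have hv' := Subgroup.mem_centralizer_singleton_iff.1 hv
              show π xg * v * (π xg)⁻¹ * (π xg * π xw * (π xg)⁻¹) = π xg * π xw * (π xg)⁻¹ * (π xg * v * (π xg)⁻¹)
              calc π xg * v * (π xg)⁻¹ * (π xg * π xw * (π xg)⁻¹) = π xg * (v * π xw) * (π xg)⁻¹ := by group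
                _ = π xg * (π xw * v) * (π xg)⁻¹ := by rw [hv']
                _ = _ := by group
          rw [hmap, Subgroup.card_map_of_injective (MulAut.conj (π xg)).injective]
        refine (two_classes hQp hb2 (hord xa haa haZ) hbc hnot hQ8 fun t hh => hnotconj (t * π xg) ?_).1
        rw [← hh, ← hconj]; group
      have hle : (⊤ : Subgroup (C ⧸ E2)) ≤ K' := by
        rw [← htop, Subgroup.closure_le]
        intro x hx
        simp only [Set.mem_insert_iff, Set.mem_singleton_iff] at hx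
        rcases hx with rfl | rfl
        exacts [hbq, haq]
      exact hle (Subgroup.mem_top q)
    intro c hc
    obtain ⟨k, hk, hk'⟩ := hP (π ⟨c, hc⟩)
    rcases (hπeq _ _).1 hk' with h1 | h1
    · exact Or.inl (show c ∈ K by rw [show c = (k : G) from h1]; exact hk)
    · refine Or.inr ?_
      rw [show c = (k : G) * e from h1, mul_assoc, hee, mul_one]
      exact hk
  have hVexp : ∀ x ∈ s.V, x * x = 1 := s.V_sq
  have heK : e ∉ K := by
    intro heK
    have hVK : s.V ≤ K := fun v hv => by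
      rcases hKe v (hVC hv) with h1 | h1
      · exact h1
      · rw [show v = v * e * e by rw [mul_assoc, hee, mul_one]]; exact mul_mem h1 heK
    have := card_le_four_of_two_involutions F.b_sq haa hVK hVexp
    omega
  have hKC' : ∀ c ∈ C, ∀ k ∈ K, c * k * c⁻¹ ∈ K := by
    intro c hc k hk
    rcases hKe c hc with h1 | h1
    · exact mul_mem (mul_mem h1 hk) (inv_mem h1)
    · have hce : c = c * e * e := by rw [mul_assoc, hee, mul_one]
      have hek : e * k * e = k := by rw [← hCe k (hKC hk), mul_assoc, hee, mul_one]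
      rw [hce, show c * e * e * k * (c * e * e)⁻¹ = (c * e) * (e * k * e⁻¹) * (c * e)⁻¹ by group,
        inv_eq_of_mul_eq_one_right hee, hek]
      exact mul_mem (mul_mem h1 hk) (inv_mem h1)
  have hw'K : F.w' ∈ K := by
    have h1 := hKC' _ hgC _ hbK
    rw [F.g_inv, F.b_eq] at h1
    rwa [show F.sw.g * (F.sw.g * F.toFrame.w' * F.sw.g) * F.sw.g = (F.sw.g * F.sw.g) * F.w' * (F.sw.g * F.sw.g) by group,
      F.g_sq, one_mul, mul_one] at h1
  have hwK : F.w ∈ K := by
    have h1 := mul_mem (mul_mem (mul_mem hbK hw'K) hbK) hw'K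
    rwa [show F.b * F.w' * F.b = F.w * F.w' from F.b_w', mul_assoc, F.w'_sq, mul_one] at h1
  have hhK : ∀ k ∈ K, h * k * h⁻¹ ∈ K := by
    have hle : K ≤ K.comap (MulAut.conj h).toMonoidHom := by
      refine (Subgroup.closure_le _).2 ?_
      intro x hx
      simp only [Set.mem_insert_iff, Set.mem_singleton_iff] at hx
      rw [SetLike.mem_coe, Subgroup.mem_comap]
      show h * x * h⁻¹ ∈ K
      rcases hx with rfl | rfl
      · rw [F.b_eq, show h * (F.sw.g * F.toFrame.w' * F.sw.g) * h⁻¹ =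
          (h * F.sw.g * h⁻¹) * a * (h * F.sw.g * h⁻¹) by rw [ha]; group]
        have h1 := hKC' _ (hconjC _ hgC) _ haK
        rwa [show (h * F.sw.g * h⁻¹)⁻¹ = h * F.sw.g⁻¹ * h⁻¹ by group, F.g_inv] at h1
      · rw [ha, show h * (h * F.w' * h⁻¹) * h⁻¹ = h * h * F.w' * (h * h)⁻¹ by group]
        exact hKC' _ hh2 _ hw'K
    exact fun k hk => hle hk
  have hwz : F.w = s.z := by
    rcases hZform _ F.z_mem_Z with h2 | h2 | h2 | h2
    · exact absurd h2 s.hz1
    · exact absurd h2 hze
    · exact h2.symm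
    · exfalso
      have hew' : e' = F.w := by rw [he'ze, h2, mul_assoc, hee, mul_one]
      apply heK
      rw [← hhe', hew']
      exact hhK _ hwK
  have he'we : e' = F.w * e := by rw [he'ze, hwz]
  -- an element of `N_S(C) ∖ C` commutes with no involution of `C` outside `V ∩ E`
  set P := (s.S : Subgroup G) ⊓ Subgroup.normalizer (C : Set G) with hP
  have hCP : C ≤ P := le_inf hCS Subgroup.le_normalizer
  have hPe : ∀ p ∈ P, p ∉ C → p * e * p⁻¹ = e' := by
    intro p hp hpC
    obtain ⟨hpS, hpN⟩ := Subgroup.mem_inf.1 hp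
    have hpe : p * e * p⁻¹ ∈ s.V ⊓ F.sw.E := by
      refine F.mem_Z_iff.2 ⟨?_, fun t ht => ?_⟩
      · rw [show p * e * p⁻¹ * (p * e * p⁻¹) = p * (e * e) * p⁻¹ by group, hee]; group
      · calc t * (p * e * p⁻¹) = p * ((p⁻¹ * t * p) * e) * p⁻¹ := by group
          _ = p * (e * (p⁻¹ * t * p)) * p⁻¹ := by
            rw [hCe _ ((Subgroup.mem_normalizer_iff''.1 hpN t).1 (hTC ht))]
          _ = _ := by group
    rcases hZform _ hpe with h1 | h1 | h1 | h1
    · exact absurd (conj_eq_one_iff.1 h1) he1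
    · exact absurd (Subgroup.mem_inf.2 ⟨hpS, Subgroup.mem_centralizer_singleton_iff.2 (mul_inv_eq_iff_eq_mul.1 h1)⟩) hpC
    · exact absurd (h1.trans hwz) (F.not_conj_z he1 heV heD)
    · rw [h1, he'we]
  have hPP : ∀ p ∈ P, p ∉ C → ∀ q ∈ P, q ∉ C → p * q ∈ C := by
    intro p hp hpC q hq hqC
    refine ⟨(s.S : Subgroup G).mul_mem hp.1 hq.1, Subgroup.mem_centralizer_singleton_iff.2 ?_⟩
    rw [← mul_inv_eq_iff_eq_mul]
    have hpi : p⁻¹ ∉ C := fun hh => hpC (by simpa using inv_mem hh)
    have h1 := hPe p⁻¹ (inv_mem hp) hpi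
    have h2 := hPe q hq hqC
    calc p * q * e * (p * q)⁻¹ = p * (q * e * q⁻¹) * p⁻¹ := by group
      _ = p * (p⁻¹ * e * p⁻¹⁻¹) * p⁻¹ := by rw [h2, h1]
      _ = e := by group
  have hPZ : ∀ p ∈ P, ∀ v ∈ s.V ⊓ F.sw.E, p * v * p⁻¹ ∈ s.V ⊓ F.sw.E := by
    intro p hp v hv
    obtain ⟨hpS, hpN⟩ := Subgroup.mem_inf.1 hp
    refine F.mem_Z_iff.2 ⟨?_, fun t ht => ?_⟩
    · rw [show p * v * p⁻¹ * (p * v * p⁻¹) = p * (v * v) * p⁻¹ by group, s.V_sq v hv.1]; group
    · calc t * (p * v * p⁻¹) = p * ((p⁻¹ * t * p) * v) * p⁻¹ := by group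
        _ = p * (v * (p⁻¹ * t * p)) * p⁻¹ := by
          rw [hZcen v hv _ ((Subgroup.mem_normalizer_iff''.1 hpN t).1 (hTC ht))]
        _ = _ := by group
  -- the centre of `C / e`
  have hcenQ : ∀ x : C, π x ∈ Subgroup.center (C ⧸ E2) → (x : G) * x = 1 → (x : G) ∈ s.V ⊓ F.sw.E := by
    intro x hx hxx
    have h1 := Subgroup.mem_center_iff.1 hx (π xw)
    rw [← map_mul, ← map_mul, hπeq] at h1
    have hxw : (x : G) * F.w' * (x : G)⁻¹ ∈ s.V := by
      rcases h1 with h1 | h1
      · have h1' : (x : G) * F.w' = F.w' * x := h1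
        rw [h1', mul_inv_cancel_right]; exact F.w'_V
      · have h1' : (x : G) * F.w' = F.w' * x * e := h1
        rw [h1', mul_assoc F.w', hCe x x.2, ← mul_assoc F.w', mul_inv_cancel_right]
        exact mul_mem F.w'_V heV
    have hxT : (x : G) ∈ s.T := hstab x (hCS x.2) (hCfix x x.2) hxw
    -- it commutes modulo `e` with `b`
    have h2 := Subgroup.mem_center_iff.1 hx (π (⟨F.b, hbC⟩ : C))
    rw [← map_mul, ← map_mul, hπeq] at h2
    rcases F.invol_cases hxT hxx with hV | hV'
    · refine ⟨hV, (F.comm_b_iff (s.V_le_D hV)).1 ?_⟩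
      rcases h2 with h2 | h2
      · exact h2
      · exfalso
        have h2' : (x : G) * F.b = F.b * x * e := h2
        rcases hVgen _ hV with h3 | h3
        · have h4 := (F.b_comm_E h3.2)
          rw [h4] at h2'
          exact he1 (mul_left_cancel (a := F.b * (x : G)) (by rw [mul_one]; exact h2'.symm))
        · obtain ⟨v, hv⟩ : ∃ v, v = F.w' * (x : G) := ⟨_, rfl⟩
          rw [← hv] at h3
          have hxv : (x : G) = F.w' * v := by rw [hv, ← mul_assoc, F.w'_sq, one_mul]
          have h4 : v * F.b = F.b * v := F.b_comm_E h3.2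
          rw [hxv, mul_assoc, h4, ← mul_assoc, ← mul_assoc] at h2'
          have h5 : F.w' * F.b = F.b * F.w' * e := by
            refine mul_right_cancel (b := v) ?_
            rw [h2', mul_assoc _ e v, s.V_comm (s.V_le_D heV) h3.1]
            group
          have h6 : F.b * F.w' * F.b = F.w' * e := by
            have h7 : F.b * F.w' = F.w' * F.b * e := by
              rw [h5, mul_assoc _ e e, hee, mul_one]
            rw [h7, mul_assoc (F.w' * F.b), ← hCe F.b hbC, ← mul_assoc, mul_assoc F.w', F.b_sq, mul_one]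
          rw [F.b_w'] at h6
          exact hwe (mul_left_cancel ((comm_of_exp_two s.V_sq F.w'_V F.w_V).trans h6))
    · have hxV : (x : G) ∈ s.V := by
        by_contra hxV
        have hxD : (x : G) ∉ s.D := fun hd => hxV (F.mem_V_of_D hd hxx)
        have hxb : (x : G) * F.b ∈ s.D := (F.sh.mul_mem_D hxT F.b_mem_T).2 (iff_of_false hxD F.hbD)
        have hdw := s.V_comm hxb (mul_mem F.w_V F.w'_V)
        have h9 : (x : G) * F.w' * (x : G)⁻¹ = F.w * F.w' := by
          rw [mul_inv_eq_iff_eq_mul]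
          calc (x : G) * F.w' = (x : G) * (F.b * F.b) * F.w' * (F.b * F.b) := by rw [F.b_sq]; group
            _ = (x : G) * F.b * (F.b * F.w' * F.b) * F.b := by group
            _ = (F.w * F.w') * ((x : G) * F.b) * F.b := by rw [F.b_w', hdw]
            _ = _ := by rw [mul_assoc, mul_assoc (x : G), F.b_sq, mul_one]
        rcases h1 with h1 | h1
        · have h1' : (x : G) * F.w' = F.w' * x := h1
          rw [h1', mul_inv_cancel_right] at h9
          exact F.w_ne (mul_right_cancel (h9.symm.trans (one_mul F.w').symm))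
        · have h1' : (x : G) * F.w' = F.w' * x * e := h1
          rw [h1', mul_assoc F.w', hCe x x.2, ← mul_assoc F.w', mul_inv_cancel_right] at h9
          exact hwe (mul_left_cancel ((comm_of_exp_two s.V_sq F.w'_V F.w_V).trans h9.symm))
      exact ⟨hxV, F.sw.V'_le_E hV'⟩
  -- every involution of `C` outside `V ∩ E` is conjugate to one of four
  have hclass : ∀ x ∈ C, x * x = 1 → x ∉ s.V ⊓ F.sw.E →
      ∃ t ∈ C, t * x * t⁻¹ = F.w' ∨ t * x * t⁻¹ = F.w' * e ∨ t * x * t⁻¹ = a ∨ t * x * t⁻¹ = a * e := by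
    intro x hxC hxx hxZ
    rcases hinvs (π ⟨x, hxC⟩) (by rw [← map_mul, show (⟨x, hxC⟩ * ⟨x, hxC⟩ : C) = 1 from Subtype.ext hxx, map_one])
      with hc | ⟨q, hq⟩
    · exact absurd (hcenQ _ hc hxx) hxZ
    · obtain ⟨t, rfl⟩ := QuotientGroup.mk'_surjective E2 q
      change π t * π ⟨x, hxC⟩ * (π t)⁻¹ = _ ∨ π t * π ⟨x, hxC⟩ * (π t)⁻¹ = _ at hq
      rw [← map_inv, ← map_mul, ← map_mul, hπeq, hπeq] at hq
      refine ⟨t, t.2, ?_⟩
      have hmul : ∀ p q : G, q = p * e → p = q * e := fun p q hpq => by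
        rw [hpq, mul_assoc, hee, mul_one]
      rcases hq with (hq | hq) | (hq | hq)
      · exact Or.inl hq.symm
      · exact Or.inr (Or.inl (hmul _ _ hq))
      · exact Or.inr (Or.inr (Or.inl hq.symm))
      · exact Or.inr (Or.inr (Or.inr (hmul _ _ hq)))
  -- centralisers in `C` of the representatives
  have hcentC : ∀ c ∈ C, c * F.w' = F.w' * c → c ∈ s.D := by
    intro c hc hcw
    have hcT : c ∈ s.T := hstab c (hCS hc) (hCfix c hc) (by rw [hcw, mul_inv_cancel_right]; exact F.w'_V)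
    by_contra hcD
    have hcb : c * F.b ∈ s.D := (F.sh.mul_mem_D hcT F.b_mem_T).2 (iff_of_false hcD F.hbD)
    have hdw := s.V_comm hcb (mul_mem F.w_V F.w'_V)
    have h9 : c * F.w' = F.w * F.w' * c := by
      calc c * F.w' = c * (F.b * F.b) * F.w' * (F.b * F.b) := by rw [F.b_sq]; group
        _ = c * F.b * (F.b * F.w' * F.b) * F.b := by group
        _ = (F.w * F.w') * (c * F.b) * F.b := by rw [F.b_w', hdw]
        _ = _ := by rw [mul_assoc, mul_assoc c, F.b_sq, mul_one]
    rw [hcw] at h9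
    exact F.w_ne (mul_right_cancel ((mul_right_cancel h9).symm.trans (one_mul F.w').symm))
  have hL1 : ∀ x ∈ C, x * x = 1 → x ∉ s.V ⊓ F.sw.E → ∀ p ∈ P, p * x = x * p → p ∈ C := by
    intro x hxC hxx hxZ p hp hpx
    by_contra hpC
    obtain ⟨t, htC, ht⟩ := hclass x hxC hxx hxZ
    set p' := t * p * t⁻¹ with hp'
    have hp'P : p' ∈ P := mul_mem (mul_mem (hCP htC) hp) (inv_mem (hCP htC))
    have hp'C : p' ∉ C := fun hh => hpC (by
      have := mul_mem (mul_mem (inv_mem htC) hh) htC
      rwa [hp', show t⁻¹ * (t * p * t⁻¹) * t = p by group] at this)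
    have hfixed : p' * (t * x * t⁻¹) * p'⁻¹ = t * x * t⁻¹ := by
      rw [hp']
      calc t * p * t⁻¹ * (t * x * t⁻¹) * (t * p * t⁻¹)⁻¹ = t * (p * x * p⁻¹) * t⁻¹ := by group
        _ = t * x * t⁻¹ := by rw [hpx, mul_inv_cancel_right]
    obtain ⟨hpS, hpN⟩ := Subgroup.mem_inf.1 hp'P
    -- pulling `a` back by `h`
    have hback : ∀ r ∈ s.V, p' * (h * r * h⁻¹) * p'⁻¹ = h * r * h⁻¹ → r ∉ s.V ⊓ F.sw.E →
        h⁻¹ * p' * h ∈ s.T := by
      intro r hr hfix hrZ
      have hq : h⁻¹ * p' * h ∈ P := by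
        have hhP : h ∈ P := Subgroup.mem_inf.2 ⟨hhS, hhN⟩
        exact mul_mem (mul_mem (inv_mem hhP) hp'P) hhP
      refine hstab _ (Subgroup.mem_inf.1 hq).1 (hPZ _ hq) ?_
      have h1 : h⁻¹ * p' * h * r * (h⁻¹ * p' * h)⁻¹ = r := by
        calc h⁻¹ * p' * h * r * (h⁻¹ * p' * h)⁻¹ = h⁻¹ * (p' * (h * r * h⁻¹) * p'⁻¹) * h := by group
          _ = r := by rw [hfix]; group
      rcases hVgen r hr with h2 | h2
      · exact absurd h2 hrZ
      · have h3 := (hPZ _ hq _ h2).1
        have h4 : h⁻¹ * p' * h * F.w' * (h⁻¹ * p' * h)⁻¹ =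
            (h⁻¹ * p' * h * (F.w' * r) * (h⁻¹ * p' * h)⁻¹) * r := by
          calc h⁻¹ * p' * h * F.w' * (h⁻¹ * p' * h)⁻¹
              = h⁻¹ * p' * h * F.w' * (r * r) * (h⁻¹ * p' * h)⁻¹ := by rw [s.V_sq r hr, mul_one]
            _ = (h⁻¹ * p' * h * (F.w' * r) * (h⁻¹ * p' * h)⁻¹) *
                (h⁻¹ * p' * h * r * (h⁻¹ * p' * h)⁻¹) := by group
            _ = _ := by rw [h1]
        rw [h4]; exact mul_mem h3 hr
    have hTcase : h⁻¹ * p' * h ∈ s.T → False := fun hh => hp'C (by
      have := hconjC _ (hTC hh)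
      rwa [show h * (h⁻¹ * p' * h) * h⁻¹ = p' by group] at this)
    rcases ht with ht | ht | ht | ht <;> rw [ht] at hfixed
    · exact hp'C (hTC (hstab p' hpS (hPZ p' hp'P) (by rw [hfixed]; exact F.w'_V)))
    · refine hp'C (hTC (hstab p' hpS (hPZ p' hp'P) ?_))
      have h1 : p' * F.w' * p'⁻¹ = (p' * (F.w' * e) * p'⁻¹) * (p' * e * p'⁻¹) := by
        calc p' * F.w' * p'⁻¹ = p' * F.w' * (e * e) * p'⁻¹ := by rw [hee, mul_one]
          _ = _ := by group
      rw [h1, hfixed, hPe p' hp'P hp'C]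
      exact mul_mem (mul_mem F.w'_V heV) he'Z.1
    · exact hTcase (hback F.w' F.w'_V (by rw [← ha]; exact hfixed) hw'Z)
    · refine hTcase (hback (F.w' * e') (mul_mem F.w'_V he'Z.1) ?_ fun hh => hw'Z ?_)
      · rw [show h * (F.w' * e') * h⁻¹ = a * (h * e' * h⁻¹) by rw [ha]; group, hhe']
        exact hfixed
      · have := mul_mem hh he'Z
        rwa [mul_assoc, s.V_sq _ he'Z.1, mul_one] at this
  -- `N_S(C) = S`
  have hPS : P = (s.S : Subgroup G) := by
    by_contra hne
    obtain ⟨q, ⟨hqS, hqN⟩, hqP⟩ := SetLike.exists_of_lt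
      (Fusion.lt_inf_normalizer (Fusion.sylow_isNilpotent s.S) (lt_of_le_of_ne inf_le_left hne))
    have hVP : ∀ c ∈ P, cjg c s.V ≤ P := fun c hc => by
      rintro _ ⟨v, hv, rfl⟩
      exact mul_mem (mul_mem hc (hCP (hVC hv))) (inv_mem hc)
    have key : ∀ c ∈ P, cjg (q * c) s.V ≤ C := by
      intro c hc j hj
      by_contra hjC
      set E' := cjg (q * c) s.V with hE'
      have hE'P : E' ≤ P := by
        rw [hE', ← cjg_cjg]
        rintro _ ⟨v, hv, rfl⟩
        exact (Subgroup.mem_normalizer_iff.1 hqN v).1 (hVP c hc hv)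
      have hE2' : ∀ v ∈ E', v * v = 1 := by
        rintro _ ⟨v, hv, rfl⟩; rw [← map_mul, s.V_sq v hv, map_one]
      have hhalf : 4 ≤ Nat.card ↥(E' ⊓ C) := by
        have hidx : (C.subgroupOf E').index ≤ 2 := by
          by_contra h3
          have h2 : (C.subgroupOf E').index = 2 := by
            rw [Subgroup.index_eq_two_iff']
            refine ⟨⟨j, hj⟩, fun ⟨v, hv⟩ => ?_⟩
            simp only [Subgroup.mem_subgroupOf, Subgroup.coe_mul]
            by_cases hvC : v ∈ C
            · exact Or.inr ⟨hvC, fun hh => hjC (by simpa using mul_mem hh (inv_mem hvC))⟩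
            · exact Or.inl ⟨hPP j (hE'P hj) hjC v (hE'P hv) hvC, hvC⟩
          omega
        have h1 := (C.subgroupOf E').card_mul_index
        rw [show Nat.card E' = 8 by rw [hE', card_cjg, hV8]] at h1
        have h2 : Nat.card (C.subgroupOf E') = Nat.card ↥(E' ⊓ C) :=
          Nat.card_congr { toFun := fun u => ⟨(u : E'), (u : E').2, u.2⟩,
                           invFun := fun u => ⟨⟨u, u.2.1⟩, u.2.2⟩,
                           left_inv := fun u => rfl, right_inv := fun u => rfl }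
        rw [h2] at h1
        nlinarith
      by_cases hle : E' ⊓ C ≤ s.V ⊓ F.sw.E
      · have h4 : Nat.card ↥(s.V ⊓ F.sw.E) = 4 := by have := F.card_VE; omega
        have := (Subgroup.eq_of_le_of_card_ge hle (by rw [h4]; exact hhalf)).ge heZ
        have hje : j * e = e * j := comm_of_exp_two hE2' hj this.1
        exact hjC ⟨(Subgroup.mem_inf.1 (hE'P hj)).1, Subgroup.mem_centralizer_singleton_iff.2 hje⟩
      · obtain ⟨x, hx, hxZ⟩ := SetLike.not_le_iff_exists.1 hle
        exact hjC (hL1 x hx.2 (hE2' x hx.1) hxZ j (hE'P hj) (comm_of_exp_two hE2' hj hx.1))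
    apply hqP
    refine Subgroup.mem_inf.2 ⟨hqS, mem_normalizer_of_cjg
      (Subgroup.eq_of_le_of_card_ge ?_ (card_cjg _ _).ge)⟩
    have hle : C ≤ (C.comap (MulAut.conj q).toMonoidHom) := by
      intro c hc
      set H := C.comap (MulAut.conj q).toMonoidHom with hH
      have hmemH : ∀ r ∈ P, ∀ v ∈ s.V, r * v * r⁻¹ ∈ H := fun r hr v hv => by
        rw [hH, Subgroup.mem_comap]
        apply key r hr
        rw [← cjg_cjg]
        exact conj_mem_cjg (conj_mem_cjg hv)
      have hbH : F.b ∈ H := by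
        have := hmemH _ (hCP hgC) _ F.w'_V
        rwa [F.g_inv, ← F.b_eq] at this
      have haH : a ∈ H := hmemH h (Subgroup.mem_inf.2 ⟨hhS, hhN⟩) _ F.w'_V
      have heH : e ∈ H := by
        have := hmemH 1 (one_mem _) e heV
        simpa using this
      have hKH : K ≤ H := (Subgroup.closure_le _).2 (by
        intro x hx
        simp only [Set.mem_insert_iff, Set.mem_singleton_iff] at hx
        rcases hx with rfl | rfl
        exacts [hbH, haH])
      rcases hKe c hc with h1 | h1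
      · exact hKH h1
      · rw [show c = c * e * e by rw [mul_assoc, hee, mul_one]]
        exact mul_mem (hKH h1) heH
    rintro _ ⟨c, hc, rfl⟩
    exact hle hc
  have hSC : ∀ x ∈ (s.S : Subgroup G), x ∉ C → ∀ y ∈ (s.S : Subgroup G), y ∉ C → x * y ∈ C :=
    fun x hx hxC y hy hyC => hPP x (hPS.ge hx) hxC y (hPS.ge hy) hyC
  have hCidx : C.relIndex (s.S : Subgroup G) = 2 := by
    rw [Subgroup.relIndex, Subgroup.index_eq_two_iff']
    refine ⟨⟨h, hhS⟩, fun ⟨x, hx⟩ => ?_⟩
    simp only [Subgroup.mem_subgroupOf, Subgroup.coe_mul]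
    by_cases hxC : x ∈ C
    · exact Or.inr ⟨hxC, fun hh => hhC (by simpa using mul_mem hh (inv_mem hxC))⟩
    · exact Or.inl ⟨hSC h hhS hhC x hx hxC, hxC⟩
  have hC64 : Nat.card C = 64 := by
    have h1 := (C.subgroupOf (s.S : Subgroup G)).card_mul_index
    rw [Nat.card_congr (Subgroup.subgroupOfEquivOfLe hCS).toEquiv, s.h.card] at h1
    change _ * C.relIndex (s.S : Subgroup G) = _ at h1
    rw [hCidx] at h1
    omega
  -- `K` is normal in `S`
  have hSK : (s.S : Subgroup G) ≤ Subgroup.normalizer (K : Set G) := by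
    intro x hx
    refine mem_normalizer_of_cjg (Subgroup.eq_of_le_of_card_ge ?_ (card_cjg _ _).ge)
    rintro _ ⟨k, hk, rfl⟩
    show x * k * x⁻¹ ∈ K
    by_cases hxC : x ∈ C
    · exact hKC' x hxC k hk
    · have hh' : h⁻¹ ∉ C := fun hh => hhC (by simpa using inv_mem hh)
      have hxh : x * h⁻¹ ∈ C := hSC x hx hxC h⁻¹ ((s.S : Subgroup G).inv_mem hhS) hh'
      rw [show x * k * x⁻¹ = (x * h⁻¹) * (h * k * h⁻¹) * (x * h⁻¹)⁻¹ by group]
      exact hKC' _ hxh _ (hhK k hk)
  set Kn := K.subgroupOf (s.S : Subgroup G) with hKn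
  haveI : Kn.Normal := (Subgroup.normal_subgroupOf_iff_le_normalizer (hKC.trans hCS)).2 hSK
  have hQ4 : Nat.card ((s.S : Subgroup G) ⧸ Kn) = 4 := by
    have hK32 : Nat.card K * 2 = 64 := by
      have hn : Subgroup.zpowers e ≤ Subgroup.normalizer (K : Set G) := by
        rw [Subgroup.zpowers_le]; exact hSK (hCS (hVC heV))
      have h1 := card_sup_mul_inf (A := Subgroup.zpowers e) (B := K) hn
      have hsup : Subgroup.zpowers e ⊔ K = C := by
        refine le_antisymm (sup_le (Subgroup.zpowers_le.2 (hVC heV)) hKC) fun c hc => ?_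
        rcases hKe c hc with h1 | h1
        · exact Subgroup.mem_sup_right h1
        · rw [show c = c * e * e by rw [mul_assoc, hee, mul_one]]
          exact mul_mem (Subgroup.mem_sup_right h1) (Subgroup.mem_sup_left (Subgroup.mem_zpowers _))
      have hinf : Subgroup.zpowers e ⊓ K = ⊥ := by
        refine (Subgroup.eq_bot_iff_forall _).2 fun v hv => ?_
        obtain ⟨hv1, hv2⟩ := Subgroup.mem_inf.1 hv
        rw [mem_zpowers_iff_mem_range_orderOf, orderOf_eq_prime (p := 2) (by rw [pow_two, hee]) he1,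
          Finset.mem_image] at hv1
        obtain ⟨i, hi, rfl⟩ := hv1
        rw [Finset.mem_range] at hi
        interval_cases i
        · rw [pow_zero]
        · rw [pow_one] at hv2; exact absurd hv2 heK
      rw [hsup, hinf, Subgroup.card_bot, mul_one, hC64, Nat.card_zpowers,
        orderOf_eq_prime (p := 2) (by rw [pow_two, hee]) he1, mul_comm] at h1
      exact h1.symm
    have h2 := Kn.card_eq_card_quotient_mul_card_subgroup
    rw [hKn, Nat.card_congr (Subgroup.subgroupOfEquivOfLe (hKC.trans hCS)).toEquiv, s.h.card] at h2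
    have hK32' : Nat.card K = 32 := by omega
    rw [hK32'] at h2
    rw [hKn]
    omega
  letI : CommGroup ((s.S : Subgroup G) ⧸ Kn) :=
    { (inferInstance : Group ((s.S : Subgroup G) ⧸ Kn)) with
      mul_comm := fun p q => by
        haveI := IsPGroup.isMulCommutative_of_card_eq_prime_sq (G := (s.S : Subgroup G) ⧸ Kn) (p := 2)
          (by rw [hQ4]; rfl)
        exact mul_comm' p q }
  have hφe : QuotientGroup.mk' Kn ⟨e, hCS (hVC heV)⟩ ≠ 1 := fun hh =>
    heK ((QuotientGroup.eq_one_iff (N := Kn) (⟨e, hCS (hVC heV)⟩ : (s.S : Subgroup G))).1 hh)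
  apply hφe
  rw [← transfer_unique (QuotientGroup.mk' Kn) hee (hCS (hVC heV)) C (s.S.isPGroup'.to_le hCS) hCe hCS ?_]
  · exact hom_trivial s.h.nonab _ e
  -- no other conjugate of `C` lies in `S`
  intro g hg
  have hCne : C ≠ ⊥ := fun hb => he1 (by
    have := hVC heV
    rwa [hb, Subgroup.mem_bot] at this)
  have hCn : Subgroup.normalizer (C : Set G) = (s.S : Subgroup G) :=
    s.h.normalizer_eq hCne hCS (hPS.ge.trans inf_le_right)
  set R := cjg g⁻¹ C with hR
  have hRS : R ≤ (s.S : Subgroup G) := fun x hx => by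
    have := hg _ (mem_cjg.1 hx)
    rwa [show g⁻¹ * (g⁻¹⁻¹ * x * g⁻¹) * g = x by group] at this
  by_cases hRC : R = C
  · have := mem_normalizer_of_cjg hRC
    rw [hCn] at this
    simpa using (s.S : Subgroup G).inv_mem this
  exfalso
  set σ := g⁻¹ * e * g with hσ
  have hσR : ∀ r ∈ R, r * σ = σ * r := by
    intro r hr
    have h1 := hCe _ (mem_cjg.1 hr)
    rw [hσ]
    calc r * (g⁻¹ * e * g) = g⁻¹ * ((g⁻¹⁻¹ * r * g⁻¹) * e) * g := by group
      _ = g⁻¹ * (e * (g⁻¹⁻¹ * r * g⁻¹)) * g := by rw [h1]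
      _ = _ := by group
  have hσS : σ ∈ (s.S : Subgroup G) := hg e (hVC heV)
  have hσσ : σ * σ = 1 := by
    rw [hσ, show g⁻¹ * e * g * (g⁻¹ * e * g) = g⁻¹ * (e * e) * g by group, hee]; group
  have hRC32 : 32 ≤ Nat.card ↥(R ⊓ C) := by
    have h1 := Product.card_mul_card_le R C
    rw [hR, card_cjg, hC64, ← hR] at h1
    have h2 : Nat.card ↥(R ⊔ C) ≤ 128 := by
      have := Subgroup.card_le_of_le (sup_le hRS hCS)
      rwa [s.h.card] at this
    nlinarith
  have hσcase : σ ∈ C → False := by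
    intro hσC
    by_cases hσZ : σ ∈ s.V ⊓ F.sw.E
    · rcases hZform σ hσZ with h1 | h1 | h1 | h1
      · exact he1 (by
          have := congrArg (fun t => g * t * g⁻¹) h1
          simpa [hσ, mul_assoc] using this)
      · refine hRC (Subgroup.eq_of_le_of_card_ge (fun r hr => ?_) (by rw [hR, card_cjg]))
        exact Subgroup.mem_inf.2 ⟨hRS hr, Subgroup.mem_centralizer_singleton_iff.2 (h1 ▸ hσR r hr)⟩
      · exact F.not_conj_z (g := g⁻¹) he1 heV heD (by rw [inv_inv, ← hwz, ← h1, hσ])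
      · refine hRC (Subgroup.eq_of_le_of_card_ge (fun r hr => ?_) (by rw [hR, card_cjg]))
        refine Subgroup.mem_inf.2 ⟨hRS hr, Subgroup.mem_centralizer_singleton_iff.2 ?_⟩
        have h2 : Commute r σ := hσR r hr
        rw [h1] at h2
        have h3 : Commute r F.w := hwz ▸ s.hz r (hRS hr)
        have h4 := h3.mul_right h2
        rw [← mul_assoc, F.w_sq, one_mul] at h4
        exact h4
    · obtain ⟨t, htC, ht⟩ := hclass σ hσC hσσ hσZ
      have hV8' : Nat.card ↥(R ⊓ C) ≤ 8 := by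
        have hD8 : Nat.card s.D = 8 := by rw [F.card_D.1, h2]
        rw [← hD8]
        -- after conjugation by `t` the centraliser of `w'` or of its image under `h` is met
        have hcr : ∀ r : ↥(R ⊓ C), t * (r : G) * t⁻¹ ∈ C := fun r =>
          mul_mem (mul_mem htC r.2.2) (inv_mem htC)
        have hcomm : ∀ r : ↥(R ⊓ C), Commute (t * (r : G) * t⁻¹) (t * σ * t⁻¹) := fun r => by
          have h3 := hσR r r.2.1
          show t * (r : G) * t⁻¹ * (t * σ * t⁻¹) = t * σ * t⁻¹ * (t * (r : G) * t⁻¹)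
          calc t * (r : G) * t⁻¹ * (t * σ * t⁻¹) = t * ((r : G) * σ) * t⁻¹ := by group
            _ = t * (σ * r) * t⁻¹ := by rw [h3]
            _ = _ := by group
        have hor : (∀ r : ↥(R ⊓ C), Commute (t * (r : G) * t⁻¹) F.w') ∨
            (∀ r : ↥(R ⊓ C), Commute (t * (r : G) * t⁻¹) a) := by
          rcases ht with ht | ht | ht | ht <;> rw [ht] at hcomm
          · exact Or.inl hcomm
          · refine Or.inl fun r => ?_
            have h6 := (hcomm r).mul_right (show Commute (t * (r : G) * t⁻¹) e from hCe _ (hcr r))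
            rwa [mul_assoc F.w' e e, hee, mul_one] at h6
          · exact Or.inr hcomm
          · refine Or.inr fun r => ?_
            have h6 := (hcomm r).mul_right (show Commute (t * (r : G) * t⁻¹) e from hCe _ (hcr r))
            rwa [mul_assoc a e e, hee, mul_one] at h6
        rcases hor with h7 | h7
        · refine Nat.card_le_card_of_injective
            (fun r => ⟨t * (r : G) * t⁻¹, hcentC _ (hcr r) (h7 r).eq⟩) ?_
          intro r r' hrr
          refine Subtype.ext ?_
          have := congrArg (fun v : s.D => t⁻¹ * (v : G) * t) hrr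
          simpa [mul_assoc] using this
        · refine Nat.card_le_card_of_injective
            (fun r => ⟨h⁻¹ * (t * (r : G) * t⁻¹) * h, hcentC _ (hconjC' _ (hcr r)) ?_⟩) ?_
          · calc h⁻¹ * (t * (r : G) * t⁻¹) * h * F.w'
                = h⁻¹ * ((t * (r : G) * t⁻¹) * a) * h := by rw [ha]; group
              _ = h⁻¹ * (a * (t * (r : G) * t⁻¹)) * h := by rw [(h7 r).eq]
              _ = _ := by rw [ha]; group
          · intro r r' hrr
            refine Subtype.ext ?_
            have := congrArg (fun v : s.D => t⁻¹ * (h * (v : G) * h⁻¹) * t) hrr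
            simpa [mul_assoc] using this
      omega
  refine hσcase ?_
  by_contra hσC
  -- otherwise `b` or `b e` is centralised by `σ`
  have heR : e ∉ R ⊓ C := fun hh => hσC
    (Subgroup.mem_inf.2 ⟨hσS, Subgroup.mem_centralizer_singleton_iff.2 (hσR e hh.1).symm⟩)
  have hn : Subgroup.zpowers e ≤ Subgroup.normalizer ((R ⊓ C : Subgroup G) : Set G) := by
    rw [Subgroup.zpowers_le]
    refine Subgroup.centralizer_le_normalizer _ (Subgroup.mem_centralizer_iff.2 fun r hr => ?_)
    exact hCe r hr.2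
  have h1 := card_sup_mul_inf (A := Subgroup.zpowers e) (B := R ⊓ C) hn
  have hinf : Subgroup.zpowers e ⊓ (R ⊓ C) = ⊥ := by
    refine (Subgroup.eq_bot_iff_forall _).2 fun v hv => ?_
    obtain ⟨hv1, hv2⟩ := Subgroup.mem_inf.1 hv
    rw [mem_zpowers_iff_mem_range_orderOf, orderOf_eq_prime (p := 2) (by rw [pow_two, hee]) he1,
      Finset.mem_image] at hv1
    obtain ⟨i, hi, rfl⟩ := hv1
    rw [Finset.mem_range] at hi
    interval_cases i
    · rw [pow_zero]
    · rw [pow_one] at hv2; exact absurd hv2 heR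
  rw [hinf, Subgroup.card_bot, mul_one, Nat.card_zpowers,
    orderOf_eq_prime (p := 2) (by rw [pow_two, hee]) he1] at h1
  have hsup : Subgroup.zpowers e ⊔ (R ⊓ C) = C :=
    Subgroup.eq_of_le_of_card_ge (sup_le (Subgroup.zpowers_le.2 (hVC heV)) inf_le_right) (by omega)
  have hb : F.b ∈ Subgroup.zpowers e ⊔ (R ⊓ C) := hsup.ge hbC
  rw [← SetLike.mem_coe, Subgroup.coe_mul_of_left_le_normalizer_right _ _ hn] at hb
  obtain ⟨i, hi, r, hr, hir⟩ := Set.mem_mul.1 hb
  have hrr : r = F.b ∨ r = e * F.b := by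
    rw [SetLike.mem_coe, mem_zpowers_iff_mem_range_orderOf, orderOf_eq_prime (p := 2) (by rw [pow_two, hee]) he1,
      Finset.mem_image] at hi
    obtain ⟨n, hn', rfl⟩ := hi
    rw [Finset.mem_range] at hn'
    interval_cases n
    · exact Or.inl (by rw [← hir, pow_zero, one_mul])
    · exact Or.inr (by rw [← hir, pow_one, ← mul_assoc, hee, one_mul])
  have hbnZ : ∀ r, (r = F.b ∨ r = e * F.b) → r ∉ s.V ⊓ F.sw.E := by
    rintro r (rfl | rfl) hh
    · exact F.hbD (s.V_le_D hh.1)
    · refine F.hbD (s.V_le_D ?_)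
      have := mul_mem heV hh.1
      rwa [← mul_assoc, hee, one_mul] at this
  have hrsq : r * r = 1 := by
    rcases hrr with rfl | rfl
    · exact F.b_sq
    · rw [show e * F.b * (e * F.b) = e * (F.b * e) * F.b by group, hCe F.b hbC, ← mul_assoc, hee,
        one_mul, F.b_sq]
  exact hσC (hL1 r hr.2 hrsq (hbnZ r hrr) σ (hPS.ge hσS) (hσR r hr.1).symm)

end IFrame

end Cfsg.Agent.LenEight
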