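import Cfsg.Agent.Lib.LenEight.IFacts
import Cfsg.Agent.Lib.LenEight.KillTwo

/-!
The complement of order four is impossible.
-/

set_option autoImplicit false
set_option linter.style.haveILetI false
set_option linter.unusedSectionVars false
set_option linter.unusedVariables false

namespace Cfsg.Agent.LenEight

open Cfsg.Agent

universe u

variable {G : Type u} [Group G] [Finite G] [IsSimpleGroup G] {s : Setting G}

/-- The transfer of a 2-element whose fixed cosets all take its own value. -/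
theorem transfer_const {N : Type u} [Group N] [Finite N] {A : Type*} [CommGroup A] {H : Subgroup N}
    (φ : H →* A) (u : N) (huH : u ∈ H) (hidx : ¬ 2 ∣ H.index) (hu : IsPGroup 2 (Subgroup.zpowers u))
    (hlow : ∀ (k : ℕ) (g : N) (h : g⁻¹ * u ^ k * g ∈ H), 1 < k → k ∣ orderOf u → φ ⟨_, h⟩ = 1)
    (hval : ∀ (g : N) (h : g⁻¹ * u * g ∈ H), φ ⟨_, h⟩ = φ ⟨u, huH⟩)
    (h2 : φ ⟨u, huH⟩ * φ ⟨u, huH⟩ = 1) :
    MonoidHom.transfer φ u = φ ⟨u, huH⟩ := by
  classical
  haveI : Fact (Nat.Prime 2) := ⟨Nat.prime_two⟩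
  haveI := Fintype.ofFinite (N ⧸ H)
  rw [EngelTransfer.transfer_eq_prod φ u hlow]
  set a := φ ⟨u, huH⟩ with ha
  set F := MulAction.fixedPoints (Subgroup.zpowers u) (N ⧸ H) with hF
  have hfix : ∀ g : N, g⁻¹ * u * g ∈ H ↔ (QuotientGroup.mk g : N ⧸ H) ∈ F := by
    intro g
    constructor
    · intro hg v
      obtain ⟨n, hn⟩ := Subgroup.mem_zpowers_iff.1 v.2
      show QuotientGroup.mk ((v : N) * g) = (QuotientGroup.mk g : N ⧸ H)
      rw [QuotientGroup.eq, ← hn]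
      have := H.inv_mem (H.zpow_mem hg n)
      rw [show (g⁻¹ * u * g) = g⁻¹ * u * g⁻¹⁻¹ by group, conj_zpow] at this
      convert this using 1
      group
    · intro hg
      have h1 := hg ⟨u, Subgroup.mem_zpowers u⟩
      change QuotientGroup.mk (u * g) = (QuotientGroup.mk g : N ⧸ H) at h1
      rw [QuotientGroup.eq] at h1
      have h2 := H.inv_mem h1
      rwa [show ((u * g)⁻¹ * g)⁻¹ = g⁻¹ * u * g by group] at h2
  have hvals : ∀ c : N ⧸ H, EngelTransfer.val φ u c = if c ∈ F then a else 1 := by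
    intro c
    obtain ⟨g, rfl⟩ := QuotientGroup.mk_surjective c
    by_cases hg : g⁻¹ * u * g ∈ H
    · rw [EngelTransfer.val_mk φ u g hg, if_pos ((hfix g).1 hg), hval g hg]
    · rw [EngelTransfer.val_mk_not φ u g hg, if_neg fun h => hg ((hfix g).2 h)]
  rw [Finset.prod_congr rfl fun c _ => hvals c, Finset.prod_ite, Finset.prod_const_one, mul_one,
    Finset.prod_const]
  have hmod := hu.card_modEq_card_fixedPoints (N ⧸ H)
  have hc : Nat.card F = (Finset.univ.filter fun c : N ⧸ H => c ∈ F).card := by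
    rw [Nat.card_eq_fintype_card, Fintype.card_subtype]
  rw [← Subgroup.index, ← hF, hc] at hmod
  have hodd : (Finset.univ.filter fun c : N ⧸ H => c ∈ F).card % 2 = 1 := by
    unfold Nat.ModEq at hmod; omega
  have key : ∀ n : ℕ, n % 2 = 1 → a ^ n = a := fun n hn => by
    rw [← Nat.div_add_mod n 2, hn, pow_succ, pow_mul, pow_two, h2, one_pow, one_mul]
  exact key _ hodd

namespace IFrame

theorem card_U_eq (F : IFrame s) : Nat.card F.U = 2 * Nat.card s.T := by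
  haveI : Fact (Nat.Prime 2) := ⟨Nat.prime_two⟩
  have hT_lt : s.T < F.U := lt_of_le_of_ne F.T_le_U fun h => F.sw.hgT (h ▸ F.g_mem_U)
  have h1 := F.card_U
  obtain ⟨j, hj⟩ := IsPGroup.iff_card.1 (s.S.isPGroup'.to_le F.U_le_S)
  have h2 : Nat.card s.T < Nat.card F.U :=
    Set.ncard_lt_ncard (SetLike.coe_ssubset_coe.2 hT_lt) (Set.toFinite _)
  rw [s.hTc, hj] at h1 h2
  rw [s.hTc, hj]
  have hlt := (Nat.pow_lt_pow_iff_right (by norm_num : 1 < 2)).1 h2
  rw [← pow_succ'] at h1 ⊢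
  have hle := (Nat.pow_le_pow_iff_right (by norm_num : 1 < 2)).1 h1
  rw [show j = s.k + 1 by omega]

/-- The centraliser of `w'` in `T⟨g⟩` is `D`. -/
theorem mem_D_of_comm (F : IFrame s) {c : G} (hc : c ∈ F.U) (hcw : c * F.w' = F.w' * c) : c ∈ s.D := by
  have hcT : c ∈ s.T := by
    by_contra h
    exact F.swap_not_comm hc h hcw
  by_contra hcD
  have hcb : c * F.b ∈ s.D := (F.sh.mul_mem_D hcT F.b_mem_T).2 (iff_of_false hcD F.hbD)
  have hdw := s.V_comm hcb (mul_mem F.w_V F.w'_V)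
  have h9 : c * F.w' = F.w * F.w' * c := by
    calc c * F.w' = c * (F.b * F.b) * F.w' * (F.b * F.b) := by rw [F.b_sq]; group
      _ = c * F.b * (F.b * F.w' * F.b) * F.b := by group
      _ = (F.w * F.w') * (c * F.b) * F.b := by rw [F.b_w', hdw]
      _ = _ := by rw [mul_assoc, mul_assoc c, F.b_sq, mul_one]
  rw [hcw] at h9
  exact F.w_ne (mul_right_cancel ((mul_right_cancel h9).symm.trans (one_mul F.w').symm))

/-- The cyclic complement, after the swap has been normalised. -/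
theorem not_cyclic_four_aux (F : IFrame s) {e h : G} (he1 : e ≠ 1) (heD : e ∈ F.D₀) (heV : e ∈ s.V)
    (hhS : h ∈ (s.S : Subgroup G)) (hgh : F.sw.g = h * F.w' * h⁻¹)
    (hUC : F.U = (s.S : Subgroup G) ⊓ Subgroup.centralizer ({e} : Set G))
    (hU64 : Nat.card F.U = 64) (hwz : F.w = s.z) (he' : h * e * h⁻¹ = F.w * e)
    (hhU : ∀ c ∈ F.U, h * c * h⁻¹ ∈ F.U ∧ h⁻¹ * c * h ∈ F.U)
    {f : G} (hfD : f ∈ s.D) (hff : f * f = e) (hfb : f * F.b = F.b * f)
    (hgf : F.sw.g * f * F.sw.g = F.w * f)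
    (hZform : ∀ v ∈ s.V ⊓ F.sw.E, v = 1 ∨ v = e ∨ v = F.w ∨ v = F.w * e) : False := by
  classical
  haveI : Fact (Nat.Prime 2) := ⟨Nat.prime_two⟩
  have hee : e * e = 1 := s.V_sq e heV
  have hwe : F.w ≠ e := fun hh => F.w_not_D₀ (hh ▸ heD)
  have heZ := F.D₀_mem_Z heV heD
  have hT32 : Nat.card s.T = 32 := by have := F.card_U_eq; omega
  have hV16 : Nat.card s.V = 8 := by
    have h1 := F.card_VE
    have h2 : Nat.card ↥(s.V ⊓ F.sw.E) = 4 := by
      have hset : ((s.V ⊓ F.sw.E : Subgroup G) : Set G) = {1, e, F.w, F.w * e} := by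
        ext v
        simp only [SetLike.mem_coe, Set.mem_insert_iff, Set.mem_singleton_iff]
        refine ⟨hZform v, ?_⟩
        rintro (rfl | rfl | rfl | rfl)
        exacts [one_mem _, heZ, F.w_mem_Z, mul_mem F.w_mem_Z heZ]
      have hne : F.w * e ≠ 1 := fun hh => hwe (by
        rw [← inv_eq_of_mul_eq_one_right hh, inv_eq_of_mul_eq_one_right F.w_sq])
      rw [← SetLike.coe_sort_coe, Nat.card_coe_set_eq, hset, Set.ncard_insert_of_notMem,
        Set.ncard_insert_of_notMem, Set.ncard_pair] <;>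
      simp [hne.symm, Ne.symm he1, Ne.symm F.w_ne, Ne.symm hwe, F.w_ne, he1]
    omega
  -- the dihedral group of order eight
  set K₀ := F.W ⊔ Subgroup.zpowers F.b with hK₀
  have hbW : ∀ v ∈ F.W, F.b * v * F.b⁻¹ ∈ F.W := fun v hv => by rw [F.b_inv]; exact F.b_W hv
  have hWn : Subgroup.zpowers F.b ≤ Subgroup.normalizer (F.W : Set G) := by
    rw [Subgroup.zpowers_le, Subgroup.mem_normalizer_iff]
    refine fun v => ⟨fun hv => hbW v hv, fun hv => ?_⟩
    have := F.b_W hv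
    rwa [F.b_inv, show F.b * (F.b * v * F.b) * F.b = (F.b * F.b) * v * (F.b * F.b) by group, F.b_sq,
      one_mul, mul_one] at this
  have hK₀form : ∀ k ∈ K₀, ∃ ω ∈ F.W, k = ω ∨ k = ω * F.b := by
    intro k hk
    rw [hK₀, ← SetLike.mem_coe, Subgroup.coe_mul_of_right_le_normalizer_left _ _ hWn] at hk
    obtain ⟨ω, hω, q, hq, rfl⟩ := Set.mem_mul.1 hk
    refine ⟨ω, hω, ?_⟩
    rw [SetLike.mem_coe, mem_zpowers_iff_mem_range_orderOf, Finset.mem_image] at hq
    obtain ⟨i, -, rfl⟩ := hq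
    rcases Nat.even_or_odd' i with ⟨l, hl | hl⟩ <;> rw [hl]
    · left; rw [pow_mul, pow_two, F.b_sq, one_pow, mul_one]
    · right; rw [pow_succ, pow_mul, pow_two, F.b_sq, one_pow, one_mul]
  have hWK : F.W ≤ K₀ := le_sup_left
  have hbK : F.b ∈ K₀ := Subgroup.mem_sup_right (Subgroup.mem_zpowers _)
  have hK₀T : K₀ ≤ s.T :=
    sup_le (F.W_le_V.trans s.V_le_T) (Subgroup.zpowers_le.2 F.b_mem_T)
  have heK : e ∉ K₀ := by
    intro hh
    obtain ⟨ω, hω, h1 | h1⟩ := hK₀form e hh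
    · exact he1 (F.W_inf e (h1 ▸ hω) heD)
    · refine F.hbD ?_
      rw [show F.b = ω⁻¹ * e by rw [h1]; group]
      exact s.V_le_D (mul_mem (inv_mem (F.W_le_V hω)) heV)
  have hgw : F.sw.g * F.w * F.sw.g = F.w := by
    rw [F.g_fix F.w F.w_mem_Z, mul_assoc, F.g_sq, mul_one]
  have hgw' : F.sw.g * F.w' * F.sw.g = F.b := F.b_eq.symm
  have hgb : F.sw.g * F.b * F.sw.g = F.w' := by
    rw [F.b_eq, show F.sw.g * (F.sw.g * F.toFrame.w' * F.sw.g) * F.sw.g = (F.sw.g * F.sw.g) * F.w' * (F.sw.g * F.sw.g) by group,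
      F.g_sq, one_mul, mul_one]
  have hgK : ∀ k ∈ K₀, F.sw.g * k * F.sw.g ∈ K₀ := by
    have hle : K₀ ≤ K₀.comap (MulAut.conj F.sw.g).toMonoidHom := by
      refine sup_le (fun v hv => ?_) (Subgroup.zpowers_le.2 ?_)
      · rw [Subgroup.mem_comap]
        show F.sw.g * v * F.sw.g⁻¹ ∈ K₀
        rw [F.g_inv]
        rcases F.W_cases hv with rfl | rfl | rfl | rfl
        · rw [mul_one, F.g_sq]; exact one_mem _
        · rw [hgw]; exact hWK F.w_W
        · rw [hgw']; exact hbK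
        · rw [show F.sw.g * (F.w * F.w') * F.sw.g = (F.sw.g * F.w * F.sw.g) * (F.sw.g⁻¹ * F.w' * F.sw.g) by group,
            F.g_inv, hgw, hgw']
          exact mul_mem (hWK F.w_W) hbK
      · show F.sw.g * F.b * F.sw.g⁻¹ ∈ K₀
        rw [F.g_inv, hgb]; exact hWK F.w'_W
    intro k hk
    have := hle hk
    rw [Subgroup.mem_comap] at this
    change F.sw.g * k * F.sw.g⁻¹ ∈ K₀ at this
    rwa [F.g_inv] at this
  -- products `k^g k`
  have hgkk : ∀ k ∈ K₀, F.sw.g * k * F.sw.g * k ≠ F.w := by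
    intro k hk hh
    obtain ⟨ω, hω, h1 | h1⟩ := hK₀form k hk <;> subst h1
    · rcases F.W_cases hω with rfl | rfl | rfl | rfl
      · exact F.w_ne (by rw [← hh, mul_one, mul_one, F.g_sq])
      · rw [hgw, F.w_sq] at hh
        exact F.w_ne hh.symm
      · rw [hgw'] at hh
        refine F.hbD ?_
        rw [show F.b = F.w * F.w' by rw [← hh, mul_assoc, F.w'_sq, mul_one]]
        exact mul_mem F.w_D F.w'_D
      · rw [show F.sw.g * (F.w * F.w') * F.sw.g = (F.sw.g * F.w * F.sw.g) * (F.sw.g⁻¹ * F.w' * F.sw.g) by group,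
          F.g_inv, hgw, hgw'] at hh
        refine F.hbD ?_
        have h2 : F.b * (F.w * F.w') = 1 := mul_left_cancel (a := F.w) (by rw [mul_one, ← mul_assoc]; exact hh)
        rw [eq_inv_of_mul_eq_one_left h2]
        exact inv_mem (mul_mem F.w_D F.w'_D)
    · have hgωb : F.sw.g * (ω * F.b) * F.sw.g = (F.sw.g * ω * F.sw.g) * F.w' := by
        rw [← hgb]
        calc F.sw.g * (ω * F.b) * F.sw.g = F.sw.g * ω * (F.sw.g * F.sw.g) * F.b * F.sw.g := by
              rw [F.g_sq]; group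
          _ = _ := by group
      rw [hgωb] at hh
      have hgD : ∀ v ∈ F.W, F.sw.g * v * F.sw.g = v ∨ (F.sw.g * v * F.sw.g) * F.b ∈ s.D := by
        intro v hv
        rcases F.W_cases hv with rfl | rfl | rfl | rfl
        · left; rw [mul_one, F.g_sq]
        · left; exact hgw
        · right; rw [hgw', F.b_sq]; exact one_mem _
        · right
          rw [show F.sw.g * (F.w * F.w') * F.sw.g = (F.sw.g * F.w * F.sw.g) * (F.sw.g⁻¹ * F.w' * F.sw.g) by group,
            F.g_inv, hgw, hgw', mul_assoc, F.b_sq, mul_one]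
          exact F.w_D
      rcases hgD ω hω with h2 | h2
      · rw [h2] at hh
        refine F.hbD ?_
        rw [show F.b = (ω * F.w' * ω)⁻¹ * F.w by rw [← hh]; group]
        exact mul_mem (inv_mem (mul_mem (mul_mem (s.V_le_D (F.W_le_V hω)) F.w'_D) (s.V_le_D (F.W_le_V hω)))) F.w_D
      · -- both sides lie outside `D`, the product inside; reduce to `b ω b = w ω`
        rcases F.W_cases hω with rfl | rfl | rfl | rfl
        · rw [mul_one, F.g_sq] at h2
          rw [one_mul] at h2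
          exact F.hbD h2
        · rw [hgw] at h2
          exact F.hbD (by simpa using mul_mem (inv_mem F.w_D) h2)
        · rw [hgw', show F.b * F.w' * (F.w' * F.b) = F.b * (F.w' * F.w') * F.b by group, F.w'_sq, mul_one,
            F.b_sq] at hh
          exact F.w_ne hh.symm
        · rw [show F.sw.g * (F.w * F.w') * F.sw.g = (F.sw.g * F.w * F.sw.g) * (F.sw.g⁻¹ * F.w' * F.sw.g) by group,
            F.g_inv, hgw, hgw'] at hh
          have e1 : F.w * F.b * F.w' * (F.w * F.w' * F.b) = 1 := by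
            calc F.w * F.b * F.w' * (F.w * F.w' * F.b)
                = F.w * F.b * (F.w' * F.w) * F.w' * F.b := by group
              _ = F.w * F.b * (F.w * F.w') * F.w' * F.b := by rw [comm_of_exp_two s.V_sq F.w'_V F.w_V]
              _ = (F.w * F.b * F.w) * (F.w' * F.w') * F.b := by group
              _ = 1 := by
                rw [F.w'_sq, mul_one, F.w_comm_b, mul_assoc F.b, F.w_sq, mul_one, F.b_sq]
          rw [e1] at hh
          exact F.w_ne hh.symm
  -- the subgroup `T₀ = K₀ × ⟨e⟩`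
  have hTe : ∀ t ∈ s.T, t * e = e * t := fun t ht => F.central_T heZ.1 heZ.2 ht
  set T₀ := K₀ ⊔ Subgroup.zpowers e with hT₀
  have hKe : K₀ ≤ Subgroup.normalizer (Subgroup.zpowers e : Set G) := fun k hk =>
    Subgroup.centralizer_le_normalizer _ (Subgroup.mem_centralizer_iff.2 fun x hx => by
      obtain ⟨i, rfl⟩ := Subgroup.mem_zpowers_iff.1 hx
      exact ((show Commute k e from hTe k (hK₀T hk)).zpow_right i).eq.symm)
  have hoe : orderOf e = 2 := orderOf_eq_prime (by rw [pow_two, hee]) he1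
  have hT₀form : ∀ t ∈ T₀, ∃ k ∈ K₀, t = k ∨ t = k * e := by
    intro t ht
    rw [hT₀, ← SetLike.mem_coe, Subgroup.coe_mul_of_left_le_normalizer_right _ _ hKe] at ht
    obtain ⟨k, hk, q, hq, rfl⟩ := Set.mem_mul.1 ht
    refine ⟨k, hk, ?_⟩
    rw [SetLike.mem_coe, mem_zpowers_iff_mem_range_orderOf, hoe, Finset.mem_image] at hq
    obtain ⟨i, hi, rfl⟩ := hq
    rw [Finset.mem_range] at hi
    interval_cases i
    · left; rw [pow_zero, mul_one]
    · right; rw [pow_one]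
  have hT₀T : T₀ ≤ s.T := sup_le hK₀T (Subgroup.zpowers_le.2 (s.V_le_T heV))
  have heT₀ : e ∈ T₀ := Subgroup.mem_sup_right (Subgroup.mem_zpowers _)
  have hKT₀ : K₀ ≤ T₀ := le_sup_left
  have hVT₀ : s.V ≤ T₀ := by
    intro v hv
    have h4 : ∀ u ∈ s.V ⊓ F.sw.E, u ∈ T₀ := fun u hu => by
      rcases hZform u hu with rfl | rfl | rfl | rfl
      exacts [one_mem _, heT₀, hKT₀ (hWK F.w_W), mul_mem (hKT₀ (hWK F.w_W)) heT₀]
    by_cases hvE : v ∈ F.sw.E
    · exact h4 v ⟨hv, hvE⟩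
    · have := h4 _ ⟨mul_mem F.w'_V hv, (F.sw.inf_mem_iff F.sh F.w'_D (s.V_le_D hv)).2
        (iff_of_false F.w'_not_E hvE)⟩
      rw [show v = (F.w' * F.w') * v by rw [F.w'_sq, one_mul], mul_assoc]
      exact mul_mem (hKT₀ (hWK F.w'_W)) this
  have hT₀sq : ∀ t ∈ T₀, t * t ≠ e := by
    intro t ht hte
    obtain ⟨k, hk, h1 | h1⟩ := hT₀form t ht
    · exact heK (hte ▸ h1 ▸ mul_mem hk hk)
    · refine heK ?_
      rw [← hte, h1, show k * e * (k * e) = k * (e * k) * e by group, ← hTe k (hK₀T hk), ← mul_assoc,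
        mul_assoc _ e e, hee, mul_one]
      exact mul_mem hk hk
  have hfT₀ : f ∉ T₀ := fun hh => hT₀sq f hh hff
  have hidx : (T₀.subgroupOf s.T).index = 2 := by
    have hcK : Nat.card K₀ = 8 := by
      have h1 := card_sup_mul_inf (A := Subgroup.zpowers F.b) (B := F.W) hWn
      have hinf : Subgroup.zpowers F.b ⊓ F.W = ⊥ := by
        refine (Subgroup.eq_bot_iff_forall _).2 fun v hv => ?_
        obtain ⟨hv1, hv2⟩ := Subgroup.mem_inf.1 hv
        rw [mem_zpowers_iff_mem_range_orderOf, Finset.mem_image] at hv1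
        obtain ⟨i, -, rfl⟩ := hv1
        rcases Nat.even_or_odd' i with ⟨l, hl | hl⟩ <;> rw [hl] at hv2 ⊢
        · rw [pow_mul, pow_two, F.b_sq, one_pow]
        · rw [pow_succ, pow_mul, pow_two, F.b_sq, one_pow, one_mul] at hv2
          exact absurd (s.V_le_D (F.W_le_V hv2)) F.hbD
      rw [sup_comm, ← hK₀, hinf, Subgroup.card_bot, mul_one, F.card_W, Nat.card_zpowers,
        orderOf_eq_prime (p := 2) (by rw [pow_two, F.b_sq]) (fun hh => F.hbD (by rw [hh]; exact one_mem _))] at h1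
      omega
    have h1 := card_sup_mul_inf (A := K₀) (B := Subgroup.zpowers e) hKe
    have hinf : K₀ ⊓ Subgroup.zpowers e = ⊥ := by
      refine (Subgroup.eq_bot_iff_forall _).2 fun v hv => ?_
      obtain ⟨hv2, hv1⟩ := Subgroup.mem_inf.1 hv
      rw [mem_zpowers_iff_mem_range_orderOf, hoe, Finset.mem_image] at hv1
      obtain ⟨i, hi, rfl⟩ := hv1
      rw [Finset.mem_range] at hi
      interval_cases i
      · rw [pow_zero]
      · rw [pow_one] at hv2; exact absurd hv2 heK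
    rw [← hT₀, hinf, Subgroup.card_bot, mul_one, hcK, Nat.card_zpowers, hoe] at h1
    have h2 := (T₀.subgroupOf s.T).card_mul_index
    rw [Nat.card_congr (Subgroup.subgroupOfEquivOfLe hT₀T).toEquiv, h1, hT32] at h2
    omega
  have hTsplit : ∀ t ∈ s.T, t ∈ T₀ ∨ t * f⁻¹ ∈ T₀ := by
    intro t ht
    by_cases htT₀ : t ∈ T₀
    · exact Or.inl htT₀
    · right
      have hfi : f⁻¹ ∉ T₀ := fun hh => hfT₀ (by simpa using inv_mem hh)
      have := Subgroup.mul_mem_iff_of_index_two hidx (a := ⟨t, ht⟩) (b := ⟨f⁻¹, inv_mem (s.D_le_T hfD)⟩)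
      exact this.2 (iff_of_false htT₀ hfi)
  have hT₀n : s.T ≤ Subgroup.normalizer (T₀ : Set G) :=
    (Subgroup.normal_subgroupOf_iff_le_normalizer hT₀T).1 (Subgroup.normal_of_index_eq_two hidx)
  have hfK : ∀ k ∈ T₀, f * k = k * f := by
    intro k hk
    have hle : T₀ ≤ Subgroup.centralizer ({f} : Set G) := sup_le
      (sup_le (fun v hv => Subgroup.mem_centralizer_singleton_iff.2 (s.V_comm hfD (F.W_le_V hv)).symm)
        (Subgroup.zpowers_le.2 (Subgroup.mem_centralizer_singleton_iff.2 hfb.symm)))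
      (Subgroup.zpowers_le.2 (Subgroup.mem_centralizer_singleton_iff.2 (s.V_comm hfD heV).symm))
    exact (Subgroup.mem_centralizer_singleton_iff.1 (hle hk)).symm
  have hge : F.sw.g * e * F.sw.g = e := by rw [F.g_fix e heZ, mul_assoc, F.g_sq, mul_one]
  have hgT₀ : ∀ t ∈ T₀, F.sw.g * t * F.sw.g ∈ T₀ := by
    intro t ht
    obtain ⟨k, hk, h1 | h1⟩ := hT₀form t ht <;> rw [h1]
    · exact hKT₀ (hgK k hk)
    · rw [show F.sw.g * (k * e) * F.sw.g = (F.sw.g * k * F.sw.g) * (F.sw.g⁻¹ * e * F.sw.g) by group,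
        F.g_inv, hge]
      exact mul_mem (hKT₀ (hgK k hk)) heT₀
  have hUform : ∀ x ∈ F.U, x ∈ s.T ∨ F.sw.g * x ∈ s.T := by
    intro x hx
    rcases hx with hx | hx
    · exact Or.inl hx
    · right
      have := (Subgroup.mem_normalizer_iff.1 F.sw.hgN _).1 hx
      rwa [F.g_inv, show F.sw.g * (x * F.sw.g) * F.sw.g = F.sw.g * x * (F.sw.g * F.sw.g) by group, F.g_sq,
        mul_one] at this
  have hswap : ∀ x, F.sw.g * (F.sw.g * x) = x := fun x => by rw [← mul_assoc, F.g_sq, one_mul]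
  -- squares
  have hfsq : ∀ t ∈ T₀, (t * f) * (t * f) = t * t * e := fun t ht => by
    rw [← hff]
    calc t * f * (t * f) = t * (f * t) * f := by group
      _ = _ := by rw [hfK t ht]; group
  have hgsq : ∀ k ∈ K₀, ∀ c : G, (c = 1 ∨ c = e) →
      (F.sw.g * (k * c)) * (F.sw.g * (k * c)) = F.sw.g * k * F.sw.g * k := by
    intro k hk c hc
    rcases hc with hc | hc <;> rw [hc]
    · rw [mul_one]; group
    · calc F.sw.g * (k * e) * (F.sw.g * (k * e)) = F.sw.g * k * (e * F.sw.g) * (k * e) := by group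
        _ = F.sw.g * k * F.sw.g * (e * (k * e)) := by rw [← F.g_fix e heZ]; group
        _ = _ := by rw [← mul_assoc e k, ← hTe k (hK₀T hk), mul_assoc k e e, hee, mul_one]
  have hgfsq : ∀ k ∈ K₀, ∀ c : G, (c = 1 ∨ c = e) →
      (F.sw.g * (k * c * f)) * (F.sw.g * (k * c * f)) = (F.sw.g * k * F.sw.g * k) * (F.w * e) := by
    intro k hk c hc
    have hkc : k * c ∈ T₀ := mul_mem (hKT₀ hk) (by rcases hc with hc | hc <;> rw [hc]; exacts [one_mem _, heT₀])
    have hwf : f * F.w = F.w * f := s.V_comm hfD F.w_V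
    have hwT : ∀ u ∈ T₀, u * F.w = F.w * u := fun u hu => F.central_T F.w_V F.w_E (hT₀T hu)
    have hgf' : f * F.sw.g = F.sw.g * (F.w * f) := by
      rw [← hgf, ← mul_assoc, ← mul_assoc, F.g_sq, one_mul]
    calc F.sw.g * (k * c * f) * (F.sw.g * (k * c * f))
        = F.sw.g * (k * c) * (f * F.sw.g) * (k * c) * f := by group
      _ = F.sw.g * (k * c) * F.sw.g * F.w * (f * (k * c)) * f := by rw [hgf']; group
      _ = F.sw.g * (k * c) * F.sw.g * (F.w * (k * c)) * (f * f) := by rw [hfK _ hkc]; group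
      _ = F.sw.g * (k * c) * F.sw.g * ((k * c) * F.w) * e := by rw [hwT _ hkc, hff]
      _ = (F.sw.g * (k * c) * (F.sw.g * (k * c))) * (F.w * e) := by group
      _ = _ := by rw [hgsq k hk c hc]
  have hcase : ∀ t ∈ T₀, ∃ k ∈ K₀, ∃ c, (c = 1 ∨ c = e) ∧ t = k * c := by
    intro t ht
    obtain ⟨k, hk, h1 | h1⟩ := hT₀form t ht
    · exact ⟨k, hk, 1, Or.inl rfl, by rw [mul_one, h1]⟩
    · exact ⟨k, hk, e, Or.inr rfl, h1⟩
  have hroot : ∀ x ∈ F.U, x * x = e → x * f⁻¹ ∈ T₀ := by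
    intro x hx hxe
    rcases hUform x hx with hxT | hxT
    · rcases hTsplit x hxT with h1 | h1
      · exact absurd hxe (hT₀sq x h1)
      · exact h1
    · exfalso
      rcases hTsplit _ hxT with h1 | h1
      · obtain ⟨k, hk, c, hc, hkc⟩ := hcase _ h1
        rw [← hswap x, hkc, hgsq k hk c hc] at hxe
        exact heK (hxe ▸ mul_mem (hgK k hk) hk)
      · obtain ⟨k, hk, c, hc, hkc⟩ := hcase _ h1
        have hx' : x = F.sw.g * (k * c * f) := by
          rw [← hkc, inv_mul_cancel_right, hswap]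
        rw [hx', hgfsq k hk c hc] at hxe
        refine hgkk k hk ?_
        have h2 : (F.sw.g * k * F.sw.g * k * F.w) * e = 1 * e := by rw [one_mul, mul_assoc]; exact hxe
        rw [eq_inv_of_mul_eq_one_left (mul_right_cancel h2), inv_eq_of_mul_eq_one_right F.w_sq]
  have hinvol : ∀ x ∈ F.U, x * x = 1 → x ∉ s.T → F.sw.g * x ∈ T₀ := by
    intro x hx hxx hxT
    have hgx := (hUform x hx).resolve_left hxT
    rcases hTsplit _ hgx with h1 | h1
    · exact h1
    · exfalso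
      obtain ⟨k, hk, c, hc, hkc⟩ := hcase _ h1
      have hx' : x = F.sw.g * (k * c * f) := by rw [← hkc, inv_mul_cancel_right, hswap]
      rw [hx', hgfsq k hk c hc] at hxx
      refine heK ?_
      rw [← mul_assoc] at hxx
      rw [show e = (F.sw.g * k * F.sw.g * k * F.w)⁻¹ from (inv_eq_of_mul_eq_one_right hxx).symm]
      exact inv_mem (mul_mem (mul_mem (hgK k hk) hk) (hWK F.w_W))
  have hTinvol : ∀ x ∈ s.T, x * x = 1 → x ∈ T₀ := by
    intro x hx hxx
    rcases F.invol_cases hx hxx with h1 | h1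
    · exact hVT₀ h1
    · obtain ⟨v, hv, rfl⟩ := h1
      show F.sw.g * v * F.sw.g⁻¹ ∈ T₀
      rw [F.g_inv]; exact hgT₀ v (hVT₀ hv)
  -- the centraliser of `e` in `G`
  set N := Subgroup.centralizer ({e} : Set G) with hN
  have hMN : s.M ≤ N := fun m hm =>
    Subgroup.mem_centralizer_singleton_iff.2 (F.central_of_mem heV heD hm)
  have hUN : F.U ≤ N := hUC ▸ inf_le_right
  have hNne : N ≠ ⊤ := s.h.centralizer_ne_top he1
  have hgN : F.sw.g ∈ N := hUN F.g_mem_U
  have hUS : ∀ x ∈ N, x ∈ (s.S : Subgroup G) → x ∈ F.U := fun x hxN hxS =>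
    hUC.ge (Subgroup.mem_inf.2 ⟨hxS, hxN⟩)
  have hwconj : ∀ n : G, n * F.w * n⁻¹ ≠ e ∧ n * F.w * n⁻¹ ≠ F.w * e := by
    intro n
    have h1 : ∀ m : G, m * F.w * m⁻¹ ≠ e := fun m hm => by
      refine F.not_conj_z (g := m⁻¹) he1 heV heD ?_
      rw [inv_inv, ← hwz, ← hm]; group
    refine ⟨h1 n, fun hn => h1 (h⁻¹ * n) ?_⟩
    rw [show h⁻¹ * n * F.w * (h⁻¹ * n)⁻¹ = h⁻¹ * (n * F.w * n⁻¹) * h by group, hn, ← he']; group
  -- no conjugate of `g` in `N` lies in `T`
  have hgT : ∀ n ∈ N, n * F.sw.g * n⁻¹ ∉ s.T := by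
    intro n hn hx
    set x := n * F.sw.g * n⁻¹ with hxdef
    have hxx : x * x = 1 := by
      rw [hxdef, show n * F.sw.g * n⁻¹ * (n * F.sw.g * n⁻¹) = n * (F.sw.g * F.sw.g) * n⁻¹ by group, F.g_sq]; group
    have hxw : ∃ m : G, x = m * F.w * m⁻¹ :=
      ⟨n * h * F.sh.y, by rw [hxdef, hgh, Frame.w']; group⟩
    have hV : ∀ v ∈ s.V, (∃ m : G, v = m * F.w * m⁻¹) → ∃ m ∈ N, v = m * F.w * m⁻¹ := by
      rintro v hv ⟨m, hm⟩
      obtain ⟨ω, hω, d, hd, hdV, rfl⟩ := F.V_cases hv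
      have hd' : d = 1 ∨ d = e := by
        rcases hZform d ⟨hdV, F.D₀_le_E hd⟩ with h1 | h1 | h1 | h1
        · exact Or.inl h1
        · exact Or.inr h1
        · exact absurd (h1 ▸ hd) F.w_not_D₀
        · refine absurd ?_ F.w_not_D₀
          have := mul_mem (h1 ▸ hd : F.w * e ∈ F.D₀) heD
          rwa [mul_assoc, hee, mul_one] at this
      have hwW : ∀ ω ∈ F.W, ω ≠ 1 → ∃ m ∈ N, ω = m * F.w * m⁻¹ := by
        intro ω hω h1
        rcases F.W_cases hω with rfl | rfl | rfl | rfl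
        · exact absurd rfl h1
        · exact ⟨1, one_mem _, by group⟩
        · exact ⟨F.sh.y, hMN F.sh.hyM, rfl⟩
        · refine ⟨F.b * F.sh.y, mul_mem (hUN (F.T_le_U F.b_mem_T)) (hMN F.sh.hyM), ?_⟩
          rw [← F.b_w', Frame.w', mul_inv_rev, F.b_inv]; group
      rcases hd' with hd' | hd' <;> rw [hd'] at hm ⊢
      · rw [mul_one] at hm ⊢
        refine hwW ω hω fun h1 => ?_
        rw [h1] at hm
        exact F.w_ne (conj_eq_one_iff.1 hm.symm)
      · exfalso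
        by_cases h1 : ω = 1
        · rw [h1, one_mul] at hm
          exact (hwconj m).1 hm.symm
        · obtain ⟨m', hm', rfl⟩ := hwW ω hω h1
          have hce := Subgroup.mem_centralizer_singleton_iff.1 hm'
          refine (hwconj (m'⁻¹ * m)).2 ?_
          rw [show m'⁻¹ * m * F.w * (m'⁻¹ * m)⁻¹ = m'⁻¹ * (m * F.w * m⁻¹) * m' by group, ← hm]
          calc m'⁻¹ * (m' * F.w * m'⁻¹ * e) * m' = F.w * (m'⁻¹ * (e * m')) := by group
            _ = F.w * e := by rw [← hce, inv_mul_cancel_left]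
    obtain ⟨m, hmN, hxm⟩ : ∃ m ∈ N, x = m * F.w * m⁻¹ := by
      rcases F.invol_cases hx hxx with h1 | h1
      · exact hV x h1 hxw
      · obtain ⟨v, hv, hve⟩ := h1
        change F.sw.g * v * F.sw.g⁻¹ = x at hve
        obtain ⟨m', hm'⟩ := hxw
        obtain ⟨m, hmN, hvm⟩ := hV v hv ⟨F.sw.g⁻¹ * m', by
          rw [show F.sw.g⁻¹ * m' * F.w * (F.sw.g⁻¹ * m')⁻¹ = F.sw.g⁻¹ * (m' * F.w * m'⁻¹) * F.sw.g by group,
            ← hm', ← hve]; group⟩
        exact ⟨F.sw.g * m, mul_mem hgN hmN, by rw [← hve, hvm]; group⟩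
    -- `C_N(g)` is a conjugate of `U`
    set n' := n⁻¹ * m with hn'
    have hn'N : n' ∈ N := mul_mem (inv_mem hn) hmN
    have hg' : F.sw.g = n' * F.w * n'⁻¹ := by
      rw [show n' * F.w * n'⁻¹ = n⁻¹ * (m * F.w * m⁻¹) * n by rw [hn']; group, ← hxm, hxdef]; group
    set R := cjg n' F.U with hR
    set A := cjg h s.D with hA
    have hRg : ∀ r ∈ R, r ∈ N ∧ r * F.sw.g = F.sw.g * r := by
      intro r hr
      obtain ⟨u, hu, rfl⟩ := hr
      refine ⟨mul_mem (mul_mem hn'N (hUN hu)) (inv_mem hn'N), ?_⟩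
      show n' * u * n'⁻¹ * F.sw.g = F.sw.g * (n' * u * n'⁻¹)
      rw [hg']
      calc n' * u * n'⁻¹ * (n' * F.w * n'⁻¹) = n' * (u * F.w) * n'⁻¹ := by group
        _ = n' * (F.w * u) * n'⁻¹ := by rw [F.U_comm_Z hu F.w_mem_Z]
        _ = _ := by group
    have hwC : ∀ r, r * F.w = F.w * r → r ∈ (s.S : Subgroup G) := fun r hr =>
      s.h.mem_sylow_of_comm s.hz1 s.hz (hwz ▸ hr)
    have hAR : A ≤ R := by
      rintro _ ⟨d, hd, rfl⟩
      show h * d * h⁻¹ ∈ R
      have hdU := (hhU d (F.T_le_U (s.D_le_T hd))).1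
      have hcg : h * d * h⁻¹ * F.sw.g = F.sw.g * (h * d * h⁻¹) := by
        rw [hgh]
        calc h * d * h⁻¹ * (h * F.w' * h⁻¹) = h * (d * F.w') * h⁻¹ := by group
          _ = h * (F.w' * d) * h⁻¹ := by rw [s.V_comm hd F.w'_V]
          _ = _ := by group
      refine mem_cjg.2 (hUS _ (mul_mem (mul_mem (inv_mem hn'N) (hUN hdU)) hn'N) (hwC _ ?_))
      calc n'⁻¹ * (h * d * h⁻¹) * n' * F.w = n'⁻¹ * ((h * d * h⁻¹) * (n' * F.w * n'⁻¹)) * n' := by group
        _ = n'⁻¹ * ((n' * F.w * n'⁻¹) * (h * d * h⁻¹)) * n' := by rw [← hg', hcg]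
        _ = _ := by group
    have hD16 : Nat.card s.D = 16 := by have := F.sh.card_T; omega
    have hRA : A < R := hAR.lt_of_ne fun heq => by
      have := congrArg (fun H : Subgroup G => Nat.card H) heq
      simp only [hA, hR, card_cjg, hD16, hU64] at this
      omega
    have hRn : Group.IsNilpotent R :=
      (((s.S.isPGroup'.to_le F.U_le_S).map _ : IsPGroup 2 R)).isNilpotent
    obtain ⟨t, ⟨htR, htA⟩, htnA⟩ := SetLike.exists_of_lt (Fusion.lt_inf_normalizer hRn hRA)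
    set t' := h⁻¹ * t * h with ht'
    have hnD : t' ∈ Subgroup.normalizer (s.D : Set G) := by
      rw [Subgroup.mem_normalizer_iff]
      intro d
      have h1 := Subgroup.mem_normalizer_iff.1 htA (h * d * h⁻¹)
      rw [hA, mem_cjg, mem_cjg, show h⁻¹ * (h * d * h⁻¹) * h = d by group,
        show h⁻¹ * (t * (h * d * h⁻¹) * t⁻¹) * h = t' * d * t'⁻¹ by rw [ht']; group] at h1
      exact h1
    have ht'w : t' * F.w' = F.w' * t' := by
      have h1 := (hRg t htR).2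
      rw [hgh] at h1
      calc t' * F.w' = h⁻¹ * (t * (h * F.w' * h⁻¹)) * h := by rw [ht']; group
        _ = h⁻¹ * ((h * F.w' * h⁻¹) * t) * h := by rw [h1]
        _ = _ := by rw [ht']; group
    have hhw : h * F.w * h⁻¹ = F.w := by rw [hwz, s.hz h hhS, mul_inv_cancel_right]
    have he'' : h * (F.w * e) * h⁻¹ = e := by
      rw [show h * (F.w * e) * h⁻¹ = (h * F.w * h⁻¹) * (h * e * h⁻¹) by group, hhw, he', ← mul_assoc,
        F.w_sq, one_mul]
    have ht'e : t' * (F.w * e) = (F.w * e) * t' := by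
      have h1 := Subgroup.mem_centralizer_singleton_iff.1 (hRg t htR).1
      calc t' * (F.w * e) = h⁻¹ * (t * (h * (F.w * e) * h⁻¹)) * h := by rw [ht']; group
        _ = h⁻¹ * (t * e) * h := by rw [he'']
        _ = h⁻¹ * (e * t) * h := by rw [h1]
        _ = h⁻¹ * ((h * (F.w * e) * h⁻¹) * t) * h := by rw [he'']
        _ = _ := by rw [ht']; group
    set y := F.sh.y with hy
    have hyD := s.M_le_normalizer_D F.sh.hyM
    set t'' := y⁻¹ * t' * y with ht''
    have ht''w : t'' * F.w = F.w * t'' := by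
      calc t'' * F.w = y⁻¹ * (t' * F.w') * y := by rw [ht'', Frame.w', ← hy]; group
        _ = y⁻¹ * (F.w' * t') * y := by rw [ht'w]
        _ = _ := by rw [ht'', Frame.w', ← hy]; group
    have ht''N : t'' ∈ Subgroup.normalizer (s.D : Set G) := mul_mem (mul_mem (inv_mem hyD) hnD) hyD
    have ht''T : t'' ∈ s.T := s.stab_V (hwC _ ht''w) (cjg_eq (omegaZ_normalizer _ ht''N))
    set v := y⁻¹ * F.w * y with hv
    have hvW : v ∈ F.W := by
      have h2 := F.y_W (F.y_W F.w_W)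
      have h3 := s.act_D F.sh.hy3 F.w_V
      rw [← hy] at h2 h3
      have : y * (y * F.w * y⁻¹) * y⁻¹ = v := by
        rw [hv]; conv_rhs => rw [← h3]
        group
      rwa [this] at h2
    have hvw : v ≠ F.w := fun hh => F.w'_ne_w (by
      rw [Frame.w', ← hy]; conv_lhs => rw [← hh, hv]
      group)
    have hv1 : v ≠ 1 := fun hh => F.w_ne (by
      have := congrArg (fun u => y * u * y⁻¹) hh
      simpa [hv, mul_assoc] using this)
    have hye : y * e = e * y := F.central_of_mem heV heD F.sh.hyM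
    have ht''ve : t'' * (v * e) = (v * e) * t'' := by
      have h1 : v * e = y⁻¹ * (F.w * e) * y := by
        rw [hv]
        calc y⁻¹ * F.w * y * e = y⁻¹ * F.w * (y * e) := by group
          _ = _ := by rw [hye]; group
      rw [h1, ht'']
      calc y⁻¹ * t' * y * (y⁻¹ * (F.w * e) * y) = y⁻¹ * (t' * (F.w * e)) * y := by group
        _ = y⁻¹ * ((F.w * e) * t') * y := by rw [ht'e]
        _ = _ := by group
    have ht''v : t'' * v = v * t'' := by
      have := (show Commute t'' (v * e) from ht''ve).mul_right (show Commute t'' e from hTe t'' ht''T)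
      rwa [mul_assoc, hee, mul_one] at this
    have ht''D : t'' ∈ s.D := by
      refine F.mem_D_of_comm (F.T_le_U ht''T) ?_
      rcases F.W_cases hvW with h1 | h1 | h1 | h1
      · exact absurd h1 hv1
      · exact absurd h1 hvw
      · rwa [h1] at ht''v
      · have := (show Commute t'' F.w from ht''w).mul_right (show Commute t'' v from ht''v)
        rwa [h1, ← mul_assoc, F.w_sq, one_mul] at this
    refine htnA ?_
    have h1 := (Subgroup.mem_normalizer_iff.1 hyD _).1 ht''D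
    rw [ht'', show y * (y⁻¹ * t' * y) * y⁻¹ = t' by group] at h1
    rw [hA, mem_cjg]
    exact h1
  -- the transfer into `U / T₀`
  have hT₀U : T₀ ≤ F.U := hT₀T.trans F.T_le_U
  have hT₀nU : F.U ≤ Subgroup.normalizer (T₀ : Set G) := by
    intro x hx
    have hgn : F.sw.g ∈ Subgroup.normalizer (T₀ : Set G) := by
      refine Subgroup.mem_normalizer_iff.2 fun t => ⟨fun ht => ?_, fun ht => ?_⟩
      · rw [F.g_inv]; exact hgT₀ t ht
      · have := hgT₀ _ ht
        rwa [F.g_inv, show F.sw.g * (F.sw.g * t * F.sw.g) * F.sw.g = (F.sw.g * F.sw.g) * t * (F.sw.g * F.sw.g) by group,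
          F.g_sq, one_mul, mul_one] at this
    rcases hUform x hx with h1 | h1
    · exact hT₀n h1
    · rw [← hswap x]; exact mul_mem hgn (hT₀n h1)
  let H : Subgroup N := F.U.subgroupOf N
  let H₀ : Subgroup H := ((T₀.subgroupOf N).subgroupOf H)
  haveI hH₀n : H₀.Normal := by
    refine ⟨fun x hx c => ?_⟩
    show ((c * x * c⁻¹ : H) : N) ∈ T₀.subgroupOf N
    rw [Subgroup.mem_subgroupOf]
    exact (Subgroup.mem_normalizer_iff.1 (hT₀nU c.2) _).1 hx
  have hQ4 : Nat.card (H ⧸ H₀) = 4 := by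
    have h1 := H₀.card_eq_card_quotient_mul_card_subgroup
    have h2 : Nat.card H = 64 := by
      rw [show H = F.U.subgroupOf N from rfl, Nat.card_congr (Subgroup.subgroupOfEquivOfLe hUN).toEquiv, hU64]
    have h3 : Nat.card H₀ = 16 := by
      have h4 : Nat.card H₀ = Nat.card T₀ :=
        Nat.card_congr
          { toFun := fun x => ⟨(((x : H) : N) : G), x.2⟩
            invFun := fun x => ⟨⟨⟨x, hUN (hT₀U x.2)⟩, hT₀U x.2⟩, x.2⟩
            left_inv := fun x => rfl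
            right_inv := fun x => rfl }
      rw [h4]
      have h5 := (T₀.subgroupOf s.T).card_mul_index
      rw [hidx, Nat.card_congr (Subgroup.subgroupOfEquivOfLe hT₀T).toEquiv, hT32] at h5
      omega
    rw [h2, h3] at h1
    omega
  letI : CommGroup (H ⧸ H₀) :=
    { (inferInstance : Group (H ⧸ H₀)) with
      mul_comm := fun p q => by
        haveI := IsPGroup.isMulCommutative_of_card_eq_prime_sq (G := H ⧸ H₀) (p := 2) (by rw [hQ4]; rfl)
        exact mul_comm' p q }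
  set φ : H →* H ⧸ H₀ := QuotientGroup.mk' H₀ with hφ
  have hφ0 : ∀ x : H, φ x = 1 ↔ ((x : N) : G) ∈ T₀ := fun x =>
    (QuotientGroup.eq_one_iff (N := H₀) x).trans Iff.rfl
  have hφeq : ∀ x y : H, ((x : N) : G) * ((y : N) : G)⁻¹ ∈ T₀ → φ x = φ y := by
    intro x y hxy
    rw [← mul_inv_eq_one, ← map_inv, ← map_mul, hφ0]
    exact hxy
  have hfN : f ∈ N := hUN (F.T_le_U (s.D_le_T hfD))
  set fN : N := ⟨f, hfN⟩ with hfNdef
  set gN : N := ⟨F.sw.g, hgN⟩ with hgNdef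
  have hfH : fN ∈ H := F.T_le_U (s.D_le_T hfD)
  have hgH : gN ∈ H := F.g_mem_U
  have hA2 : ∀ x : H, ((x : N) : G) * (x : N) ∈ T₀ → φ x * φ x = 1 := fun x hx => by
    rw [← map_mul, hφ0]; exact hx
  have hUp : IsPGroup 2 F.U := s.S.isPGroup'.to_le F.U_le_S
  have hHp : IsPGroup 2 H := hUp.comap_of_injective N.subtype N.subtype_injective
  have hHidx : ¬ 2 ∣ H.index := by
    obtain ⟨P, hP⟩ := hHp.exists_le_sylow
    have hPc : Nat.card (P : Subgroup N) ≤ 64 := by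
      obtain ⟨R, hR⟩ := ((P.isPGroup').map N.subtype).exists_le_sylow
      have hPR : Nat.card (P : Subgroup N) = Nat.card ((P : Subgroup N).map N.subtype) :=
        (Subgroup.card_map_of_injective N.subtype_injective).symm
      have hRc := (s.h.other R).card
      obtain ⟨i, hi⟩ := IsPGroup.iff_card.1 ((P.isPGroup').map N.subtype)
      rw [hPR]
      by_contra hgt
      have hi7 : 7 ≤ i := by
        by_contra h7
        have : 2 ^ i ≤ 2 ^ 6 := Nat.pow_le_pow_right two_pos (by omega)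
        omega
      have heq : (P : Subgroup N).map N.subtype = (R : Subgroup G) :=
        Subgroup.eq_of_le_of_card_ge hR (by rw [hRc, hi]; exact Nat.pow_le_pow_right two_pos hi7)
      refine F.not_isPGroup_centralizer heV heD ?_
      rw [(s.h.other R).centralizer_eq he1 fun r hr => ?_]
      · exact R.isPGroup'
      · rw [← heq] at hr
        obtain ⟨p, -, rfl⟩ := hr
        exact Subgroup.mem_centralizer_singleton_iff.1 p.2
    have hH64 : Nat.card H = 64 := by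
      rw [show H = F.U.subgroupOf N from rfl, Nat.card_congr (Subgroup.subgroupOfEquivOfLe hUN).toEquiv, hU64]
    rw [Subgroup.eq_of_le_of_card_ge hP (by rw [hH64]; exact hPc)]
    exact P.not_dvd_index
  have hof : orderOf fN ∣ 4 := by
    refine orderOf_dvd_of_pow_eq_one (Subtype.ext ?_)
    show f ^ 4 = 1
    rw [show (4 : ℕ) = 2 * 2 from rfl, pow_mul, pow_two f, hff, pow_two, hee]
  have hzp : ∀ x : N, x ∈ H → IsPGroup 2 (Subgroup.zpowers x) := fun x hx =>
    hHp.to_le (Subgroup.zpowers_le.2 hx)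
  have hVf : MonoidHom.transfer φ fN = φ ⟨fN, hfH⟩ := by
    refine transfer_const φ fN hfH hHidx (hzp _ hfH) ?_ ?_ ?_
    · intro k g hk hk1 hkd
      rw [hφ0]
      show (g : G)⁻¹ * f ^ k * (g : G) ∈ T₀
      have hk4 : k = 2 ∨ k = 4 := by
        obtain ⟨i, hi, rfl⟩ := (Nat.dvd_prime_pow Nat.prime_two).1 (show k ∣ 2 ^ 2 from hkd.trans hof)
        interval_cases i <;> simp at hk1 ⊢
      have hgc : (g : G) * e = e * g := Subgroup.mem_centralizer_singleton_iff.1 g.2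
      rcases hk4 with rfl | rfl
      · rw [pow_two, hff, mul_assoc, ← hgc, inv_mul_cancel_left]; exact heT₀
      · rw [show (4 : ℕ) = 2 * 2 from rfl, pow_mul, pow_two f, hff, pow_two, hee]
        simp
    · intro g hk
      apply hφeq
      show (g : G)⁻¹ * f * (g : G) * f⁻¹ ∈ T₀
      refine hroot _ hk ?_
      have hgc : (g : G) * e = e * g := Subgroup.mem_centralizer_singleton_iff.1 g.2
      rw [show (g : G)⁻¹ * f * g * ((g : G)⁻¹ * f * g) = (g : G)⁻¹ * (f * f) * g by group, hff, mul_assoc,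
        ← hgc, inv_mul_cancel_left]
    · exact hA2 _ (show f * f ∈ T₀ by rw [hff]; exact heT₀)
  have hVg : MonoidHom.transfer φ gN = φ ⟨gN, hgH⟩ := by
    refine transfer_const φ gN hgH hHidx (hzp _ hgH) ?_ ?_ ?_
    · intro k g hk hk1 hkd
      have : k = 2 := le_antisymm (Nat.le_of_dvd two_pos (hkd.trans (orderOf_dvd_of_pow_eq_one
        (Subtype.ext (by show F.sw.g ^ 2 = 1; rw [pow_two, F.g_sq]))))) hk1
      subst this
      rw [hφ0]
      show (g : G)⁻¹ * F.sw.g ^ 2 * (g : G) ∈ T₀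
      rw [pow_two, F.g_sq]; simp
    · intro g hk
      set x := (g : G)⁻¹ * F.sw.g * (g : G) with hx
      have hxU : x ∈ F.U := hk
      have hxx : x * x = 1 := by
        rw [hx, show (g : G)⁻¹ * F.sw.g * g * ((g : G)⁻¹ * F.sw.g * g) = (g : G)⁻¹ * (F.sw.g * F.sw.g) * g by group,
          F.g_sq]; group
      have hxT : x ∉ s.T := by
        have := hgT (g : G)⁻¹ (inv_mem g.2)
        rwa [inv_inv] at this
      apply hφeq
      show x * F.sw.g⁻¹ ∈ T₀
      rw [show x * F.sw.g⁻¹ = F.sw.g * (F.sw.g * x) * F.sw.g by rw [hswap, F.g_inv]]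
      exact hgT₀ _ (hinvol x hxU hxx hxT)
    · exact hA2 _ (show F.sw.g * F.sw.g ∈ T₀ by rw [F.g_sq]; exact one_mem _)
  have hsqA : ∀ a : H ⧸ H₀, a * a = 1 := by
    intro a
    obtain ⟨x, rfl⟩ := QuotientGroup.mk'_surjective H₀ a
    refine hA2 x ?_
    have hxU : ((x : N) : G) ∈ F.U := x.2
    rcases hUform _ hxU with h1 | h1
    · rcases hTsplit _ h1 with h2 | h2
      · exact mul_mem h2 h2
      · rw [show ((x : N) : G) = ((x : N) : G) * f⁻¹ * f by group, hfsq _ h2]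
        exact mul_mem (mul_mem h2 h2) heT₀
    · rcases hTsplit _ h1 with h2 | h2
      · obtain ⟨k, hk, c, hc, hkc⟩ := hcase _ h2
        rw [← hswap ((x : N) : G), hkc, hgsq k hk c hc]
        exact hKT₀ (mul_mem (hgK k hk) hk)
      · obtain ⟨k, hk, c, hc, hkc⟩ := hcase _ h2
        have hx' : ((x : N) : G) = F.sw.g * (k * c * f) := by
          rw [← hkc, inv_mul_cancel_right, hswap]
        rw [hx', hgfsq k hk c hc]
        exact mul_mem (hKT₀ (mul_mem (hgK k hk) hk)) (mul_mem (hKT₀ (hWK F.w_W)) heT₀)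
  set tr := MonoidHom.transfer φ with htr
  set N₂ : Subgroup G := tr.ker.map N.subtype with hN₂
  have hN₂N : N₂ ≤ N := Subgroup.map_subtype_le _
  have hmem₂ : ∀ x (hx : x ∈ N), x ∈ N₂ ↔ tr ⟨x, hx⟩ = 1 := by
    intro x hx
    rw [hN₂, Subgroup.mem_map]
    constructor
    · rintro ⟨a, ha, rfl⟩; exact ha
    · intro h; exact ⟨⟨x, hx⟩, h, rfl⟩
  have hcv : ∀ m x : N, tr (m * x * m⁻¹) = tr x := fun m x => by
    rw [map_mul, map_mul, map_inv, mul_comm (tr m), mul_inv_cancel_right]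
  have hW₂ : ∀ v ∈ F.W, v ∈ N₂ := by
    let wN : N := ⟨F.w, hMN (s.D_le_M F.w_D)⟩
    let w'N : N := ⟨F.w', hMN (s.D_le_M F.w'_D)⟩
    let yN : N := ⟨F.sh.y, hMN F.sh.hyM⟩
    let bN : N := ⟨F.b, hMN (s.hTM F.b_mem_T)⟩
    have e1 : tr w'N = tr wN := hcv yN wN
    have e2 : tr (wN * w'N) = tr w'N := by
      rw [← hcv bN w'N]
      refine congrArg tr (Subtype.ext ?_)
      show F.w * F.w' = F.b * F.w' * F.b⁻¹
      rw [F.b_inv, F.b_w']
    have e3 : tr wN = 1 := by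
      rw [map_mul, e1] at e2
      exact mul_left_cancel (a := tr wN) (by rw [mul_one]; exact e2)
    intro v hv
    rw [hmem₂ v (hMN (s.D_le_M (s.V_le_D (F.W_le_V hv))))]
    rcases F.W_cases hv with rfl | rfl | rfl | rfl
    · exact map_one tr
    · exact e3
    · exact e1.trans e3
    · exact e2.trans (e1.trans e3)
  have hT₀₂ : T₀ ≤ N₂ := by
    refine sup_le (sup_le hW₂ (Subgroup.zpowers_le.2 ?_)) (Subgroup.zpowers_le.2 ?_)
    · rw [hmem₂ F.b (hMN (s.hTM F.b_mem_T))]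
      have h1 := (hmem₂ F.w' (hMN (s.D_le_M F.w'_D))).1 (hW₂ _ F.w'_W)
      rw [← h1, ← hcv gN ⟨F.w', hMN (s.D_le_M F.w'_D)⟩]
      refine congrArg tr (Subtype.ext ?_)
      show F.b = F.sw.g * F.w' * F.sw.g⁻¹
      rw [F.g_inv]; exact F.b_eq
    · rw [hmem₂ e (hMN (s.D_le_M (s.V_le_D heV)))]
      rw [show (⟨e, hMN (s.D_le_M (s.V_le_D heV))⟩ : N) = fN * fN from Subtype.ext hff.symm, map_mul]
      exact hsqA _
  have hf1 : φ ⟨fN, hfH⟩ ≠ 1 := fun hh => hfT₀ ((hφ0 _).1 hh)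
  have hg1 : φ ⟨gN, hgH⟩ ≠ 1 := fun hh => F.sw.hgT (hT₀T ((hφ0 _).1 hh))
  have hfg : φ ⟨fN, hfH⟩ ≠ φ ⟨gN, hgH⟩ := fun hh => by
    have h1 : φ (⟨fN, hfH⟩ * ⟨gN, hgH⟩) = 1 := by rw [map_mul, hh]; exact hsqA _
    refine F.sw.hgT ?_
    have h2 : f * F.sw.g ∈ s.T := hT₀T ((hφ0 _).1 h1)
    simpa using mul_mem (inv_mem (s.D_le_T hfD)) h2
  have hindex : tr.ker.index = 4 := by
    rw [Subgroup.index_ker]
    have hsub : ({1, φ ⟨fN, hfH⟩, φ ⟨gN, hgH⟩} : Set (H ⧸ H₀)) ⊆ (tr.range : Set (H ⧸ H₀)) := by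
      intro a ha
      simp only [Set.mem_insert_iff, Set.mem_singleton_iff] at ha
      rcases ha with rfl | rfl | rfl
      exacts [one_mem _, ⟨fN, hVf⟩, ⟨gN, hVg⟩]
    have h3 : 3 ≤ Nat.card tr.range := by
      have := Set.ncard_le_ncard hsub
      rwa [Set.ncard_insert_of_notMem (by simp [Ne.symm hf1, Ne.symm hg1]), Set.ncard_pair hfg,
        ← Nat.card_coe_set_eq] at this
    have h4 := Subgroup.card_subgroup_dvd_card tr.range
    rw [hQ4] at h4
    have h5 := Nat.le_of_dvd (by norm_num) h4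
    interval_cases (Nat.card tr.range) <;> omega
  -- an element of order three modulo `D` in the kernel
  set y := F.sh.y with hy
  obtain ⟨n, hn⟩ := s.D_isPGroup ⟨y * y * y, F.sh.hy3⟩
  set q := y ^ 2 ^ n with hq
  have hq3 : q ^ 3 = 1 := by
    rw [hq, ← pow_mul, mul_comm, pow_mul, show y ^ 3 = y * y * y by rw [pow_succ, pow_two]]
    exact congrArg Subtype.val hn
  have hqM : q ∈ s.M := pow_mem F.sh.hyM _
  have hqT : q ∉ s.T := by
    intro hh
    refine F.sh.hyT ?_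
    have hdiv : ∃ a b : ℤ, a * (2 ^ n : ℕ) + b * 3 = 1 := by
      have hco : Nat.Coprime (2 ^ n) 3 := Nat.Coprime.pow_left _ (by norm_num)
      exact (Int.isCoprime_iff_nat_coprime.2 hco : IsCoprime ((2 ^ n : ℕ) : ℤ) 3)
    obtain ⟨a, b, hab⟩ := hdiv
    have e1 : y = q ^ a * (y ^ 3) ^ b := by
      calc y = y ^ (a * (2 ^ n : ℕ) + b * 3) := by rw [hab, zpow_one]
        _ = _ := by
          rw [zpow_add, mul_comm a, mul_comm b, zpow_mul, zpow_mul, zpow_natCast, hq]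
          norm_cast
    rw [← hy, e1]
    refine mul_mem (zpow_mem hh a) (zpow_mem ?_ b)
    rw [pow_succ, pow_two]; exact s.D_le_T F.sh.hy3
  have hqN₂ : q ∈ N₂ := by
    rw [hmem₂ q (hMN hqM)]
    have h1 : tr ⟨q, hMN hqM⟩ ^ 3 = 1 := by
      rw [← map_pow, show (⟨q, hMN hqM⟩ : N) ^ 3 = 1 from Subtype.ext hq3, map_one]
    rwa [pow_succ, pow_two, hsqA, one_mul] at h1
  -- the chain
  have hlt01 : T₀ < N₂ ⊓ s.M :=
    lt_of_le_of_ne (le_inf hT₀₂ (hT₀T.trans s.hTM)) fun hh => hqT (hT₀T (hh.ge ⟨hqN₂, hqM⟩))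
  have hN₂M : N₂ ≤ s.M := by
    by_contra hnot
    have hlt12 : N₂ ⊓ s.M < N₂ := inf_lt_left.2 hnot
    set N₁ : Subgroup G := ((Subgroup.zpowers (φ ⟨fN, hfH⟩)).comap tr).map N.subtype with hN₁
    have hlt23 : N₂ < N₁ := by
      refine lt_of_le_of_ne (Subgroup.map_mono fun x hx => ?_) fun hh => ?_
      · rw [Subgroup.mem_comap, MonoidHom.mem_ker.1 hx]; exact one_mem _
      · have hmem : (fN : G) ∈ N₁ := ⟨fN, by rw [SetLike.mem_coe, Subgroup.mem_comap, hVf]; exact Subgroup.mem_zpowers _, rfl⟩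
        rw [← hh] at hmem
        exact hf1 (hVf.symm.trans ((hmem₂ _ hfN).1 hmem))
    have hlt34 : N₁ < N := by
      refine lt_of_le_of_ne (Subgroup.map_subtype_le _) fun hh => ?_
      have hmem : (gN : G) ∈ N₁ := hh.ge hgN
      obtain ⟨a, ha, hae⟩ := hmem
      rw [SetLike.mem_coe, Subgroup.mem_comap, show a = gN from Subtype.ext hae, hVg,
        mem_zpowers_iff_mem_range_orderOf, orderOf_eq_prime (p := 2) (by rw [pow_two, hsqA]) hf1,
        Finset.mem_image] at ha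
      obtain ⟨i, hi, hi'⟩ := ha
      rw [Finset.mem_range] at hi
      interval_cases i
      · rw [pow_zero] at hi'; exact hg1 hi'.symm
      · rw [pow_one] at hi'; exact hfg hi'
    have h5 := (T₀.subgroupOf s.T).card_mul_index
    rw [hidx, Nat.card_congr (Subgroup.subgroupOfEquivOfLe hT₀T).toEquiv, hT32] at h5
    have := s.h.le hNne (((((hasLen_of_card (k := 4) (show Nat.card T₀ = 2 ^ 4 by omega)).step hlt01).step
      hlt12).step hlt23).step hlt34)
    omega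
  -- so `q` normalises the conjugate module, hence `T`
  have hV'q : q * F.b * q⁻¹ ∈ s.T := by
    have h1 : F.sw.g⁻¹ * q * F.sw.g ∈ N₂ := by
      rw [hmem₂ _ (mul_mem (mul_mem (inv_mem hgN) (hMN hqM)) hgN)]
      have h2 := (hmem₂ q (hMN hqM)).1 hqN₂
      rw [← h2, ← hcv gN⁻¹ ⟨q, hMN hqM⟩]
      refine congrArg tr (Subtype.ext ?_)
      show F.sw.g⁻¹ * q * F.sw.g = F.sw.g⁻¹ * q * F.sw.g⁻¹⁻¹
      rw [inv_inv]
    have h3 := s.act_V (hN₂M h1) F.w'_V
    have h4 : q * F.b * q⁻¹ ∈ F.sw.V' := by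
      refine mem_cjg.2 ?_
      rw [show F.sw.g⁻¹ * (q * F.b * q⁻¹) * F.sw.g =
        F.sw.g⁻¹ * q * F.sw.g * F.w' * (F.sw.g⁻¹ * q * F.sw.g)⁻¹ by rw [F.b_eq]; simp only [mul_inv_rev, F.g_inv, inv_inv]; group]
      exact h3
    exact F.sw.E_le (F.sw.V'_le_E h4)
  apply s.T_not_normal
  have hqn : q ∈ Subgroup.normalizer (s.T : Set G) := by
    refine mem_normalizer_of_cjg (Subgroup.eq_of_le_of_card_ge ?_ (card_cjg _ _).ge)
    rw [cjg, Subgroup.map_le_iff_le_comap]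
    refine (F.sh.sup_eq_T F.b_mem_T F.hbD).ge.trans (sup_le (fun d hd => ?_) (Subgroup.zpowers_le.2 hV'q))
    exact s.D_le_T ((Subgroup.mem_normalizer_iff.1 (s.M_le_normalizer_D hqM) d).1 hd)
  have h6 := (s.eq_of_between (X := s.T ⊔ Subgroup.zpowers q) le_sup_left
    (sup_le s.hTM (Subgroup.zpowers_le.2 hqM))).resolve_left fun hh =>
      hqT (hh.le (Subgroup.mem_sup_right (Subgroup.mem_zpowers q)))
  rw [← h6]
  exact sup_le Subgroup.le_normalizer (Subgroup.zpowers_le.2 hqn)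

/-- The complement of order four is impossible. -/
theorem not_four (F₀ : IFrame s) (h4 : Nat.card F₀.D₀ = 4) : False := by
  classical
  haveI : Fact (Nat.Prime 2) := ⟨Nat.prime_two⟩
  by_cases hexp : ∀ d ∈ F₀.D₀, d * d = 1
  · exact F₀.not_elementary_four h4 hexp
  push Not at hexp
  obtain ⟨f₀, hf₀, hf₀2⟩ := hexp
  set e := f₀ * f₀ with he
  have heD : e ∈ F₀.D₀ := mul_mem hf₀ hf₀
  have hof : orderOf f₀ = 4 := by
    have hd : orderOf f₀ ∣ 2 ^ 2 := by
      rw [show (2 : ℕ) ^ 2 = Nat.card F₀.D₀ by rw [h4]; rfl]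
      exact Subgroup.orderOf_dvd_natCard _ hf₀
    obtain ⟨i, hi, he'⟩ := (Nat.dvd_prime_pow Nat.prime_two).1 hd
    interval_cases i
    · exact absurd (by rw [he, orderOf_eq_one_iff.1 he', mul_one]) hf₀2
    · exact absurd (by rw [he, ← pow_two, ← pow_one 2, ← he', pow_orderOf_eq_one]) hf₀2
    · exact he'
  have hD₀eq : F₀.D₀ = Subgroup.zpowers f₀ :=
    (Subgroup.eq_of_le_of_card_ge (Subgroup.zpowers_le.2 hf₀) (by rw [Nat.card_zpowers, hof, h4])).symm
  have hee : e * e = 1 := by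
    rw [he, ← pow_two, ← pow_two, ← pow_mul, show 2 * 2 = orderOf f₀ by rw [hof], pow_orderOf_eq_one]
  have hroots : ∀ d ∈ F₀.D₀, (d * d = 1 → d = 1 ∨ d = e) ∧ (d * d = 1 ∨ d * d = e) := by
    intro d hd
    rw [hD₀eq, mem_zpowers_iff_mem_range_orderOf, hof, Finset.mem_image] at hd
    obtain ⟨i, hi, rfl⟩ := hd
    rw [Finset.mem_range] at hi
    interval_cases i
    · exact ⟨fun _ => Or.inl (pow_zero _), Or.inl (by rw [pow_zero, mul_one])⟩
    · refine ⟨fun h => absurd (by rwa [pow_one] at h) hf₀2, Or.inr (by rw [pow_one])⟩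
    · exact ⟨fun _ => Or.inr (pow_two f₀), Or.inl (by rw [pow_two]; exact hee)⟩
    · have e6 : f₀ ^ 3 * f₀ ^ 3 = e := by
        rw [← pow_add, show 3 + 3 = orderOf f₀ + 2 by rw [hof], pow_add, pow_orderOf_eq_one, one_mul, pow_two]
      exact ⟨fun h => absurd (e6.symm.trans h) hf₀2, Or.inr e6⟩
  have heV : e ∈ s.V := F₀.mem_V_of_D₀ heD hee fun d hd => F₀.D₀_comm hd heD
  have heZ := F₀.D₀_mem_Z heV heD
  have he1 : e ≠ 1 := hf₀2
  have hT32 : Nat.card s.T = 32 := by rw [F₀.card_T_eq, h4]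
  have hU64 : Nat.card F₀.U = 64 := by rw [F₀.card_U_eq, hT32]
  set C := (s.S : Subgroup G) ⊓ Subgroup.centralizer ({e} : Set G) with hC
  have hUC : F₀.U = C := by
    refine Subgroup.eq_of_le_of_card_ge
      (fun x hx => ⟨F₀.U_le_S hx, Subgroup.mem_centralizer_singleton_iff.2 (F₀.U_comm_Z hx heZ)⟩) ?_
    obtain ⟨x₀, hx₀S, hx₀⟩ := F₀.exists_moved he1 heV heD
    have hlt : C < (s.S : Subgroup G) := lt_of_le_of_ne inf_le_left fun hh =>
      hx₀ (Subgroup.mem_centralizer_singleton_iff.1 ((hh.ge hx₀S).2))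
    obtain ⟨i, hi⟩ := IsPGroup.iff_card.1 (s.S.isPGroup'.to_le hlt.le)
    have h1 : Nat.card C < 2 ^ 7 := by
      rw [← s.h.card]; exact Set.ncard_lt_ncard (SetLike.coe_ssubset_coe.2 hlt) (Set.toFinite _)
    rw [hi] at h1
    have := (Nat.pow_lt_pow_iff_right (by norm_num : 1 < 2)).1 h1
    rw [hU64, hi]
    exact le_trans (Nat.pow_le_pow_right two_pos (show i ≤ 6 by omega)) (by norm_num)
  have hidx : (F₀.U.subgroupOf (s.S : Subgroup G)).index = 2 := by
    have h := Subgroup.card_mul_index (F₀.U.subgroupOf (s.S : Subgroup G))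
    rw [Nat.card_congr (Subgroup.subgroupOfEquivOfLe F₀.U_le_S).toEquiv, hU64, s.h.card] at h
    omega
  have hUn : (s.S : Subgroup G) ≤ Subgroup.normalizer (F₀.U : Set G) :=
    (Subgroup.normal_subgroupOf_iff_le_normalizer F₀.U_le_S).1 (Subgroup.normal_of_index_eq_two hidx)
  obtain ⟨h, hhS, hhU⟩ : ∃ h ∈ (s.S : Subgroup G), h ∉ F₀.U := by
    by_contra hc
    push Not at hc
    have h2 := Subgroup.card_le_of_le hc
    rw [hU64, s.h.card] at h2
    norm_num at h2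
  have hconj : ∀ c ∈ F₀.U, h * c * h⁻¹ ∈ F₀.U ∧ h⁻¹ * c * h ∈ F₀.U := fun c hc =>
    ⟨(Subgroup.mem_normalizer_iff.1 (hUn hhS) c).1 hc, (Subgroup.mem_normalizer_iff''.1 (hUn hhS) c).1 hc⟩
  have hhh : h * h ∈ F₀.U :=
    (Subgroup.mul_mem_iff_of_index_two hidx (a := ⟨h, hhS⟩) (b := ⟨h, hhS⟩)).2 Iff.rfl
  have hhZ : ∀ v ∈ s.V ⊓ F₀.sw.E, h * v * h⁻¹ ∈ s.V ⊓ F₀.sw.E := by
    intro v hv
    refine F₀.mem_Z_iff.2 ⟨?_, fun t ht => ?_⟩
    · rw [show h * v * h⁻¹ * (h * v * h⁻¹) = h * (v * v) * h⁻¹ by group, s.V_sq v hv.1]; group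
    · calc t * (h * v * h⁻¹) = h * ((h⁻¹ * t * h) * v) * h⁻¹ := by group
        _ = h * (v * (h⁻¹ * t * h)) * h⁻¹ := by rw [F₀.U_comm_Z ((hconj t (F₀.T_le_U ht)).2) hv]
        _ = _ := by group
  have hZ₀ : ∀ v ∈ s.V ⊓ F₀.sw.E, v = 1 ∨ v = e ∨ v = F₀.w ∨ v = F₀.w * e :=
    fun v hv => F₀.Z_cases (fun d hd h1 => (hroots d hd).1 h1) hv
  -- the new swap
  set a := h * F₀.w' * h⁻¹ with ha
  have haU : a ∈ F₀.U := (hconj _ (F₀.T_le_U (s.D_le_T F₀.w'_D))).1
  have haT : a ∉ s.T := by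
    intro hh
    have hle : cjg h s.V ≤ s.T := by
      rintro _ ⟨v, hv, rfl⟩
      show h * v * h⁻¹ ∈ s.T
      by_cases hvE : v ∈ F₀.sw.E
      · exact s.V_le_T (hhZ v ⟨hv, hvE⟩).1
      · have h1 := hhZ _ ⟨mul_mem F₀.w'_V hv, (F₀.sw.inf_mem_iff F₀.sh F₀.w'_D (s.V_le_D hv)).2
          (iff_of_false F₀.w'_not_E hvE)⟩
        rw [show h * v * h⁻¹ = a * (h * (F₀.w' * v) * h⁻¹) by
          rw [ha]
          calc h * v * h⁻¹ = h * (F₀.w' * F₀.w') * v * h⁻¹ := by rw [F₀.w'_sq]; group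
            _ = _ := by group]
        exact mul_mem hh (s.V_le_T h1.1)
    rcases F₀.conj_eq hle with e1 | e1
    · exact hhU (F₀.T_le_U (s.stab_V hhS e1))
    · have h1 : F₀.sw.g⁻¹ * h ∈ s.T :=
        s.stab_V ((s.S : Subgroup G).mul_mem ((s.S : Subgroup G).inv_mem F₀.sw.hgS) hhS) (by
          rw [← cjg_cjg, e1, Setting.Swap.V', cjg_cjg, inv_mul_cancel]
          ext x; rw [mem_cjg, inv_one, one_mul, mul_one])
      exact hhU (by simpa using mul_mem F₀.g_mem_U (F₀.T_le_U h1))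
  have haa : a * a = 1 := by
    rw [ha, show h * F₀.w' * h⁻¹ * (h * F₀.w' * h⁻¹) = h * (F₀.w' * F₀.w') * h⁻¹ by group, F₀.w'_sq]; group
  obtain ⟨F, hFg, hFsh, hFE, hFw⟩ := F₀.toFrame.iframe_of_invol haU haT haa
    (fun x hx => F₀.U_comm_Z haU hx)
  have hFw' : F.w' = F₀.w' := by rw [Frame.w', Frame.w', hFw, hFsh]
  have hFD : F.D₀ = F₀.D₀ := by
    show s.D ⊓ F.sw.E ⊓ cjg F.sh.y (s.D ⊓ F.sw.E) = s.D ⊓ F₀.sw.E ⊓ cjg F₀.sh.y (s.D ⊓ F₀.sw.E)
    rw [hFsh, hFE]
  have hag : a * F₀.sw.g ∈ s.T := haU.resolve_left haT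
  have hFU : F.U = F₀.U := by
    refine Subgroup.eq_of_le_of_card_ge ?_ (by rw [F.card_U_eq, hU64, hT32])
    rintro x (hx | hx)
    · exact F₀.T_le_U hx
    · have : x * a ∈ F₀.U := F₀.T_le_U (hFg ▸ hx)
      simpa using mul_mem this (inv_mem haU)
  have hUC' : F.U = C := hFU.trans hUC
  have hhU' : ∀ c ∈ F.U, h * c * h⁻¹ ∈ F.U ∧ h⁻¹ * c * h ∈ F.U := by rw [hFU]; exact hconj
  set e' := h * e * h⁻¹ with he'
  have he'Z : e' ∈ s.V ⊓ F₀.sw.E := hhZ e heZ
  have he'e : e' ≠ e := fun hh => hhU (hUC.ge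
    (Subgroup.mem_inf.2 ⟨hhS, Subgroup.mem_centralizer_singleton_iff.2 (mul_inv_eq_iff_eq_mul.1 hh)⟩))
  have he'1 : e' ≠ 1 := fun hh => he1 (conj_eq_one_iff.1 hh)
  -- an element of `T` centralising `g`, squaring to `e'`
  set f₁ := h * f₀ * h⁻¹ with hf₁
  have hf₁U : f₁ ∈ F.U := by
    rw [hFU]; exact (hconj f₀ (F₀.T_le_U (s.D_le_T (F₀.D₀_le_D hf₀)))).1
  have hf₁g : f₁ * F.sw.g = F.sw.g * f₁ := by
    rw [hFg, hf₁, ha]
    calc h * f₀ * h⁻¹ * (h * F₀.w' * h⁻¹) = h * (f₀ * F₀.w') * h⁻¹ := by group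
      _ = h * (F₀.w' * f₀) * h⁻¹ := by rw [s.V_comm (F₀.D₀_le_D hf₀) F₀.w'_V]
      _ = _ := by group
  have hf₁2 : f₁ * f₁ = e' := by rw [hf₁, he', he]; group
  obtain ⟨f₂, hf₂T, hf₂g, hf₂2⟩ : ∃ x ∈ s.T, x * F.sw.g = F.sw.g * x ∧ x * x = e' := by
    by_cases hh : f₁ ∈ s.T
    · exact ⟨f₁, hh, hf₁g, hf₁2⟩
    · refine ⟨f₁ * F.sw.g, hf₁U.resolve_left hh, ?_, ?_⟩
      · calc f₁ * F.sw.g * F.sw.g = F.sw.g * f₁ * F.sw.g := by rw [← hf₁g]
          _ = _ := by group
      · calc f₁ * F.sw.g * (f₁ * F.sw.g) = f₁ * (F.sw.g * f₁) * F.sw.g := by group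
          _ = f₁ * f₁ * (F.sw.g * F.sw.g) := by rw [← hf₁g]; group
          _ = e' := by rw [hf₁2, F.g_sq, mul_one]
  have hDsq : ∀ d ∈ s.D, d * d = 1 ∨ d * d = e := by
    intro d hd
    obtain ⟨ω, hω, c, hc, rfl⟩ := F.D_cases hd
    have hsq : ω * c * (ω * c) = c * c := by
      calc ω * c * (ω * c) = ω * (c * ω) * c := by group
        _ = (ω * ω) * (c * c) := by rw [s.V_comm (F.D₀_le_D hc) (F.W_le_V hω)]; group
        _ = _ := by rw [s.V_sq _ (F.W_le_V hω), one_mul]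
    rw [hsq]
    exact (hroots c (hFD ▸ hc)).2
  have hf₂D : f₂ ∉ s.D := fun hh => by
    rcases hDsq f₂ hh with h1 | h1 <;> rw [hf₂2] at h1
    exacts [he'1 h1, he'e h1]
  have hge : F.sw.g * e = e * F.sw.g := F.g_fix e (hFE ▸ heZ)
  have hf₂E : f₂ ∉ F.sw.E := fun hh => by
    obtain ⟨d, hd, hde⟩ := hh
    change F.sw.g * d * F.sw.g⁻¹ = f₂ at hde
    rw [F.g_inv] at hde
    have h2 : f₂ * f₂ = F.sw.g * (d * d) * F.sw.g := by
      rw [← hde]
      calc F.sw.g * d * F.sw.g * (F.sw.g * d * F.sw.g) = F.sw.g * d * (F.sw.g * F.sw.g) * d * F.sw.g := by group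
        _ = _ := by rw [F.g_sq]; group
    rw [hf₂2] at h2
    rcases hDsq d hd with h1 | h1 <;> rw [h1] at h2
    · rw [mul_one, F.g_sq] at h2; exact he'1 h2
    · rw [hge, mul_assoc, F.g_sq, mul_one] at h2; exact he'e h2
  have hdb : f₂ * F.b ∈ s.D := (F.sh.mul_mem_D hf₂T F.b_mem_T).2 (iff_of_false hf₂D F.hbD)
  obtain ⟨ω, hω, c, hc, hωc⟩ := F.D_cases hdb
  have hf₂eq : f₂ = ω * c * F.b := by rw [← hωc, mul_assoc, F.b_sq, mul_one]
  have hcb : c * F.b = F.b * c := F.D₀_comm_b hc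
  have hωnE : ω ∉ F.sw.E := fun hh => hf₂E (hf₂eq ▸ mul_mem (mul_mem hh (F.D₀_le_E hc)) F.b_mem_E)
  obtain ⟨u, hu, hωu⟩ : ∃ u, (u = 1 ∨ u = F.w) ∧ ω = F.w' * u := by
    rcases F.W_cases hω with h1 | h1 | h1 | h1
    · exact absurd (h1 ▸ one_mem _) hωnE
    · exact absurd (h1 ▸ F.w_E) hωnE
    · exact ⟨1, Or.inl rfl, by rw [mul_one, h1]⟩
    · exact ⟨F.w, Or.inr rfl, by rw [h1, comm_of_exp_two s.V_sq F.w'_V F.w_V]⟩
  set r := F.w' * F.b with hr
  have huZ : u ∈ s.V ⊓ F.sw.E := by rcases hu with rfl | rfl; exacts [one_mem _, F.w_mem_Z]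
  have huu : u * u = 1 := s.V_sq u huZ.1
  set f := u * c with hfdef
  have hfD : f ∈ s.D := mul_mem (s.V_le_D huZ.1) (F.D₀_le_D hc)
  have hub : u * F.b = F.b * u := F.b_comm_E huZ.2
  have hfb : f * F.b = F.b * f := by
    calc u * c * F.b = u * (c * F.b) := mul_assoc _ _ _
      _ = (u * F.b) * c := by rw [hcb, mul_assoc]
      _ = _ := by rw [hub, mul_assoc]
  have hf₂r : f₂ = r * f := by
    rw [hf₂eq, hωu, hr]
    calc F.w' * u * c * F.b = F.w' * (f * F.b) := by rw [hfdef]; group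
      _ = F.w' * F.b * f := by rw [hfb]; group
  have hgw' : F.sw.g * F.w' * F.sw.g = F.b := F.b_eq.symm
  have hgb : F.sw.g * F.b * F.sw.g = F.w' := by
    rw [F.b_eq, show F.sw.g * (F.sw.g * F.toFrame.w' * F.sw.g) * F.sw.g = (F.sw.g * F.sw.g) * F.w' * (F.sw.g * F.sw.g) by group,
      F.g_sq, one_mul, mul_one]
  have hgr : F.sw.g * r * F.sw.g = F.b * F.w' := by
    rw [hr]
    calc F.sw.g * (F.w' * F.b) * F.sw.g = (F.sw.g * F.w' * F.sw.g) * (F.sw.g⁻¹ * F.b * F.sw.g) := by group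
      _ = _ := by rw [F.g_inv, hgw', hgb]
  have hrr : r * r = F.w := by
    calc r * r = F.w' * (F.b * F.w' * F.b) := by rw [hr]; group
      _ = _ := by rw [F.b_w', ← mul_assoc, comm_of_exp_two s.V_sq F.w'_V F.w_V, mul_assoc, F.w'_sq, mul_one]
  have hbw : r * (F.b * F.w') = 1 := by
    rw [hr, show F.w' * F.b * (F.b * F.w') = F.w' * (F.b * F.b) * F.w' by group, F.b_sq, mul_one, F.w'_sq]
  have hgf : F.sw.g * f * F.sw.g = F.w * f := by
    have h1 : F.sw.g * f₂ * F.sw.g = f₂ := by rw [← hf₂g, mul_assoc, F.g_sq, mul_one]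
    rw [hf₂r] at h1
    rw [← hrr]
    calc F.sw.g * f * F.sw.g = r * (F.b * F.w') * (F.sw.g * f * F.sw.g) := by rw [hbw, one_mul]
      _ = r * ((F.sw.g * r * F.sw.g) * (F.sw.g * f * F.sw.g)) := by rw [hgr]; group
      _ = r * (F.sw.g * (r * f) * F.sw.g) := by
        congr 1
        calc F.sw.g * r * F.sw.g * (F.sw.g * f * F.sw.g) = F.sw.g * r * (F.sw.g * F.sw.g) * f * F.sw.g := by group
          _ = _ := by rw [F.g_sq]; group
      _ = r * r * f := by rw [h1]; group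
  have hfsq : f * f = c * c := by
    have huc : c * u = u * c := s.V_comm (F.D₀_le_D hc) huZ.1
    calc u * c * (u * c) = u * (c * u) * c := by group
      _ = (u * u) * (c * c) := by rw [huc]; group
      _ = _ := by rw [huu, one_mul]
  have hcc : c * c = e := by
    refine (hroots c (hFD ▸ hc)).2.resolve_left fun hc2 => ?_
    have hcV : c ∈ s.V := F.mem_V_of_D₀ hc hc2 fun d hd => F.D₀_comm hd hc
    have hfZ : f ∈ s.V ⊓ F.sw.E := mul_mem huZ ⟨hcV, F.D₀_le_E hc⟩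
    rw [F.g_fix f hfZ, mul_assoc, F.g_sq, mul_one] at hgf
    exact F.w_ne (mul_right_cancel (hgf.symm.trans (one_mul f).symm))
  rw [hcc] at hfsq
  have he'w : e' = F.w * e := by
    rw [← hf₂2, hf₂r]
    have hfr : f * r = r * f := by
      rw [hr]
      calc f * (F.w' * F.b) = (f * F.w') * F.b := by group
        _ = F.w' * (f * F.b) := by rw [s.V_comm hfD F.w'_V]; group
        _ = _ := by rw [hfb]; group
    calc r * f * (r * f) = r * (f * r) * f := by group
      _ = r * r * (f * f) := by rw [hfr]; group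
      _ = _ := by rw [hrr, hfsq]
  have hwz : F.w = s.z := by
    rcases hZ₀ _ F₀.z_mem_Z with h1 | h1 | h1 | h1
    · exact absurd h1 s.hz1
    · exact absurd h1.symm fun hh => F₀.not_conj_z (g := 1) he1 heV heD (by simp [hh])
    · rw [hFw, h1]
    · exfalso
      refine F₀.not_conj_z (g := h) he1 heV heD ?_
      rw [← he', he'w, hFw, h1]
  exact not_cyclic_four_aux F he1 (hFD.symm ▸ heD) heV hhS (by rw [hFg, hFw', ha]) hUC' (by rw [hFU, hU64])
    hwz he'w hhU' hfD hfsq hfb hgf (by rw [hFE, hFw]; exact hZ₀)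

end IFrame

end Cfsg.Agent.LenEight
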