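import Cfsg.Agent.Lib.LenEight.KillFour
import Cfsg.Agent.Lib.TwoGroups.CentFour
import Cfsg.Agent.Lib.SmallCent.Transfer

/-!
With trivial complement the Sylow 2-subgroup is dihedral of order `128`.
-/

set_option autoImplicit false
set_option linter.style.haveILetI false
set_option linter.unusedSectionVars false
set_option linter.unusedVariables false

namespace Cfsg.Agent.LenEight

open Cfsg.Agent

universe u

variable {G : Type u} [Group G] [Finite G] [IsSimpleGroup G] {s : Setting G}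

theorem Setting.not_isCyclic (s : Setting G) : ¬ IsCyclic G := fun h => by
  haveI := h
  exact s.h.nonab ⟨⟨fun a b => (IsCyclic.commGroup (α := G)).mul_comm a b⟩⟩

/-- A semidihedral Sylow subgroup with self-centralising central involution is impossible. -/
theorem Setting.not_semidihedral (s : Setting G) {a y : ↥(s.S : Subgroup G)}
    (ha : orderOf a = 64) (hy : orderOf y = 2) (hya : y * a * y⁻¹ = a ^ 31) : False := by
  classical
  haveI : Fact (Nat.Prime 2) := ⟨Nat.prime_two⟩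
  have hyy : y * y = 1 := by rw [← pow_two]; exact orderOf_dvd_iff_pow_eq_one.1 hy.dvd
  have hy1 : ∀ k : ℤ, y * a ^ k = a ^ (31 * k) * y := by
    intro k
    rw [zpow_mul, show a ^ (31 : ℤ) = y * a * y⁻¹ by rw [hya]; exact zpow_natCast a 31, conj_zpow]
    group
  have hz : ∀ k : ℤ, a ^ k = 1 ↔ (64 : ℤ) ∣ k := by
    intro k
    rw [← orderOf_dvd_iff_zpow_eq_one, ha]
    norm_num
  have hz' : ∀ k l : ℤ, a ^ k = a ^ l ↔ (64 : ℤ) ∣ k - l := by
    intro k l
    rw [← hz, zpow_sub, mul_inv_eq_one]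
  have hyA : ∀ k : ℤ, a ^ k ≠ y := by
    intro k hk
    have h1 : y * a * y⁻¹ = a := by
      rw [← hk]; exact (Commute.zpow_self a k).mul_inv_cancel
    rw [hya] at h1
    have := (hz' 31 1).1 (by rw [zpow_one]; exact (zpow_natCast a 31).trans h1)
    norm_num at this
  have hidxA : (Subgroup.zpowers a).index = 2 := by
    have h1 := (Subgroup.zpowers a).card_mul_index
    rw [Nat.card_zpowers, ha, s.h.card] at h1
    omega
  have hform : ∀ v, ∃ k : ℤ, v = a ^ k ∨ v = a ^ k * y := by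
    intro v
    by_cases hv : v ∈ Subgroup.zpowers a
    · obtain ⟨k, rfl⟩ := Subgroup.mem_zpowers_iff.1 hv
      exact ⟨k, Or.inl rfl⟩
    · have hyn : y ∉ Subgroup.zpowers a := fun h => by
        obtain ⟨k, hk⟩ := Subgroup.mem_zpowers_iff.1 h
        exact hyA k hk
      obtain ⟨k, hk⟩ := Subgroup.mem_zpowers_iff.1
        ((Subgroup.mul_mem_iff_of_index_two hidxA).2 (iff_of_false hv hyn))
      exact ⟨k, Or.inr (by rw [hk, mul_assoc, hyy, mul_one])⟩
  let Q : Subgroup ↥(s.S : Subgroup G) :=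
    { carrier := {v | ∃ i : ℤ, v = a ^ (2 * i) ∨ v = a ^ (2 * i) * y}
      one_mem' := ⟨0, Or.inl (by rw [mul_zero, zpow_zero])⟩
      mul_mem' := by
        rintro u v ⟨i, rfl | rfl⟩ ⟨j, rfl | rfl⟩
        · exact ⟨i + j, Or.inl (by rw [mul_add, zpow_add])⟩
        · exact ⟨i + j, Or.inr (by rw [← mul_assoc, mul_add, zpow_add])⟩
        · exact ⟨i + 31 * j, Or.inr (by
            rw [mul_assoc, hy1, ← mul_assoc, ← zpow_add]; congr 2; ring)⟩
        · exact ⟨i + 31 * j, Or.inl (by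
            rw [mul_assoc, ← mul_assoc y, hy1, mul_assoc (a ^ (31 * (2 * j))), hyy, mul_one, ← zpow_add]
            congr 1; ring)⟩
      inv_mem' := by
        rintro u ⟨i, rfl | rfl⟩
        · exact ⟨-i, Or.inl (by rw [mul_neg, zpow_neg])⟩
        · refine ⟨-(31 * i), Or.inr ?_⟩
          rw [mul_inv_rev, inv_eq_of_mul_eq_one_right hyy, ← zpow_neg, hy1]
          congr 2; ring }
  have hQa : ∀ k : ℤ, (a ^ k ∈ Q ↔ 2 ∣ k) ∧ (a ^ k * y ∈ Q ↔ 2 ∣ k) := by
    intro k
    refine ⟨⟨?_, ?_⟩, ⟨?_, ?_⟩⟩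
    · rintro ⟨i, h | h⟩
      · have := (hz' _ _).1 h; omega
      · refine absurd ?_ (hyA (-(2 * i) + k))
        rw [zpow_add, h, zpow_neg, inv_mul_cancel_left]
    · rintro ⟨i, rfl⟩; exact ⟨i, Or.inl rfl⟩
    · rintro ⟨i, h | h⟩
      · refine absurd ?_ (hyA (-k + 2 * i))
        rw [zpow_add, ← h, zpow_neg, inv_mul_cancel_left]
      · have := (hz' _ _).1 (mul_right_cancel h); omega
    · rintro ⟨i, rfl⟩; exact ⟨i, Or.inr rfl⟩
  have hQ2 : Q.index = 2 := by
    rw [Subgroup.index_eq_two_iff]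
    refine ⟨a, fun b => ?_⟩
    obtain ⟨k, rfl | rfl⟩ := hform b
    · rw [← zpow_add_one, xor_iff_not_iff, (hQa k).1, (hQa (k + 1)).1]; omega
    · rw [show a ^ k * y * a = a ^ (k + 31) * y by
        conv_lhs => rw [mul_assoc, ← zpow_one a, hy1, ← mul_assoc, ← zpow_mul, ← zpow_add]
        congr 2; ring, xor_iff_not_iff, (hQa k).2, (hQa (k + 31)).2]
      omega
  have hsqy : ∀ k : ℤ, a ^ k * y * (a ^ k * y) = a ^ (32 * k) := by
    intro k
    rw [mul_assoc, ← mul_assoc y, hy1, mul_assoc (a ^ (31 * k)), hyy, mul_one, ← zpow_add]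
    congr 1; ring
  have hroot : ∀ v : ↥(s.S : Subgroup G), v * v ≠ 1 → v * v * (v * v) = 1 → v * v = a ^ (32 : ℤ) := by
    intro v h1 h2
    obtain ⟨k, rfl | rfl⟩ := hform v
    · rw [← zpow_add] at h1 h2 ⊢
      rw [← zpow_add, hz] at h2
      rw [Ne, hz] at h1
      rw [hz']; omega
    · rw [hsqy] at h1 h2 ⊢
      rw [← zpow_add, hz] at h2
      rw [Ne, hz] at h1
      rw [hz']; omega
  have hsmallQ : ∀ v : ↥(s.S : Subgroup G), v * v = 1 → v ∈ Q := by
    intro v hv
    obtain ⟨k, rfl | rfl⟩ := hform v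
    · rw [← zpow_add, hz] at hv
      exact (hQa k).1.2 (by omega)
    · rw [hsqy, hz] at hv
      exact (hQa k).2.2 (by omega)
  -- the element of order four outside `Q`
  set w : ↥(s.S : Subgroup G) := a ^ (1 : ℤ) * y with hw
  have hwQ : w ∉ Q := fun h => absurd ((hQa 1).2.1 h) (by norm_num)
  have hw2 : w * w = a ^ (32 : ℤ) := by rw [hw, hsqy, mul_one]
  have hc1 : a ^ (32 : ℤ) ≠ 1 := by rw [Ne, hz]; norm_num
  have hc4 : a ^ (32 : ℤ) * a ^ (32 : ℤ) = 1 := by rw [← zpow_add, hz]; norm_num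
  have hwo : orderOf w = 2 ^ 2 := by
    refine orderOf_eq_prime_pow (p := 2) (n := 1) ?_ ?_
    · rw [pow_one, pow_two, hw2]; exact hc1
    · rw [show (2 : ℕ) ^ (1 + 1) = 2 * 2 from rfl, pow_mul, pow_two w, hw2, pow_two, hc4]
  -- the square is central in `S`
  set c : G := ((a ^ (32 : ℤ) : ↥(s.S : Subgroup G)) : G) with hc
  have hcc : ∀ x ∈ (s.S : Subgroup G), x * c = c * x := by
    intro x hx
    refine congrArg Subtype.val (show (⟨x, hx⟩ : ↥(s.S : Subgroup G)) * a ^ (32 : ℤ) = a ^ (32 : ℤ) * ⟨x, hx⟩ from ?_)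
    obtain ⟨k, h | h⟩ := hform ⟨x, hx⟩ <;> rw [h]
    · exact ((Commute.refl a).zpow_zpow k 32).eq
    · rw [mul_assoc, hy1, ← mul_assoc, ← mul_assoc, ← zpow_add, ← zpow_add]
      congr 1
      rw [hz']; omega
  have hcne : c ≠ 1 := fun h => hc1 (Subtype.ext h)
  refine SmallCent.false_of_transfer s.not_isCyclic s.S Q hQ2 (w := (w : G)) (m := 2)
    (by rw [Subgroup.orderOf_coe, hwo]) (fun v hv => ?_) (fun g hg hgQ => ?_)
  · refine hsmallQ v ?_
    rw [Subgroup.orderOf_coe, hwo] at hv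
    obtain ⟨i, hi, hvi⟩ := (Nat.dvd_prime_pow Nat.prime_two).1
      (show orderOf v ∣ 2 ^ 7 by rw [← s.h.card]; exact orderOf_dvd_natCard v)
    have hi2 : i ≤ 1 := by
      by_contra hc
      have : 2 ^ 2 ≤ 2 ^ i := Nat.pow_le_pow_right two_pos (by omega)
      omega
    rw [← pow_two]
    exact orderOf_dvd_iff_pow_eq_one.1 (hvi ▸ (pow_dvd_pow 2 hi2).trans (by norm_num))
  · set v : ↥(s.S : Subgroup G) := ⟨g⁻¹ * (w : G) * g, hg⟩ with hv
    have hwG : (w : G) * w = c := congrArg Subtype.val hw2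
    have hvv : ((v * v : ↥(s.S : Subgroup G)) : G) = g⁻¹ * c * g := by
      show g⁻¹ * (w : G) * g * (g⁻¹ * (w : G) * g) = _
      rw [← hwG]; group
    have hc2 : c * c = 1 := congrArg Subtype.val hc4
    have h1 : v * v ≠ 1 := fun h => hcne (by
      rw [h, Subgroup.coe_one] at hvv
      calc c = g * (g⁻¹ * c * g) * g⁻¹ := by group
        _ = 1 := by rw [← hvv]; group)
    have h2 : v * v * (v * v) = 1 := Subtype.ext (by
      rw [Subgroup.coe_mul, hvv, Subgroup.coe_one,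
        show g⁻¹ * c * g * (g⁻¹ * c * g) = g⁻¹ * (c * c) * g by group, hc2, mul_one, inv_mul_cancel])
    have h3 := hroot v h1 h2
    rw [h3] at hvv
    have hgS : g ∈ (s.S : Subgroup G) := s.h.mem_sylow_of_comm hcne hcc (by
      calc g * c = g * (g⁻¹ * c * g) := by rw [← hvv]
        _ = c * g := by group)
    haveI : Q.Normal := Subgroup.normal_of_index_eq_two hQ2
    refine hwQ ?_
    have h4 := Subgroup.Normal.conj_mem inferInstance v hgQ ⟨g, hgS⟩
    convert h4 using 1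
    exact Subtype.ext (show (w : G) = g * (g⁻¹ * (w : G) * g) * g⁻¹ by group)

namespace IFrame

/-- With trivial complement the Sylow 2-subgroup is dihedral. -/
theorem dihedral_of_one (F : IFrame s) (h1 : Nat.card F.D₀ = 1) :
    Nonempty (↥(s.S : Subgroup G) ≃* DihedralGroup 64) := by
  classical
  haveI : Fact (Nat.Prime 2) := ⟨Nat.prime_two⟩
  have hD₀ : ∀ d ∈ F.D₀, d = 1 := fun d hd => by
    rwa [Subgroup.card_eq_one.1 h1, Subgroup.mem_bot] at hd
  have hDW : ∀ d ∈ s.D, d ∈ F.W := by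
    intro d hd
    obtain ⟨ω, hω, d₀, hd₀, rfl⟩ := F.D_cases hd
    rwa [hD₀ d₀ hd₀, mul_one]
  have hzw : s.z = F.w := by
    obtain ⟨hzV, hzE⟩ := Subgroup.mem_inf.1 F.z_mem_Z
    rcases F.W_cases (hDW _ (s.V_le_D hzV)) with h | h | h | h
    · exact absurd h s.hz1
    · exact h
    · exact absurd (h ▸ hzE) F.w'_not_E
    · refine absurd ?_ F.w'_not_E
      have := mul_mem F.w_E (h ▸ hzE : F.w * F.w' ∈ F.sw.E)
      rwa [← mul_assoc, F.w_sq, one_mul] at this
  have hC : ∀ x ∈ (s.S : Subgroup G), x * F.w' = F.w' * x → x ∈ F.W := by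
    intro x hx hxw
    have hxz : x * F.w = F.w * x := by rw [← hzw]; exact s.hz x hx
    have hfix : ∀ v ∈ s.V, x * v = v * x := by
      intro v hv
      rcases F.W_cases (hDW _ (s.V_le_D hv)) with h | h | h | h <;> rw [h]
      · rw [one_mul, mul_one]
      · exact hxz
      · exact hxw
      · exact ((show Commute x F.w from hxz).mul_right (show Commute x F.w' from hxw)).eq
    have hxT : x ∈ s.T := by
      refine s.stab_V hx (Subgroup.eq_of_le_of_card_ge ?_ (card_cjg _ _).ge)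
      rintro _ ⟨v, hv, rfl⟩
      show x * v * x⁻¹ ∈ s.V
      rwa [hfix v hv, mul_inv_cancel_right]
    exact hDW x (F.mem_D_of_comm (F.T_le_U hxT) hxw)
  let x₀ : ↥(s.S : Subgroup G) := ⟨F.w', s.hTS (s.D_le_T F.w'_D)⟩
  have hx₀ : orderOf x₀ = 2 := orderOf_eq_prime
    (Subtype.ext (show F.w' ^ 2 = 1 by rw [pow_two, F.w'_sq])) fun h => F.w'_ne (congrArg Subtype.val h)
  have hcent : Subgroup.centralizer ({x₀} : Set ↥(s.S : Subgroup G)) = F.W.subgroupOf (s.S : Subgroup G) := by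
    ext v
    rw [Subgroup.mem_centralizer_singleton_iff, Subgroup.mem_subgroupOf]
    refine ⟨fun h => hC v v.2 (congrArg Subtype.val h), fun h => Subtype.ext ?_⟩
    exact comm_of_exp_two s.V_sq (F.W_le_V h) F.w'_V
  have hW4 : Nat.card ↥(Subgroup.centralizer ({x₀} : Set ↥(s.S : Subgroup G))) = 4 := by
    rw [hcent, Nat.card_congr (Subgroup.subgroupOfEquivOfLe
      (F.W_le_V.trans (s.V_le_T.trans s.hTS))).toEquiv, F.card_W]
  rcases CentFour.dihedral_or_quasiDihedral s.S.isPGroup' hx₀ hW4 with ⟨n, ⟨e⟩⟩ | hq | h4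
  · have hn := Nat.card_congr e.toEquiv
    rw [s.h.card, DihedralGroup.nat_card] at hn
    obtain rfl : n = 64 := by omega
    exact ⟨e⟩
  · obtain ⟨n, hn3, hn, a, y, ha, hy, hya⟩ := hq
    rw [s.h.card] at hn
    obtain rfl : n = 6 := by have := Nat.pow_right_injective le_rfl hn; omega
    exact (s.not_semidihedral (by rw [ha]; rfl) hy (by rw [hya]; rfl)).elim
  · rw [s.h.card] at h4; norm_num at h4

end IFrame

end Cfsg.Agent.LenEight
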