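import Cfsg.Agent.Lib.LenEight.Basic

/-!
The choice of a member of the family with largest 2-part and, subject to this, least order.
-/

set_option autoImplicit false
set_option linter.style.haveILetI false
set_option linter.unusedSectionVars false

namespace Cfsg.Agent.LenEight

open Cfsg.Agent

universe u

/-- The chosen configuration. -/
structure Setting (G : Type u) [Group G] where
  S : Sylow 2 G
  h : Len8 S
  z : G
  hzo : orderOf z = 2
  hzS : z ∈ (S : Subgroup G)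
  hz : ∀ s ∈ (S : Subgroup G), s * z = z * s
  M : Subgroup G
  T : Subgroup G
  D : Subgroup G
  k : ℕ
  fam : Fam M
  hTS : T ≤ (S : Subgroup G)
  hTM : T ≤ M
  hTc : Nat.card T = 2 ^ k
  hTsyl : ¬ 2 ∣ T.relIndex M
  hmax : ∀ X : Subgroup G, Fam X → ¬ 2 ^ (k + 1) ∣ Nat.card X
  hmin : ∀ X : Subgroup G, Fam X → X ≤ M → 2 ^ k ∣ Nat.card X → X = M
  hDdef : D = (Cfsg.pCore 2 ↥M).map M.subtype

variable {G : Type u} [Group G] [Finite G] [IsSimpleGroup G]

theorem exists_setting {S₀ : Sylow 2 G} (h₀ : Len8 S₀) : Nonempty (Setting G) := by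
  classical
  haveI : Fact (Nat.Prime 2) := ⟨Nat.prime_two⟩
  obtain ⟨M₀, hM₀⟩ := h₀.exists_fam
  let P : ℕ → Prop := fun k => ∃ X : Subgroup G, Fam X ∧ 2 ^ k ∣ Nat.card X
  set k := Nat.findGreatest P (Nat.card G) with hk
  have hPk : P k := Nat.findGreatest_spec (m := 0) (Nat.zero_le _) ⟨M₀, hM₀, by simp⟩
  have hmax : ∀ X : Subgroup G, Fam X → ¬ 2 ^ (k + 1) ∣ Nat.card X := fun X hX hd => by
    have hle : k + 1 ≤ Nat.card G :=
      (Nat.lt_two_pow_self).le.trans (Nat.le_of_dvd Nat.card_pos (hd.trans (Subgroup.card_subgroup_dvd_card X)))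
    exact absurd (Nat.le_findGreatest (P := P) hle ⟨X, hX, hd⟩) (by omega)
  obtain ⟨M, ⟨hMF, hMd⟩, hMmin⟩ := Set.exists_min_image {X : Subgroup G | Fam X ∧ 2 ^ k ∣ Nat.card X}
    (fun X => Nat.card X) (Set.toFinite _) hPk
  obtain ⟨P₁⟩ : Nonempty (Sylow 2 ↥M) := inferInstance
  set T := (P₁ : Subgroup ↥M).map M.subtype with hT
  have hTc : Nat.card T = 2 ^ k := by
    rw [hT, Subgroup.card_map_of_injective M.subtype_injective, P₁.card_eq_multiplicity]
    congr 1
    refine le_antisymm ?_ ((Nat.prime_two.pow_dvd_iff_le_factorization Nat.card_pos.ne').1 hMd)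
    by_contra hc
    exact hmax M hMF ((pow_dvd_pow 2 (Nat.succ_le_of_lt (not_le.1 hc))).trans (Nat.ordProj_dvd _ _))
  obtain ⟨R, hR⟩ := (IsPGroup.of_card hTc).exists_le_sylow
  obtain ⟨z, hzo, hzR, hz⟩ := (h₀.other R).exists_central
  refine ⟨⟨R, h₀.other R, z, hzo, hzR, hz, M, T, _, k, hMF, hR, Subgroup.map_subtype_le _, hTc, ?_,
    hmax, ?_, rfl⟩⟩
  · rw [hT, Subgroup.relIndex, Subgroup.subgroupOf, Subgroup.comap_map_eq_self_of_injective M.subtype_injective]
    exact P₁.not_dvd_index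
  · intro X hX hXM hd
    exact Subgroup.eq_of_le_of_card_ge hXM (hMmin X ⟨hX, hd⟩)

namespace Setting

variable (s : Setting G)

theorem hz1 : s.z ≠ 1 := fun e => by
  have := s.hzo; rw [e, orderOf_one] at this; norm_num at this

theorem z_sq : s.z * s.z = 1 := by rw [← pow_two, ← s.hzo, pow_orderOf_eq_one]

theorem T_isPGroup : IsPGroup 2 s.T := IsPGroup.of_card s.hTc

theorem centralizer_z : Subgroup.centralizer ({s.z} : Set G) = (s.S : Subgroup G) :=
  s.h.centralizer_eq s.hz1 s.hz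

theorem isPGroup_centralizer {C : Subgroup G} (hzC : s.z ∈ C) :
    IsPGroup 2 ↥(Subgroup.centralizer (C : Set G)) :=
  s.S.isPGroup'.to_le fun _ hc => s.h.mem_sylow_of_comm s.hz1 s.hz
    ((Subgroup.mem_centralizer_iff.1 hc _ hzC).symm)

theorem not_isPGroup : ¬ IsPGroup 2 s.M := s.fam.2.1

theorem T_lt : s.T < s.M :=
  s.hTM.lt_of_ne fun e => s.not_isPGroup (e ▸ s.T_isPGroup)

theorem k_le : s.k ≤ 6 := by
  have := s.h.le s.fam.1 ((hasLen_of_card s.hTc).step s.T_lt)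
  omega

/-- A 2-subgroup of a member of the family has order at most `2 ^ k`. -/
theorem big {X U : Subgroup G} (hX : Fam X) (hU : IsPGroup 2 U) (hUX : U ≤ X) :
    Nat.card U ≤ Nat.card s.T := by
  haveI : Fact (Nat.Prime 2) := ⟨Nat.prime_two⟩
  obtain ⟨j, hj⟩ := IsPGroup.iff_card.1 hU
  rw [hj, s.hTc]
  refine Nat.pow_le_pow_right two_pos ?_
  by_contra hc
  exact s.hmax X hX (((pow_dvd_pow 2 (Nat.succ_le_of_lt (not_le.1 hc))).trans hj.symm.dvd).trans
    (Subgroup.card_dvd_of_le hUX))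

/-- A 2-subgroup of `M` normalised by `M` lies in `D`. -/
theorem le_D {X : Subgroup G} (hXM : X ≤ s.M) (hn : s.M ≤ Subgroup.normalizer (X : Set G))
    (hp : IsPGroup 2 X) : X ≤ s.D := by
  rw [s.hDdef, ← inf_eq_left.2 hXM, ← Subgroup.subgroupOf_map_subtype]
  refine Subgroup.map_mono (PBasic.le_pCore ?_ (hp.comap_of_injective _ s.M.subtype_injective))
  exact Subgroup.normal_subgroupOf_iff_le_normalizer hXM |>.2 hn

theorem D_le_M : s.D ≤ s.M := s.hDdef ▸ Subgroup.map_subtype_le _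

theorem D_isPGroup : IsPGroup 2 s.D := s.hDdef ▸ (PBasic.pCore_isPGroup 2 _).map _

theorem M_le_normalizer_D : s.M ≤ Subgroup.normalizer (s.D : Set G) := by
  intro m hm
  rw [Subgroup.mem_normalizer_iff]
  intro x
  haveI := PBasic.pCore_characteristic 2 ↥s.M
  rw [s.hDdef]
  constructor
  · rintro ⟨a, ha, rfl⟩
    exact ⟨⟨m, hm⟩ * a * ⟨m, hm⟩⁻¹, Subgroup.Normal.conj_mem inferInstance a ha _, rfl⟩
  · rintro ⟨a, ha, he⟩
    refine ⟨⟨m, hm⟩⁻¹ * a * ⟨m, hm⟩, Subgroup.Normal.conj_mem' inferInstance a ha _, ?_⟩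
    show m⁻¹ * (a : G) * m = x
    rw [show (a : G) = m * x * m⁻¹ from he]; group

theorem isPGroup_centralizer_D : IsPGroup 2 ↥(Subgroup.centralizer (s.D : Set G)) := by
  obtain ⟨-, -, D₀, hD₀M, hn, hp, hC⟩ := s.fam
  exact hC.to_le (Subgroup.centralizer_le (s.le_D hD₀M hn hp))

theorem D_le_T : s.D ≤ s.T := by
  haveI : Fact (Nat.Prime 2) := ⟨Nat.prime_two⟩
  haveI := PBasic.pCore_characteristic 2 ↥s.M
  let P : Sylow 2 ↥s.M :=
    (s.T_isPGroup.comap_of_injective s.M.subtype s.M.subtype_injective).toSylow s.hTsyl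
  have h1 := PBasic.pCore_le_sylow P
  intro x hx
  rw [s.hDdef] at hx
  obtain ⟨a, ha, rfl⟩ := hx
  exact h1 ha

theorem D_ne_bot : s.D ≠ ⊥ := fun e => by
  apply s.h.not_isPGroup
  have := s.isPGroup_centralizer_D
  rw [e, show Subgroup.centralizer ((⊥ : Subgroup G) : Set G) = ⊤ from eq_top_iff.2 fun x _ => by
    rw [Subgroup.mem_centralizer_iff]; intro b hb
    rw [SetLike.mem_coe, Subgroup.mem_bot] at hb; simp [hb]] at this
  exact this.of_equiv Subgroup.topEquiv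

theorem normalizer_fam {C : Subgroup G} (hC1 : C ≠ ⊥) (hC : IsPGroup 2 C)
    (hCC : IsPGroup 2 ↥(Subgroup.centralizer (C : Set G)))
    (hn : s.M ≤ Subgroup.normalizer (C : Set G)) : Fam (Subgroup.normalizer (C : Set G)) :=
  fam_normalizer hC1 (fun e => s.h.not_isPGroup ((e ▸ hC : IsPGroup 2 (⊤ : Subgroup G)).of_equiv Subgroup.topEquiv))
    hC hCC fun h2 => s.not_isPGroup (h2.to_le hn)

theorem centralizer_D_le : Subgroup.centralizer (s.D : Set G) ≤ s.D := by
  set C := Subgroup.centralizer (s.D : Set G) with hC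
  set N := Subgroup.normalizer (s.D : Set G) with hN
  have hCN : C ≤ N := Subgroup.centralizer_le_normalizer _
  have hMC : s.M ≤ Subgroup.normalizer (C : Set G) := by
    intro m hm
    rw [Subgroup.mem_normalizer_iff]
    intro x
    rw [hC, Subgroup.mem_centralizer_iff, Subgroup.mem_centralizer_iff]
    have hm' := s.M_le_normalizer_D hm
    constructor
    · intro hx d hd
      have h1 := hx _ ((Subgroup.mem_normalizer_iff''.1 hm' d).1 hd)
      calc d * (m * x * m⁻¹) = m * (m⁻¹ * d * m * x) * m⁻¹ := by group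
        _ = m * (x * (m⁻¹ * d * m)) * m⁻¹ := by rw [h1]
        _ = m * x * m⁻¹ * d := by group
    · intro hx d hd
      have h1 := hx _ ((Subgroup.mem_normalizer_iff.1 hm' d).1 hd)
      calc d * x = m⁻¹ * (m * d * m⁻¹ * (m * x * m⁻¹)) * m := by group
        _ = m⁻¹ * (m * x * m⁻¹ * (m * d * m⁻¹)) * m := by rw [h1]
        _ = x * d := by group
  have hU : IsPGroup 2 (s.T ⊔ C : Subgroup G) :=
    s.T_isPGroup.to_sup_of_normal_right' s.isPGroup_centralizer_D (s.hTM.trans hMC)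
  have hle : s.T ⊔ C ≤ N := sup_le (s.hTM.trans s.M_le_normalizer_D) hCN
  have := s.big (s.normalizer_fam s.D_ne_bot s.D_isPGroup s.isPGroup_centralizer_D
    s.M_le_normalizer_D) hU hle
  have e := Subgroup.eq_of_le_of_card_ge (le_sup_left : s.T ≤ s.T ⊔ C) this
  exact s.le_D ((le_sup_right.trans e.ge).trans s.hTM) hMC s.isPGroup_centralizer_D

theorem z_mem_D : s.z ∈ s.D :=
  s.centralizer_D_le (Subgroup.mem_centralizer_iff.2 fun d hd => s.hz d (s.hTS (s.D_le_T hd)))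

theorem z_mem_T : s.z ∈ s.T := s.D_le_T s.z_mem_D

/-- The stabiliser in `S` of an `M`-invariant 2-subgroup containing `z` is `T`. -/
theorem key {C : Subgroup G} (hzC : s.z ∈ C) (hC : IsPGroup 2 C)
    (hn : s.M ≤ Subgroup.normalizer (C : Set G)) :
    (s.S : Subgroup G) ⊓ Subgroup.normalizer (C : Set G) = s.T := by
  refine (Subgroup.eq_of_le_of_card_ge (le_inf s.hTS (s.hTM.trans hn)) ?_).symm
  exact s.big (s.normalizer_fam (fun e => s.hz1 (by rwa [e, Subgroup.mem_bot] at hzC)) hC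
    (s.isPGroup_centralizer hzC) hn) (s.S.isPGroup'.to_le inf_le_left) inf_le_right

theorem not_mem_normalizer {C : Subgroup G} (hzC : s.z ∈ C) (hC : IsPGroup 2 C)
    (hn : s.M ≤ Subgroup.normalizer (C : Set G)) {g : G} (hg : g ∈ (s.S : Subgroup G))
    (hgT : g ∉ s.T) : g ∉ Subgroup.normalizer (C : Set G) :=
  fun h => hgT ((s.key hzC hC hn).le ⟨hg, h⟩)

/-- `T` is maximal in `M`. -/
theorem eq_of_between {X : Subgroup G} (hTX : s.T ≤ X) (hXM : X ≤ s.M) : X = s.T ∨ X = s.M := by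
  haveI : Fact (Nat.Prime 2) := ⟨Nat.prime_two⟩
  by_cases hX : IsPGroup 2 X
  · refine Or.inl (Subgroup.eq_of_le_of_card_ge hTX ?_).symm
    exact s.big s.fam hX hXM
  · refine Or.inr (s.hmin X ⟨fun e => s.fam.1 (top_le_iff.1 (e ▸ hXM)), hX, s.D,
      s.D_le_T.trans hTX, hXM.trans s.M_le_normalizer_D, s.D_isPGroup, s.isPGroup_centralizer_D⟩ hXM ?_)
    rw [← s.hTc]
    exact Subgroup.card_dvd_of_le hTX

/-- An element of `N_S(T) ∖ T` with square in `T`. -/
theorem exists_swap : ∃ g ∈ (s.S : Subgroup G), g ∉ s.T ∧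
    g ∈ Subgroup.normalizer (s.T : Set G) ∧ g * g ∈ s.T := by
  haveI : Fact (Nat.Prime 2) := ⟨Nat.prime_two⟩
  have hlt : s.T < (s.S : Subgroup G) := s.hTS.lt_of_ne fun e => by
    have h1 := s.h.card
    rw [← e, s.hTc] at h1
    have := Nat.pow_right_injective le_rfl h1
    have := s.k_le
    omega
  have h2 := Fusion.lt_inf_normalizer (Fusion.sylow_isNilpotent s.S) hlt
  obtain ⟨g₀, hg₀, hg₀T⟩ := SetLike.exists_of_lt h2
  classical
  obtain ⟨n, hn⟩ := s.S.isPGroup' ⟨g₀, hg₀.1⟩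
  have hex : ∃ i, g₀ ^ 2 ^ i ∈ s.T :=
    ⟨n, by rw [show g₀ ^ 2 ^ n = 1 from congrArg Subtype.val hn]; exact one_mem _⟩
  have h0 : Nat.find hex ≠ 0 := fun e => hg₀T (by simpa [e] using Nat.find_spec hex)
  refine ⟨g₀ ^ 2 ^ (Nat.find hex - 1), pow_mem hg₀.1 _, Nat.find_min hex (by omega),
    pow_mem hg₀.2 _, ?_⟩
  rw [← pow_add, ← two_mul, ← pow_succ', Nat.sub_add_cancel (Nat.one_le_iff_ne_zero.2 h0)]
  exact Nat.find_spec hex

theorem T_not_normal : ¬ s.M ≤ Subgroup.normalizer (s.T : Set G) := fun hn => by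
  obtain ⟨g, hgS, hgT, hgN, -⟩ := s.exists_swap
  exact s.not_mem_normalizer s.z_mem_T s.T_isPGroup hn hgS hgT hgN

end Setting

end Cfsg.Agent.LenEight
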