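import Cfsg.Agent.Lib.LenEight.Setting
import Cfsg.Agent.Lib.LenEight.Tools
import Cfsg.Agent.Lib.LenEight.FFAction
import Mathlib.GroupTheory.Subgroup.Centralizer

/-!
The quotient by the 2-core is the symmetric group of degree three.
-/

set_option autoImplicit false
set_option linter.style.haveILetI false
set_option linter.unusedSectionVars false

namespace Cfsg.Agent.LenEight

open Cfsg.Agent

universe u

variable {G : Type u} [Group G] [Finite G] [IsSimpleGroup G]

namespace Setting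

variable (s : Setting G)

/-- The module. -/
def V : Subgroup G := omegaZ s.D

theorem V_le_D : s.V ≤ s.D := omegaZ_le _

theorem V_le_T : s.V ≤ s.T := s.V_le_D.trans s.D_le_T

theorem V_sq : ∀ x ∈ s.V, x * x = 1 := fun _ hx => hx.2.1

theorem V_comm {d x : G} (hd : d ∈ s.D) (hx : x ∈ s.V) : d * x = x * d := hx.2.2 d hd

theorem z_mem_V : s.z ∈ s.V :=
  ⟨s.z_mem_D, s.z_sq, fun d hd => s.hz d (s.hTS (s.D_le_T hd))⟩

theorem V_isPGroup : IsPGroup 2 s.V := s.D_isPGroup.to_le s.V_le_D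

theorem M_le_normalizer_V : s.M ≤ Subgroup.normalizer (s.V : Set G) :=
  s.M_le_normalizer_D.trans (omegaZ_normalizer _)

/-- Involutions central in `T` lie in `V`. -/
theorem mem_V_of_central {x : G} (hx : x * x = 1) (hc : ∀ t ∈ s.T, t * x = x * t) : x ∈ s.V :=
  ⟨s.centralizer_D_le (Subgroup.mem_centralizer_iff.2 fun d hd => hc d (s.D_le_T hd)), hx,
    fun d hd => hc d (s.D_le_T hd)⟩

theorem cent_V_le {x : G} (hx : x ∈ s.M) (hc : ∀ v ∈ s.V, x * v = v * x) : x ∈ s.D := by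
  refine s.le_D (X := s.M ⊓ Subgroup.centralizer (s.V : Set G)) inf_le_left ?_ ?_
    ⟨hx, Subgroup.mem_centralizer_iff.2 fun v hv => (hc v hv).symm⟩
  · intro m hm
    rw [Subgroup.mem_normalizer_iff]
    intro y
    rw [Subgroup.mem_inf, Subgroup.mem_inf, Subgroup.mem_centralizer_iff, Subgroup.mem_centralizer_iff]
    have hm' := s.M_le_normalizer_V hm
    refine and_congr ⟨fun h => mul_mem (mul_mem hm h) (inv_mem hm), fun h => ?_⟩ ⟨fun h v hv => ?_, fun h v hv => ?_⟩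
    · have := mul_mem (mul_mem (inv_mem hm) h) hm
      rwa [show m⁻¹ * (m * y * m⁻¹) * m = y by group] at this
    · have h1 := h _ ((Subgroup.mem_normalizer_iff''.1 hm' v).1 hv)
      calc v * (m * y * m⁻¹) = m * (m⁻¹ * v * m * y) * m⁻¹ := by group
        _ = m * (y * (m⁻¹ * v * m)) * m⁻¹ := by rw [h1]
        _ = m * y * m⁻¹ * v := by group
    · have h1 := h _ ((Subgroup.mem_normalizer_iff.1 hm' v).1 hv)
      calc v * y = m⁻¹ * (m * v * m⁻¹ * (m * y * m⁻¹)) * m := by group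
        _ = m⁻¹ * (m * y * m⁻¹ * (m * v * m⁻¹)) * m := by rw [h1]
        _ = y * v := by group
  · exact (s.isPGroup_centralizer s.z_mem_V).to_le inf_le_right

/-- An offending subgroup outside `D`. -/
theorem exists_offender : ∃ A : Subgroup G, A ≤ s.T ∧ ¬ A ≤ s.D ∧ (∀ a ∈ A, a * a = 1) ∧
    Nat.card s.V * Nat.card ↥(A ⊓ s.D) ≤ Nat.card A * Nat.card ↥(s.V ⊓ A) := by
  classical
  let P : Subgroup G → Prop := fun A => A ≤ s.T ∧ ∀ a ∈ A, a * a = 1
  obtain ⟨A₀, hA₀, hmax⟩ := Set.exists_max_image {A : Subgroup G | P A} (fun A => Nat.card A)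
    (Set.toFinite _) ⟨⊥, bot_le, fun a ha => by rw [Subgroup.mem_bot] at ha; rw [ha, mul_one]⟩
  have hzA : ∀ A, P A → Nat.card A₀ ≤ Nat.card A → s.z ∈ A := by
    intro A hA hle
    have hP : P (A ⊔ Subgroup.zpowers s.z) :=
      ⟨sup_le hA.1 (Subgroup.zpowers_le.2 s.z_mem_T), sup_exp_two hA.2 (zpowers_exp_two s.z_sq)
        fun a ha b hb => by
          obtain ⟨n, rfl⟩ := hb
          exact ((show Commute a s.z from s.hz a (s.hTS (hA.1 ha))).zpow_right n).eq⟩
    have e := Subgroup.eq_of_le_of_card_ge (le_sup_left : A ≤ A ⊔ Subgroup.zpowers s.z)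
      ((hmax _ hP).trans hle)
    rw [e]
    exact Subgroup.mem_sup_right (Subgroup.mem_zpowers _)
  obtain ⟨A, hA, hAc, hAD⟩ : ∃ A, P A ∧ Nat.card A₀ ≤ Nat.card A ∧ ¬ A ≤ s.D := by
    by_contra hno
    push Not at hno
    set J := Subgroup.closure {x : G | ∃ A, P A ∧ Nat.card A₀ ≤ Nat.card A ∧ x ∈ A} with hJ
    have hJD : J ≤ s.D := (Subgroup.closure_le _).2 fun x ⟨A, h1, h2, h3⟩ => hno A h1 h2 h3
    have hzJ : s.z ∈ J := Subgroup.subset_closure ⟨A₀, hA₀, le_rfl, hzA A₀ hA₀ le_rfl⟩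
    have hmap : ∀ c : G, (∀ A, P A → Nat.card A₀ ≤ Nat.card A → A.map (MulAut.conj c).toMonoidHom ≤ s.T) →
        c ∈ Subgroup.normalizer (J : Set G) := by
      intro c hc
      have hle : J.map (MulAut.conj c).toMonoidHom ≤ J := by
        rw [hJ, MonoidHom.map_closure, Subgroup.closure_le]
        rintro _ ⟨x, ⟨A, h1, h2, h3⟩, rfl⟩
        refine Subgroup.subset_closure ⟨A.map (MulAut.conj c).toMonoidHom, ⟨hc A h1 h2, ?_⟩,
          h2.trans (Subgroup.card_map_of_injective (MulAut.conj c).injective).ge, ⟨x, h3, rfl⟩⟩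
        rintro _ ⟨a, ha, rfl⟩
        rw [← map_mul, h1.2 a ha, map_one]
      exact Subgroup.mem_normalizer_iff_map_conj_eq.2
        (Subgroup.eq_of_le_of_card_ge hle (Subgroup.card_map_of_injective (MulAut.conj c).injective).ge)
    obtain ⟨g, hgS, hgT, hgN, -⟩ := s.exists_swap
    refine s.not_mem_normalizer hzJ (s.D_isPGroup.to_le hJD) (fun m hm => hmap m fun A h1 h2 => ?_)
      hgS hgT (hmap g fun A h1 h2 => ?_)
    · rintro _ ⟨a, ha, rfl⟩
      exact s.D_le_T ((Subgroup.mem_normalizer_iff.1 (s.M_le_normalizer_D hm) a).1 (hno A h1 h2 ha))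
    · rintro _ ⟨a, ha, rfl⟩
      exact (Subgroup.mem_normalizer_iff.1 hgN a).1 (h1.1 ha)
  refine ⟨A, hA.1, hAD, hA.2, ?_⟩
  have hVA : ∀ v ∈ s.V, ∀ a ∈ A ⊓ s.D, v * a = a * v := fun v hv a ha => (s.V_comm ha.2 hv).symm
  have hP : P (s.V ⊔ (A ⊓ s.D)) :=
    ⟨sup_le s.V_le_T (inf_le_left.trans hA.1), sup_exp_two s.V_sq (fun a ha => hA.2 a ha.1) hVA⟩
  have h1 := card_sup_mul_inf (A := s.V) (B := A ⊓ s.D) fun v hv =>
    Subgroup.centralizer_le_normalizer _ (Subgroup.mem_centralizer_iff.2 fun a ha => (hVA v hv a ha).symm)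
  rw [← h1]
  exact Nat.mul_le_mul ((hmax _ hP).trans hAc)
    (Subgroup.card_le_of_le (le_inf inf_le_left (inf_le_right.trans inf_le_left)))

/-- The structure of `M` modulo `D`. -/
structure Shape where
  y : G
  hyM : y ∈ s.M
  hy3 : y * y * y ∈ s.D
  hyT : y ∉ s.T
  card_T : Nat.card s.T = 2 * Nat.card s.D
  fix_t : ∀ t ∈ s.T, t ∉ s.D → (s.V ⊓ Subgroup.centralizer ({t} : Set G)).relIndex s.V = 2
  fix_y : (s.V ⊓ Subgroup.centralizer ({y} : Set G)).relIndex s.V = 4
  fix_M : ∀ v ∈ s.V, y * v = v * y → ∀ m ∈ s.M, m * v = v * m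
  inv_y : ∀ t ∈ s.T, t ∉ s.D → t * y * t⁻¹ * y ∈ s.D

theorem exists_shape : Nonempty s.Shape := by
  classical
  haveI : Fact (Nat.Prime 2) := ⟨Nat.prime_two⟩
  set M := s.M with hMdef
  set Dn := s.D.subgroupOf M with hDn
  haveI : Dn.Normal := (Subgroup.normal_subgroupOf_iff_le_normalizer s.D_le_M).2 s.M_le_normalizer_D
  letI : CommGroup s.V :=
    { (inferInstance : Group s.V) with
      mul_comm := fun a b => Subtype.ext (comm_of_exp_two s.V_sq a.2 b.2) }
  let ρ₀ : M →* MulAut s.V := s.V.normalizerMonoidHom.comp (Subgroup.inclusion s.M_le_normalizer_V)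
  have hρ₀ : ∀ (m : M) (v : s.V), ((ρ₀ m v : s.V) : G) = m * v * (m : G)⁻¹ := fun m v => rfl
  have hker : ρ₀.ker = Dn := by
    ext m
    rw [MonoidHom.mem_ker, hDn, Subgroup.mem_subgroupOf]
    constructor
    · intro h
      refine s.cent_V_le m.2 fun v hv => ?_
      have h1 := hρ₀ m ⟨v, hv⟩
      rw [h] at h1
      exact mul_inv_eq_iff_eq_mul.1 h1.symm
    · intro h
      refine MulEquiv.ext fun v => Subtype.ext ?_
      rw [hρ₀, MulAut.one_apply, s.V_comm h v.2, mul_inv_cancel_right]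
  let π : M →* M ⧸ Dn := QuotientGroup.mk' Dn
  have hπ : Function.Surjective π := QuotientGroup.mk'_surjective Dn
  have hπker : π.ker = Dn := QuotientGroup.ker_mk' Dn
  let ρ : M ⧸ Dn →* MulAut s.V := QuotientGroup.lift Dn ρ₀ hker.ge
  have hρ : ∀ (m : M) (v : s.V), ρ (π m) v = ρ₀ m v := fun m v => rfl
  have hinj : Function.Injective ρ := by
    rw [injective_iff_map_eq_one]
    intro x hx
    obtain ⟨m, rfl⟩ := hπ x
    exact (QuotientGroup.eq_one_iff m).2 (hker ▸ MonoidHom.mem_ker.2 hx)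
  set Tn := s.T.subgroupOf M with hTn
  have hDTn : Dn ≤ Tn := fun x hx => s.D_le_T hx
  set Tb := Tn.map π with hTb
  have hTnp : IsPGroup 2 Tn := s.T_isPGroup.comap_of_injective _ M.subtype_injective
  have hTbidx : Tb.index = s.T.relIndex M := Subgroup.index_map_eq _ hπ (hπker.symm ▸ hDTn)
  have hcardT : Nat.card Tb * Nat.card s.D = Nat.card s.T := by
    have h1 := Tb.card_mul_index
    have h2 := Dn.card_eq_card_quotient_mul_card_subgroup
    have h3 := Tn.card_mul_index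
    rw [Nat.card_congr (Subgroup.subgroupOfEquivOfLe s.D_le_M).toEquiv] at h2
    rw [hTn, Nat.card_congr (Subgroup.subgroupOfEquivOfLe s.hTM).toEquiv] at h3
    rw [hTbidx] at h1
    refine Nat.eq_of_mul_eq_mul_right (Nat.pos_of_ne_zero (Subgroup.index_ne_zero_of_finite (H := Tn))) ?_
    show _ * s.T.relIndex M = _ * s.T.relIndex M
    rw [mul_right_comm, h1, ← h2]
    exact h3.symm
  have hmax : ∀ Y : Subgroup (M ⧸ Dn), Tb ≤ Y → Y = Tb ∨ Y = ⊤ := by
    intro Y hY
    have hle : Tn ≤ Y.comap π := Subgroup.map_le_iff_le_comap.1 hY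
    have hb := s.eq_of_between (X := (Y.comap π).map M.subtype)
      (fun x hx => ⟨⟨x, s.hTM hx⟩, hle hx, rfl⟩) (Subgroup.map_subtype_le _)
    have hrev : (Y.comap π).map π = Y := Subgroup.map_comap_eq_self_of_surjective hπ Y
    rcases hb with hb | hb
    · left
      refine le_antisymm ?_ hY
      rw [← hrev, hTb]
      refine Subgroup.map_mono fun x hx => ?_
      rw [hTn, Subgroup.mem_subgroupOf, ← hb]
      exact ⟨x, hx, rfl⟩
    · right
      rw [← hrev, ← Subgroup.map_top_of_surjective π hπ]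
      congr 1
      rw [eq_top_iff]
      intro x _
      obtain ⟨x', hx', he⟩ := hb.ge x.2
      rwa [← Subtype.ext (show (x' : G) = x from he)]
  have hTnn : ¬ Tb.Normal := by
    intro hn
    refine s.T_not_normal ((Subgroup.normal_subgroupOf_iff_le_normalizer s.hTM).1 ?_)
    have h1 := hn.comap π
    rwa [hTb, Subgroup.comap_map_eq_self (hπker.symm ▸ hDTn)] at h1
  have hcore : ∀ N : Subgroup (M ⧸ Dn), N.Normal → IsPGroup 2 N → N = ⊥ := by
    intro N hN hp
    haveI := hN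
    have h1 : IsPGroup 2 (N.comap π) := hp.comap_of_ker_isPGroup π
      (by rw [hπker]; exact hTnp.to_le hDTn)
    have h2 : (N.comap π).map M.subtype ≤ s.D := by
      refine s.le_D (Subgroup.map_subtype_le _) ?_ (h1.map _)
      intro m hm
      rw [Subgroup.mem_normalizer_iff]
      intro x
      constructor
      · rintro ⟨a, ha, rfl⟩
        exact ⟨⟨m, hm⟩ * a * ⟨m, hm⟩⁻¹, Subgroup.Normal.conj_mem inferInstance a ha _, rfl⟩
      · rintro ⟨a, ha, he⟩
        refine ⟨⟨m, hm⟩⁻¹ * a * ⟨m, hm⟩, Subgroup.Normal.conj_mem' inferInstance a ha _, ?_⟩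
        show m⁻¹ * (a : G) * m = x
        rw [show (a : G) = m * x * m⁻¹ from he]; group
    rw [eq_bot_iff, ← Subgroup.map_comap_eq_self_of_surjective hπ N, Subgroup.map_le_iff_le_comap,
      MonoidHom.comap_bot, hπker]
    exact fun x hx => h2 ⟨x, hx, rfl⟩
  have hexp : ∀ v : s.V, v * v = 1 := fun v => Subtype.ext (s.V_sq _ v.2)
  have hbound : Nat.card s.V * Nat.card Tb ≤ 64 := by
    calc Nat.card s.V * Nat.card Tb ≤ Nat.card s.D * Nat.card Tb :=
          Nat.mul_le_mul_right _ (Subgroup.card_le_of_le s.V_le_D)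
      _ = Nat.card s.T := by rw [mul_comm, hcardT]
      _ ≤ 2 ^ 6 := by rw [s.hTc]; exact Nat.pow_le_pow_right two_pos s.k_le
  obtain ⟨A, hAT, hAD, hA2, hAc⟩ := s.exists_offender
  set Ab := (A.subgroupOf M).map π with hAb
  have hAbT : Ab ≤ Tb := Subgroup.map_mono fun x hx => hAT hx
  have hAb1 : Ab ≠ ⊥ := by
    rw [hAb, Ne, Subgroup.map_eq_bot_iff, hπker]
    intro h
    exact hAD fun a ha => h (show (⟨a, s.hTM (hAT ha)⟩ : M) ∈ A.subgroupOf M from ha)
  have hAb2 : ∀ a ∈ Ab, a * a = 1 := by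
    rintro _ ⟨a, ha, rfl⟩
    rw [← map_mul, show a * a = 1 from Subtype.ext (hA2 _ ha), map_one]
  have hFF : Nat.card s.V ≤ Nat.card Ab * Nat.card (fixS ρ (Ab : Set (M ⧸ Dn))) := by
    have hAM : A ≤ M := hAT.trans s.hTM
    have h1 : Nat.card Ab * Nat.card ↥(A ⊓ s.D) = Nat.card A := by
      let f : A →* M ⧸ Dn := π.comp (Subgroup.inclusion hAM)
      have hr : f.range = Ab := by
        ext x
        constructor
        · rintro ⟨a, rfl⟩; exact ⟨_, a.2, rfl⟩
        · rintro ⟨a, ha, rfl⟩; exact ⟨⟨a, ha⟩, rfl⟩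
      have hk : f.ker = (A ⊓ s.D).subgroupOf A := by
        ext a
        rw [MonoidHom.mem_ker, Subgroup.mem_subgroupOf, Subgroup.mem_inf]
        exact (QuotientGroup.eq_one_iff (N := Dn) (Subgroup.inclusion hAM a)).trans ⟨fun h => ⟨a.2, h⟩, fun h => h.2⟩
      have h2 := f.ker.card_mul_index
      rw [Subgroup.index_ker, hr, hk, Nat.card_congr (Subgroup.subgroupOfEquivOfLe inf_le_left).toEquiv,
        mul_comm] at h2
      exact h2
    have h3 : Nat.card ↥(s.V ⊓ A) ≤ Nat.card (fixS ρ (Ab : Set (M ⧸ Dn))) := by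
      refine Nat.card_le_card_of_injective (fun x => ⟨⟨x.1, x.2.1⟩, ?_⟩) ?_
      · rintro _ ⟨a, ha, rfl⟩
        refine Subtype.ext ?_
        rw [hρ, hρ₀]
        show (a : G) * (x : G) * (a : G)⁻¹ = x
        rw [comm_of_exp_two hA2 (show (a : G) ∈ A from ha) x.2.2, mul_inv_cancel_right]
      · exact fun x y h => Subtype.ext (congrArg
          (fun z : fixS ρ (Ab : Set (M ⧸ Dn)) => ((z : s.V) : G)) h)
    refine Nat.le_of_mul_le_mul_right ?_ (Nat.card_pos (α := ↥(A ⊓ s.D)))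
    calc Nat.card s.V * Nat.card ↥(A ⊓ s.D) ≤ Nat.card A * Nat.card ↥(s.V ⊓ A) := hAc
      _ ≤ Nat.card A * Nat.card (fixS ρ (Ab : Set (M ⧸ Dn))) := Nat.mul_le_mul_left _ h3
      _ = _ := by rw [← h1]; ring
  obtain ⟨a, y', haT, ha1, hT2, hX6, hy3, hyT, hia, hiy, hfM⟩ := ff_shape hinj Tb
    (hTnp.map _) (by rw [hTbidx]; exact s.hTsyl) hmax hTnn hcore hexp hbound Ab hAbT hAb1 hAb2 hFF
  obtain ⟨y, rfl⟩ := hπ y'
  have hfix : ∀ m : M, s.V ⊓ Subgroup.centralizer ({(m : G)} : Set G) =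
      (fixS ρ {π m}).map s.V.subtype := by
    intro m
    ext v
    rw [Subgroup.mem_inf, Subgroup.mem_centralizer_singleton_iff, Subgroup.mem_map]
    constructor
    · rintro ⟨hv, hc⟩
      refine ⟨⟨v, hv⟩, mem_fixS.2 (Subtype.ext ?_), rfl⟩
      rw [hρ, hρ₀]
      show (m : G) * v * (m : G)⁻¹ = v
      rw [← hc, mul_inv_cancel_right]
    · rintro ⟨w, hw, rfl⟩
      refine ⟨w.2, ?_⟩
      have h1 := congrArg Subtype.val (mem_fixS.1 hw)
      rw [hρ, hρ₀] at h1
      exact (mul_inv_eq_iff_eq_mul.1 h1).symm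
  have hrel : ∀ m : M, (s.V ⊓ Subgroup.centralizer ({(m : G)} : Set G)).relIndex s.V =
      (fixS ρ {π m}).index := fun m => by
    rw [hfix, Subgroup.relIndex, Subgroup.subgroupOf,
      Subgroup.comap_map_eq_self_of_injective s.V.subtype_injective]
  have hTa : ∀ x ∈ Tb, x = 1 ∨ x = a := by
    intro x hx
    by_contra hcon
    push Not at hcon
    haveI := Fintype.ofFinite Tb
    have h3 : ({1, ⟨x, hx⟩, ⟨a, haT⟩} : Finset Tb).card ≤ 2 := by
      refine (Finset.card_le_univ _).trans ?_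
      rw [← Nat.card_eq_fintype_card, hT2]
    rw [Finset.card_insert_of_notMem (by simp [Subtype.ext_iff, Ne.symm hcon.1, Ne.symm ha1]),
      Finset.card_pair (fun h => hcon.2 (congrArg Subtype.val h))] at h3
    omega
  have hinvy : a * π y * a⁻¹ * π y = 1 := by
    set q := π y with hq
    have hq1 : q ≠ 1 := fun h => hyT (h ▸ Tb.one_mem)
    have ho : orderOf q = 3 := by
      haveI : Fact (Nat.Prime 3) := ⟨by norm_num⟩
      exact orderOf_eq_prime hy3 hq1
    set Q := Subgroup.zpowers q with hQ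
    have hQi : Q.index = 2 := by
      have h1 := Q.card_mul_index
      rw [hQ, Nat.card_zpowers, ho, hX6] at h1
      rw [hQ]; omega
    haveI := Subgroup.normal_of_index_eq_two hQi
    have hmem : a * q * a⁻¹ ∈ Q := Subgroup.Normal.conj_mem inferInstance q (Subgroup.mem_zpowers q) a
    obtain ⟨i, hi, hia'⟩ : ∃ i < 3, q ^ i = a * q * a⁻¹ := by
      rw [mem_zpowers_iff_mem_range_orderOf, ho, Finset.mem_image] at hmem
      obtain ⟨i, hi, he⟩ := hmem
      exact ⟨i, Finset.mem_range.1 hi, he⟩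
    interval_cases i
    · exact absurd (conj_eq_one_iff.1 (by rw [← hia', pow_zero] : a * q * a⁻¹ = 1)) hq1
    · exfalso
      rw [pow_one] at hia'
      have htop : Tb ⊔ Q = ⊤ := (hmax _ le_sup_left).resolve_left fun h =>
        hyT (h.le (Subgroup.mem_sup_right (Subgroup.mem_zpowers q)))
      apply hTnn
      rw [← Subgroup.normalizer_eq_top_iff, eq_top_iff, ← htop]
      refine sup_le Subgroup.le_normalizer (Subgroup.zpowers_le.2 ?_)
      refine Subgroup.centralizer_le_normalizer _ (Subgroup.mem_centralizer_iff.2 fun x hx => ?_)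
      rcases hTa x hx with rfl | rfl
      · rw [one_mul, mul_one]
      · exact (eq_mul_inv_iff_mul_eq.1 hia').symm
    · rw [← hia', ← pow_succ, hy3]
  refine ⟨⟨y, y.2, ?_, fun h => hyT ⟨y, h, rfl⟩, ?_, fun t ht htD => ?_, ?_, fun v hv hc m hm => ?_,
    fun t ht htD => ?_⟩⟩
  · have h1 : y * y * y ∈ Dn := by
      rw [← hπker, MonoidHom.mem_ker, map_mul, map_mul]
      rw [pow_succ, pow_two] at hy3
      exact hy3
    exact h1
  · rw [← hcardT, hT2]
  · have h1 : π ⟨t, s.hTM ht⟩ = a :=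
      (hTa _ ⟨_, ht, rfl⟩).resolve_left fun h =>
        htD ((QuotientGroup.eq_one_iff (N := Dn) (⟨t, s.hTM ht⟩ : M)).1 h)
    have h2 := hrel ⟨t, s.hTM ht⟩
    rwa [h1, hia] at h2
  · rw [hrel y, hiy]
  · have h1 : (⟨v, hv⟩ : s.V) ∈ fixS ρ {π y} := mem_fixS.2 (Subtype.ext (by
      rw [hρ, hρ₀]
      show (y : G) * v * (y : G)⁻¹ = v
      rw [hc, mul_inv_cancel_right]))
    have h2 := congrArg Subtype.val (hfM _ h1 (π ⟨m, hm⟩))
    rw [hρ, hρ₀] at h2
    exact mul_inv_eq_iff_eq_mul.1 h2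
  · have h1 : π ⟨t, s.hTM ht⟩ = a :=
      (hTa _ ⟨_, ht, rfl⟩).resolve_left fun h =>
        htD ((QuotientGroup.eq_one_iff (N := Dn) (⟨t, s.hTM ht⟩ : M)).1 h)
    have h2 : (⟨t, s.hTM ht⟩ * y * (⟨t, s.hTM ht⟩ : M)⁻¹ * y : M) ∈ Dn := by
      rw [← hπker, MonoidHom.mem_ker, map_mul, map_mul, map_mul, map_inv, h1]
      exact hinvy
    exact h2

end Setting

end Cfsg.Agent.LenEight
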