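import Cfsg.Agent.Lib.LenEight.Frame
import Cfsg.Agent.Lib.Transfer.Fusion

/-!
The complement has order at most four, and the swapping element can be taken to be an involution
centralising `V ∩ E`.
-/

set_option autoImplicit false
set_option linter.style.haveILetI false
set_option linter.unusedSectionVars false
set_option linter.unusedVariables false

namespace Cfsg.Agent.LenEight

open Cfsg.Agent

universe u

variable {G : Type u} [Group G] [Finite G] [IsSimpleGroup G] {s : Setting G}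

namespace Frame

variable (F : Frame s)

theorem central_T {v : G} (hv : v ∈ s.V) (hE : v ∈ F.sw.E) {t : G} (ht : t ∈ s.T) : t * v = v * t := by
  have hle : s.D ⊔ Subgroup.zpowers F.b ≤ Subgroup.centralizer ({v} : Set G) :=
    sup_le (fun d hd => Subgroup.mem_centralizer_singleton_iff.2 (s.V_comm hd hv))
      (Subgroup.zpowers_le.2 (Subgroup.mem_centralizer_singleton_iff.2 (F.b_comm_E hE).symm))
  rw [F.sh.sup_eq_T F.b_mem_T F.hbD] at hle
  exact Subgroup.mem_centralizer_singleton_iff.1 (hle ht)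

theorem mem_of_central {v : G} (h1 : v * v = 1) (hc : ∀ t ∈ s.T, t * v = v * t) :
    v ∈ s.V ∧ v ∈ F.sw.E := by
  have hv := s.mem_V_of_central h1 hc
  exact ⟨hv, (F.comm_b_iff (s.V_le_D hv)).1 (hc _ F.b_mem_T).symm⟩

theorem V_cases {v : G} (hv : v ∈ s.V) : ∃ ω ∈ F.W, ∃ d₀ ∈ F.D₀, d₀ ∈ s.V ∧ v = ω * d₀ := by
  obtain ⟨ω, hω, d₀, hd₀, rfl⟩ := F.D_cases (s.V_le_D hv)
  refine ⟨ω, hω, d₀, hd₀, ?_, rfl⟩
  have := mul_mem (inv_mem (F.W_le_V hω)) hv
  rwa [inv_mul_cancel_left] at this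

theorem mem_V_of_D₀ {x : G} (hx : x ∈ F.D₀) (h1 : x * x = 1) (hc : ∀ d ∈ F.D₀, d * x = x * d) :
    x ∈ s.V := by
  refine ⟨F.D₀_le_D hx, h1, fun d hd => ?_⟩
  obtain ⟨ω, hω, d₀, hd₀, rfl⟩ := F.D_cases hd
  exact (Commute.mul_left (s.V_comm (F.D₀_le_D hx) (F.W_le_V hω)).symm (hc d₀ hd₀)).eq

include F in
theorem T_le_normalizer_D₀_D {t : G} (ht : t ∈ s.T) {d : G} (hd : d ∈ s.D) : t * d * t⁻¹ ∈ s.D :=
  (Subgroup.mem_normalizer_iff.1 (s.M_le_normalizer_D (s.hTM ht)) d).1 hd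

/-- An involution of `V ∩ D₀` fixed by `g` forces `k ≤ 5`. -/
theorem k_le_five {e : G} (he1 : e ≠ 1) (heV : e ∈ s.V) (heD : e ∈ F.D₀)
    (hg : F.sw.g * e = e * F.sw.g) : s.k ≤ 5 := by
  set C := Subgroup.centralizer ({e} : Set G) with hC
  have hMC : s.M ≤ C := fun m hm =>
    Subgroup.mem_centralizer_singleton_iff.2 (F.central_of_mem heV heD hm)
  have hlt : s.M < C := lt_of_le_of_ne hMC fun h => F.sw.hgT (by
    have hgM : F.sw.g ∈ s.M := h ▸ Subgroup.mem_centralizer_singleton_iff.2 hg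
    have hsub : s.T ⊔ Subgroup.zpowers F.sw.g ≤ (s.S : Subgroup G) :=
      sup_le s.hTS (Subgroup.zpowers_le.2 F.sw.hgS)
    have hbig := s.big s.fam (s.S.isPGroup'.to_le hsub) (sup_le s.hTM (Subgroup.zpowers_le.2 hgM))
    rw [Subgroup.eq_of_le_of_card_ge le_sup_left hbig]
    exact Subgroup.mem_sup_right (Subgroup.mem_zpowers _))
  have := s.h.le (s.h.centralizer_ne_top he1) (((hasLen_of_card s.hTc).step s.T_lt).step hlt)
  omega

theorem exists_fixed (h4 : 4 ≤ Nat.card F.D₀) :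
    ∃ e : G, e ≠ 1 ∧ e ∈ s.V ∧ e ∈ F.D₀ ∧ F.sw.g * e = e * F.sw.g := by
  classical
  set g := F.sw.g with hg
  by_cases hexp : ∀ d ∈ F.D₀, d * d = 1
  · -- elementary: the fixed points in the centre of `T` meet `D₀`
    have hV : ∀ d ∈ F.D₀, d ∈ s.V := fun d hd =>
      F.mem_V_of_D₀ hd (hexp d hd) fun c hc => comm_of_exp_two hexp hc hd
    have hcen : ∀ d ∈ F.D₀, d ∈ omegaZ s.T := fun d hd =>
      ⟨s.D_le_T (F.D₀_le_D hd), hexp d hd, fun t ht => F.central_T (hV d hd) (F.D₀_le_E hd) ht⟩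
    let f : G → G := fun d => d * (g * d * g⁻¹)
    have hf : ∀ d ∈ F.D₀, f d ∈ omegaZ s.T := fun d hd =>
      mul_mem (hcen d hd) (omegaZ_conj F.sw.hgN (hcen d hd))
    have hfg : ∀ d ∈ F.D₀, g * f d = f d * g := by
      intro d hd
      rw [← mul_inv_eq_iff_eq_mul]
      have hcd : g * (g * d * g⁻¹) * g⁻¹ = d := by
        calc g * (g * d * g⁻¹) * g⁻¹ = (g * g) * d * (g * g)⁻¹ := by group
          _ = d := by rw [(hcen d hd).2.2 _ F.sw.hg2, mul_inv_cancel_right]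
      calc g * (d * (g * d * g⁻¹)) * g⁻¹ = (g * d * g⁻¹) * (g * (g * d * g⁻¹) * g⁻¹) := by group
        _ = d * (g * d * g⁻¹) := by
          rw [hcd]
          exact ((omegaZ_conj F.sw.hgN (hcen d hd)).2.2 d (hcen d hd).1).symm
    by_contra hno
    push Not at hno
    have hone : ∀ d ∈ F.D₀, d ≠ 1 → f d ≠ 1 := by
      intro d hd hd1 h
      refine hno d hd1 (hV d hd) hd ?_
      have h1 : g * d * g⁻¹ = d := by
        have := eq_inv_of_mul_eq_one_right h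
        rwa [inv_eq_of_mul_eq_one_right (hexp d hd)] at this
      exact mul_inv_eq_iff_eq_mul.1 h1
    have hout : ∀ d ∈ F.D₀, d ≠ 1 → ∃ c ∈ F.D₀, f d = F.w * c := by
      intro d hd hd1
      have hfd := hf d hd
      obtain ⟨hvV, hvE⟩ := F.mem_of_central hfd.2.1 hfd.2.2
      obtain ⟨c, hc, h | h⟩ := F.I_cases (s.V_le_D hvV) hvE
      · exact absurd (hfg d hd) (hno _ (hone d hd hd1) hvV (h ▸ hc))
      · exact ⟨c, hc, h⟩
    haveI := Fintype.ofFinite F.D₀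
    obtain ⟨d₁, d₂, hd₁, hd₂, hne⟩ : ∃ d₁ d₂ : F.D₀, d₁ ≠ 1 ∧ d₂ ≠ 1 ∧ d₁ ≠ d₂ := by
      obtain ⟨d₁, h1⟩ : ∃ d : F.D₀, d ≠ 1 := by
        haveI : Nontrivial F.D₀ := Finite.one_lt_card_iff_nontrivial.1 (by omega)
        exact exists_ne 1
      obtain ⟨d₂, -, h2⟩ := Finset.exists_mem_notMem_of_card_lt_card
        (s := ({1, d₁} : Finset F.D₀)) (t := Finset.univ) (by
          rw [Finset.card_pair h1.symm, Finset.card_univ, ← Nat.card_eq_fintype_card]; omega)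
      simp only [Finset.mem_insert, Finset.mem_singleton, not_or] at h2
      exact ⟨d₁, d₂, h1, h2.1, Ne.symm h2.2⟩
    obtain ⟨c₁, hc₁, e1⟩ := hout d₁ d₁.2 fun h => hd₁ (Subtype.ext h)
    obtain ⟨c₂, hc₂, e2⟩ := hout d₂ d₂.2 fun h => hd₂ (Subtype.ext h)
    have hd12 : ((d₁ : G) * d₂) ≠ 1 := fun h => hne (Subtype.ext (by
      rw [← inv_eq_of_mul_eq_one_right h, inv_eq_of_mul_eq_one_right (hexp _ d₁.2)]))
    have hmul : f ((d₁ : G) * d₂) = f d₁ * f d₂ := by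
      have hc := (omegaZ_conj F.sw.hgN (hcen _ d₁.2)).2.2 (d₂ : G) (hcen _ d₂.2).1
      calc (d₁ : G) * d₂ * (g * ((d₁ : G) * d₂) * g⁻¹)
          = d₁ * ((d₂ : G) * (g * d₁ * g⁻¹)) * (g * d₂ * g⁻¹) := by group
        _ = _ := by rw [hc]; simp only [f, hg]; group
    have hin : f ((d₁ : G) * d₂) ∈ F.D₀ := by
      rw [hmul, e1, e2]
      have : F.w * c₁ * (F.w * c₂) = c₁ * c₂ := by
        calc F.w * c₁ * (F.w * c₂) = (F.w * (c₁ * F.w)) * c₂ := by group
          _ = c₁ * c₂ := by rw [s.V_comm (F.D₀_le_D hc₁) F.w_V, ← mul_assoc, F.w_sq, one_mul]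
      rw [this]; exact mul_mem hc₁ hc₂
    exact hno _ (hone _ (mul_mem d₁.2 d₂.2) hd12) (hV _ hin) hin (hfg _ (mul_mem d₁.2 d₂.2))
  · -- otherwise use the subgroup generated by squares
    push Not at hexp
    obtain ⟨x, hx, hxx⟩ := hexp
    set Q := Subgroup.closure ((fun d => d * d) '' (F.D₀ : Set G)) with hQ
    have hQD : Q ≤ F.D₀ := (Subgroup.closure_le _).2 (by rintro _ ⟨d, hd, rfl⟩; exact mul_mem hd hd)
    have hsqD : ∀ d ∈ s.D, d * d ∈ Q := by
      intro d hd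
      obtain ⟨ω, hω, d₀, hd₀, rfl⟩ := F.D_cases hd
      refine Subgroup.subset_closure ⟨d₀, hd₀, ?_⟩
      have hc := s.V_comm (F.D₀_le_D hd₀) (F.W_le_V hω)
      calc d₀ * d₀ = (ω * ω) * (d₀ * d₀) := by rw [s.V_sq _ (F.W_le_V hω), one_mul]
        _ = ω * (ω * d₀) * d₀ := by group
        _ = ω * (d₀ * ω) * d₀ := by rw [hc]
        _ = ω * d₀ * (ω * d₀) := by group
    have hsqE : ∀ e ∈ F.sw.E, e * e ∈ Q := by
      intro e he
      by_cases heD : e ∈ s.D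
      · exact hsqD e heD
      · have h1 : e * F.b ∈ s.D := (F.sh.mul_mem_D (F.sw.E_le he) F.b_mem_T).2 (iff_of_false heD F.hbD)
        have h2 := F.b_comm_E he
        have : e * e = (e * F.b) * (e * F.b) := by
          calc e * e = e * e * (F.b * F.b) := by rw [F.b_sq, mul_one]
            _ = e * (e * F.b) * F.b := by group
            _ = e * (F.b * e) * F.b := by rw [h2]
            _ = _ := by group
        rw [this]; exact hsqD _ h1
    have hnorm : ∀ c : G, (∀ d ∈ F.D₀, c * d * c⁻¹ ∈ s.D ∨ c * d * c⁻¹ ∈ F.sw.E) →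
        c ∈ Subgroup.normalizer (Q : Set G) := by
      intro c hc
      refine mem_normalizer_of_cjg (Subgroup.eq_of_le_of_card_ge ?_ (card_cjg _ _).ge)
      rw [cjg, hQ, MonoidHom.map_closure, Subgroup.closure_le]
      rintro _ ⟨_, ⟨d, hd, rfl⟩, rfl⟩
      show c * (d * d) * c⁻¹ ∈ Q
      rw [show c * (d * d) * c⁻¹ = c * d * c⁻¹ * (c * d * c⁻¹) by group]
      exact (hc d hd).elim (hsqD _) (hsqE _)
    have hgQ := hnorm g fun d hd => Or.inr (conj_mem_cjg (F.D₀_le_D hd))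
    have hTQ : s.T ≤ Subgroup.normalizer (Q : Set G) := fun t ht =>
      hnorm t fun d hd => Or.inl (F.T_le_normalizer_D₀_D ht (F.D₀_le_D hd))
    have hQ1 : Q ≠ ⊥ := fun h => hxx (by
      have : x * x ∈ Q := Subgroup.subset_closure ⟨x, hx, rfl⟩
      rwa [h, Subgroup.mem_bot] at this)
    obtain ⟨e, he, he1, hee, hc⟩ := exists_fixed_involution
      (U := s.T ⊔ Subgroup.zpowers g)
      (s.S.isPGroup'.to_le (sup_le s.hTS (Subgroup.zpowers_le.2 F.sw.hgS)))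
      (s.D_isPGroup.to_le (hQD.trans F.D₀_le_D)) hQ1 (sup_le hTQ (Subgroup.zpowers_le.2 hgQ))
    exact ⟨e, he1, (F.mem_of_central hee fun t ht => hc t (Subgroup.mem_sup_left ht)).1, hQD he,
      hc g (Subgroup.mem_sup_right (Subgroup.mem_zpowers g))⟩

theorem card_T_eq : Nat.card s.T = 8 * Nat.card F.D₀ := by
  rw [F.sh.card_T, F.card_D.1]; ring

theorem card_D₀_cases : Nat.card F.D₀ = 1 ∨ Nat.card F.D₀ = 2 ∨ Nat.card F.D₀ = 4 := by
  haveI : Fact (Nat.Prime 2) := ⟨Nat.prime_two⟩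
  obtain ⟨j, hj⟩ := IsPGroup.iff_card.1 (s.D_isPGroup.to_le F.D₀_le_D)
  have hT := F.card_T_eq
  rw [s.hTc, hj, show (8 : ℕ) = 2 ^ 3 from rfl, ← pow_add] at hT
  have hk := Nat.pow_right_injective le_rfl hT
  have hk6 := s.k_le
  have hj2 : j ≤ 2 := by
    by_contra h
    obtain ⟨e, h1, h2, h3, h4⟩ := F.exists_fixed (by
      rw [hj]; exact le_trans (by norm_num) (Nat.pow_le_pow_right two_pos (show 3 ≤ j by omega)))
    have := F.k_le_five h1 h2 h3 h4
    omega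
  rw [hj]
  interval_cases j <;> simp

theorem D₀_comm {a c : G} (ha : a ∈ F.D₀) (hc : c ∈ F.D₀) : a * c = c * a := by
  haveI : Fact (Nat.Prime 2) := ⟨Nat.prime_two⟩
  rcases F.card_D₀_cases with h | h | h
  · rw [Subgroup.card_eq_one] at h
    rw [h, Subgroup.mem_bot] at ha
    rw [ha, one_mul, mul_one]
  · haveI : IsCyclic F.D₀ := isCyclic_of_prime_card (p := 2) h
    letI : CommGroup F.D₀ := IsCyclic.commGroup
    exact congrArg Subtype.val (mul_comm (⟨a, ha⟩ : F.D₀) ⟨c, hc⟩)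
  · haveI := IsPGroup.isMulCommutative_of_card_eq_prime_sq (G := F.D₀) (p := 2) (by rw [h]; rfl)
    exact congrArg Subtype.val (mul_comm' (⟨a, ha⟩ : F.D₀) ⟨c, hc⟩)

include F in
theorem D_comm {a c : G} (ha : a ∈ s.D) (hc : c ∈ s.D) : a * c = c * a := by
  obtain ⟨ω, hω, x, hx, rfl⟩ := F.D_cases ha
  obtain ⟨ω', hω', x', hx', rfl⟩ := F.D_cases hc
  exact (Commute.mul_left
    (s.V_comm (mul_mem (s.V_le_D (F.W_le_V hω')) (F.D₀_le_D hx')) (F.W_le_V hω)).symm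
    (Commute.mul_right (s.V_comm (F.D₀_le_D hx) (F.W_le_V hω')) (F.D₀_comm hx hx'))).eq

include F in
theorem mem_V_of_D {x : G} (hx : x ∈ s.D) (h : x * x = 1) : x ∈ s.V :=
  ⟨hx, h, fun d hd => F.D_comm hd hx⟩

theorem mem_V'_of_E {x : G} (hx : x ∈ F.sw.E) (h : x * x = 1) : x ∈ F.sw.V' := by
  obtain ⟨a, ha, rfl⟩ := hx
  refine conj_mem_cjg (F.mem_V_of_D ha ?_)
  apply (MulAut.conj F.sw.g).injective
  rw [map_mul, map_one]
  exact h

/-- An involution of `T` lies in `V` or in its conjugate. -/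
theorem invol_cases {x : G} (hx : x ∈ s.T) (h : x * x = 1) : x ∈ s.V ∨ x ∈ F.sw.V' := by
  by_cases hD : x ∈ s.D
  · exact Or.inl (F.mem_V_of_D hD h)
  by_cases hE : x ∈ F.sw.E
  · exact Or.inr (F.mem_V'_of_E hE h)
  exfalso
  obtain ⟨d, hd, he⟩ := F.sq_of_not_mem hx hD hE
  rw [h] at he
  refine F.w_not_D₀ ?_
  rw [eq_inv_of_mul_eq_one_left he.symm]
  exact inv_mem (mul_mem hd hd)

theorem conj_eq {c : G} (hc : cjg c s.V ≤ s.T) : cjg c s.V = s.V ∨ cjg c s.V = F.sw.V' := by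
  have hsq : ∀ x ∈ cjg c s.V, x * x = 1 := by
    rintro _ ⟨a, ha, rfl⟩; rw [← map_mul, s.V_sq a ha, map_one]
  by_cases h1 : cjg c s.V ≤ s.V
  · exact Or.inl (Subgroup.eq_of_le_of_card_ge h1 (card_cjg _ _).ge)
  refine Or.inr (Subgroup.eq_of_le_of_card_ge (fun x hx => ?_)
    (show Nat.card (cjg F.sw.g s.V) ≤ _ by rw [card_cjg, card_cjg]))
  obtain ⟨a, ha, haV⟩ := SetLike.not_le_iff_exists.1 h1
  have haV' := (F.invol_cases (hc ha) (hsq a ha)).resolve_left haV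
  by_contra hxV'
  have hxV := (F.invol_cases (hc hx) (hsq x hx)).resolve_right hxV'
  rcases F.invol_cases (hc (mul_mem ha hx)) (hsq _ (mul_mem ha hx)) with h | h
  · exact haV (by simpa using mul_mem h (inv_mem hxV))
  · exact hxV' (by simpa using mul_mem (inv_mem haV') h)

theorem card_VE : 2 * Nat.card ↥(s.V ⊓ F.sw.E) = Nat.card s.V := by
  have hidx : (((s.V ⊓ F.sw.E)).subgroupOf s.V).index = 2 := by
    rw [Subgroup.index_eq_two_iff']
    refine ⟨⟨F.w', F.w'_V⟩, fun ⟨v, hv⟩ => ?_⟩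
    simp only [Subgroup.mem_subgroupOf, Subgroup.coe_mul, Subgroup.mem_inf, hv, true_and,
      mul_mem F.w'_V hv]
    have h := F.sw.inf_mem_iff F.sh F.w'_D (s.V_le_D hv)
    rw [iff_false_left F.w'_not_E] at h
    by_cases hvE : v ∈ F.sw.E
    · exact Or.inr ⟨hvE, fun hh => h.1 hh hvE⟩
    · exact Or.inl ⟨h.2 hvE, hvE⟩
  have h1 := Subgroup.card_mul_index ((s.V ⊓ F.sw.E).subgroupOf s.V)
  rw [hidx, Nat.card_congr (Subgroup.subgroupOfEquivOfLe inf_le_left).toEquiv, mul_comm] at h1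
  exact h1

/-- `T⟨g⟩`. -/
def U : Subgroup G where
  carrier := {x | x ∈ s.T ∨ x * F.sw.g ∈ s.T}
  one_mem' := Or.inl (one_mem _)
  mul_mem' := fun {a c} ha hc => by
    have hn := fun t => Subgroup.mem_normalizer_iff.1 F.sw.hgN t
    have hn' := fun t => Subgroup.mem_normalizer_iff''.1 F.sw.hgN t
    rcases ha with ha | ha <;> rcases hc with hc | hc
    · exact Or.inl (mul_mem ha hc)
    · exact Or.inr (by rw [mul_assoc]; exact mul_mem ha hc)
    · refine Or.inr ?_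
      rw [show a * c * F.sw.g = a * F.sw.g * (F.sw.g⁻¹ * c * F.sw.g) by group]
      exact mul_mem ha ((hn' c).1 hc)
    · refine Or.inl ?_
      rw [show a * c = a * F.sw.g * (F.sw.g⁻¹ * (c * F.sw.g) * F.sw.g) * (F.sw.g * F.sw.g)⁻¹ by group]
      exact mul_mem (mul_mem ha ((hn' _).1 hc)) (inv_mem F.sw.hg2)
  inv_mem' := fun {a} ha => by
    rcases ha with ha | ha
    · exact Or.inl (inv_mem ha)
    · refine Or.inr ?_
      rw [show a⁻¹ * F.sw.g = F.sw.g * (a * F.sw.g)⁻¹ * F.sw.g⁻¹ * (F.sw.g * F.sw.g) by group]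
      exact mul_mem ((Subgroup.mem_normalizer_iff.1 F.sw.hgN _).1 (inv_mem ha)) F.sw.hg2

theorem T_le_U : s.T ≤ F.U := fun _ h => Or.inl h

theorem g_mem_U : F.sw.g ∈ F.U := Or.inr F.sw.hg2

theorem U_le_S : F.U ≤ (s.S : Subgroup G) := by
  rintro x (hx | hx)
  · exact s.hTS hx
  · rw [show x = (x * F.sw.g) * F.sw.g⁻¹ by group]
    exact mul_mem (s.hTS hx) (inv_mem F.sw.hgS)

theorem card_U : Nat.card F.U ≤ 2 * Nat.card s.T := by
  classical
  let f : s.T × Bool → F.U := fun p =>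
    if p.2 then ⟨p.1, F.T_le_U p.1.2⟩ else
      ⟨p.1 * F.sw.g⁻¹, mul_mem (F.T_le_U p.1.2) (inv_mem F.g_mem_U)⟩
  have hf : Function.Surjective f := by
    rintro ⟨x, hx | hx⟩
    · exact ⟨(⟨x, hx⟩, true), rfl⟩
    · exact ⟨(⟨x * F.sw.g, hx⟩, false), Subtype.ext (mul_inv_cancel_right x F.sw.g)⟩
  have := Nat.card_le_card_of_surjective f hf
  rwa [Nat.card_prod, Nat.card_eq_fintype_card (α := Bool), Fintype.card_bool, mul_comm] at this

theorem cjg_swap {j : G} (hjU : j ∈ F.U) (hjT : j ∉ s.T) : cjg j s.D = F.sw.E := by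
  have hj : j * F.sw.g ∈ s.T := hjU.resolve_left hjT
  have h1 : cjg F.sw.g⁻¹ s.D = F.sw.E := by
    conv_lhs => rw [← F.sw.cjg_E, cjg_cjg, inv_mul_cancel]
    ext x; rw [mem_cjg, inv_one, one_mul, mul_one]
  rw [show j = j * F.sw.g * F.sw.g⁻¹ by group, ← cjg_cjg, h1, cjg_eq (F.sw.T_le_normalizer_E hj)]

/-- An involution outside `T` centralising `V ∩ E`. -/
theorem exists_invol : ∃ j ∈ F.U, j ∉ s.T ∧ j * j = 1 ∧ ∀ x ∈ s.V ⊓ F.sw.E, j * x = x * j := by
  haveI : Fact (Nat.Prime 2) := ⟨Nat.prime_two⟩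
  have hUlt : F.U < (s.S : Subgroup G) := F.U_le_S.lt_of_ne fun e => by
    have h1 := F.card_U
    rw [e, s.h.card, F.card_T_eq] at h1
    rcases F.card_D₀_cases with h | h | h <;> rw [h] at h1 <;> omega
  obtain ⟨h, ⟨hhS, hhN⟩, hhU⟩ :=
    SetLike.exists_of_lt (Fusion.lt_inf_normalizer (Fusion.sylow_isNilpotent s.S) hUlt)
  have hEU : cjg h s.V ≤ F.U := by
    rintro _ ⟨a, ha, rfl⟩
    exact (Subgroup.mem_normalizer_iff.1 hhN a).1 (F.T_le_U (s.V_le_T ha))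
  have hET : ¬ cjg h s.V ≤ s.T := by
    intro hle
    rcases F.conj_eq hle with e | e
    · exact hhU (F.T_le_U ((s.key s.z_mem_V s.V_isPGroup s.M_le_normalizer_V).le
        ⟨hhS, mem_normalizer_of_cjg e⟩))
    · have h1 : F.sw.g⁻¹ * h ∈ s.T := (s.key s.z_mem_V s.V_isPGroup s.M_le_normalizer_V).le
        (Subgroup.mem_inf.2 ⟨(s.S : Subgroup G).mul_mem ((s.S : Subgroup G).inv_mem F.sw.hgS) hhS,
          mem_normalizer_of_cjg (by
          rw [← cjg_cjg, e, Setting.Swap.V', cjg_cjg, inv_mul_cancel]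
          ext x; rw [mem_cjg, inv_one, one_mul, mul_one])⟩)
      exact hhU (by simpa using mul_mem F.g_mem_U (F.T_le_U h1))
  obtain ⟨j, hj, hjT⟩ := SetLike.not_le_iff_exists.1 hET
  have hsq : ∀ x ∈ cjg h s.V, x * x = 1 := by
    rintro _ ⟨a, ha, rfl⟩; rw [← map_mul, s.V_sq a ha, map_one]
  refine ⟨j, hEU hj, hjT, hsq j hj, ?_⟩
  have hle : cjg h s.V ⊓ s.T ≤ s.V ⊓ F.sw.E := by
    intro x hx
    have hxx := hsq x hx.1
    have hfix : j * x * j⁻¹ = x := by rw [comm_of_exp_two hsq hj hx.1, mul_inv_cancel_right]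
    have hxDE : x ∈ s.D ∧ x ∈ F.sw.E := by
      rcases F.invol_cases hx.2 hxx with hxV | hxV'
      · have hxD := s.V_le_D hxV
        refine ⟨hxD, ?_⟩
        rw [← F.cjg_swap (hEU hj) hjT, ← hfix]
        exact conj_mem_cjg hxD
      · have hxE := F.sw.V'_le_E hxV'
        refine ⟨?_, hxE⟩
        rw [← F.cjg_swap (hEU hj) hjT, mem_cjg] at hxE
        rwa [show j⁻¹ * x * j = x by
          conv_lhs => arg 1; arg 2; rw [← hfix]
          group] at hxE
    exact ⟨F.mem_V_of_D hxDE.1 hxx, hxDE.2⟩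
  have hcard : Nat.card ↥(s.V ⊓ F.sw.E) ≤ Nat.card ↥(cjg h s.V ⊓ s.T) := by
    have h1 := Product.card_mul_card_le (cjg h s.V) s.T
    have h2 : Nat.card ↥(cjg h s.V ⊔ s.T) ≤ 2 * Nat.card s.T :=
      (Subgroup.card_le_of_le (sup_le hEU F.T_le_U)).trans F.card_U
    rw [card_cjg, ← F.card_VE] at h1
    have hpos : 0 < Nat.card s.T := Nat.card_pos
    nlinarith
  intro x hx
  rw [← Subgroup.eq_of_le_of_card_ge hle hcard] at hx
  exact comm_of_exp_two hsq hj hx.1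

end Frame

/-- A frame with an involution as swapping element. -/
structure IFrame (s : Setting G) extends Frame s where
  g_sq : sw.g * sw.g = 1
  g_fix : ∀ x ∈ s.V ⊓ sw.E, sw.g * x = x * sw.g
  b_eq : b = sw.g * toFrame.w' * sw.g

theorem Frame.iframe_of_invol (F : Frame s) {j : G} (hjU : j ∈ F.U) (hjT : j ∉ s.T) (hjj : j * j = 1)
    (hfix : ∀ x ∈ s.V ⊓ F.sw.E, j * x = x * j) :
    ∃ F' : IFrame s, F'.sw.g = j ∧ F'.sh = F.sh ∧ F'.sw.E = F.sw.E ∧ F'.toFrame.w = F.w := by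
  have hjN : j ∈ Subgroup.normalizer (s.T : Set G) := by
    have h1 : j * F.sw.g ∈ s.T := hjU.resolve_left hjT
    rw [show j = j * F.sw.g * F.sw.g⁻¹ by group]
    exact mul_mem (Subgroup.le_normalizer h1) (inv_mem F.sw.hgN)
  let sw' : s.Swap := ⟨j, F.U_le_S hjU, hjT, hjN, by rw [hjj]; exact one_mem _⟩
  have hE : sw'.E = F.sw.E := F.cjg_swap hjU hjT
  have hjinv : j⁻¹ = j := inv_eq_of_mul_eq_one_right hjj
  have hb : j * F.w' * j ∈ sw'.V' := by
    have := conj_mem_cjg (g := j) F.w'_V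
    rwa [hjinv] at this
  have hbD : j * F.w' * j ∉ s.D := fun h => by
    have hbE : j * F.w' * j ∈ F.sw.E := hE ▸ sw'.V'_le_E hb
    have h2 : j * F.w' * j ∈ s.V := F.mem_V_of_D h (by
      calc j * F.w' * j * (j * F.w' * j) = j * F.w' * (j * j) * F.w' * j := by group
        _ = 1 := by rw [hjj, mul_one, mul_assoc j, F.w'_sq, mul_one, hjj])
    have h3 := hfix _ ⟨h2, hbE⟩
    apply F.w'_not_E
    have e : F.w' = j * F.w' * j := by
      calc F.w' = (j * j) * F.w' * (j * j) := by rw [hjj]; group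
        _ = j * (j * F.w' * j) * j := by group
        _ = j * F.w' * j * (j * j) := by rw [h3]; group
        _ = j * F.w' * j := by rw [hjj, mul_one]
    rw [e]; exact hbE
  let F' : Frame s := ⟨F.sh, sw', j * F.w' * j, hb, hbD⟩
  have hWW : F'.W = F.W := rfl
  have hw : F'.w = F.w := by
    rcases F.W_cases (hWW ▸ F'.w_W) with h | h | h | h
    · exact absurd h F'.w_ne
    · exact h
    · exact absurd (h ▸ hE ▸ F'.w_E) F.w'_not_E
    · refine absurd ?_ F.w'_not_E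
      have := mul_mem F.w_E (h ▸ hE ▸ F'.w_E : F.w * F.w' ∈ F.sw.E)
      rwa [← mul_assoc, F.w_sq, one_mul] at this
  refine ⟨{ toFrame := F', g_sq := hjj, g_fix := fun x hx => hfix x (hE ▸ hx), b_eq := ?_ }, rfl, rfl, hE, hw⟩
  show j * F.w' * j = j * F'.w' * j
  rw [show F'.w' = F.w' from by rw [Frame.w', Frame.w', hw]]

theorem exists_iframe (sh : s.Shape) (sw : s.Swap) : Nonempty (IFrame s) := by
  obtain ⟨F, -, -⟩ := exists_frame sh sw
  obtain ⟨j, hjU, hjT, hjj, hfix⟩ := F.exists_invol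
  obtain ⟨F', -⟩ := F.iframe_of_invol hjU hjT hjj hfix
  exact ⟨F'⟩

end Cfsg.Agent.LenEight
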